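import Mathlib

/-!
# F42: coordinates for the parabolic subgroups of `²F₄(q)`

Generators of the Sylow 2-subgroup `U` (index: name)
`0:a1 1:y2 2:z2 3:a3 4:y4 5:z4 6:a5 7:y6 8:z6 9:a7 10:y8 11:z8`.
-/

set_option autoImplicit false

namespace CfsgLib.F42

open Subgroup

/-- exponents of the monomial `t^a (σ t)^b u^c (σ u)^d` -/
abbrev Mn : Type := ℕ × ℕ × ℕ × ℕ

/-- the correction words of the addition (`j = k`) and commutation (`j < k`) rules -/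
def cwT : Fin 12 → Fin 12 → List (Fin 12 × Mn)
  | 1, 1 => [(2, 1, 0, 0, 1)]
  | 4, 4 => [(5, 1, 0, 0, 1)]
  | 7, 7 => [(8, 1, 0, 0, 1)]
  | 10, 10 => [(11, 1, 0, 0, 1)]
  | 0, 4 => [(2, 1, 0, 1, 0)]
  | 0, 7 => [(2, 0, 1, 1, 0), (3, 1, 0, 0, 1)]
  | 0, 8 => [(5, 1, 0, 1, 0)]
  | 0, 9 => [(3, 0, 1, 1, 0), (6, 1, 0, 0, 1)]
  | 0, 10 => [(1, 1, 0, 1, 0), (3, 1, 1, 2, 1), (5, 2, 1, 3, 2), (6, 1, 1, 2, 2), (7, 1, 0, 1, 1), (8, 1, 1, 3, 2), (9, 1, 0, 2, 1)]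
  | 0, 11 => [(2, 1, 1, 1, 0), (3, 1, 1, 0, 1), (4, 0, 1, 1, 0), (5, 2, 1, 1, 1), (6, 1, 1, 2, 0), (7, 1, 0, 1, 0), (9, 1, 0, 0, 1)]
  | 1, 4 => [(3, 1, 0, 1, 0)]
  | 1, 6 => [(5, 1, 0, 1, 0)]
  | 1, 9 => [(5, 1, 1, 1, 0), (6, 0, 1, 1, 0), (8, 1, 0, 0, 1)]
  | 1, 10 => [(3, 1, 1, 1, 0), (4, 0, 1, 1, 0), (5, 2, 1, 1, 1), (7, 1, 0, 0, 1)]
  | 1, 11 => [(5, 2, 1, 1, 0), (8, 1, 1, 0, 1), (9, 1, 0, 1, 0)]
  | 2, 9 => [(5, 1, 0, 1, 0)]
  | 2, 10 => [(3, 1, 0, 1, 0), (6, 1, 0, 1, 1), (8, 1, 0, 2, 1)]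
  | 2, 11 => [(5, 0, 1, 1, 0), (6, 1, 0, 1, 0), (8, 1, 0, 0, 1)]
  | 3, 7 => [(5, 1, 0, 1, 0)]
  | 3, 10 => [(5, 0, 1, 1, 0), (6, 1, 0, 0, 1)]
  | 3, 11 => [(8, 1, 0, 1, 0)]
  | 4, 7 => [(6, 1, 0, 1, 0)]
  | 4, 9 => [(8, 1, 0, 1, 0)]
  | 6, 10 => [(8, 1, 0, 1, 0)]
  | 7, 10 => [(9, 1, 0, 1, 0)]
  | _, _ => []

/-- action of `n8` on the generators of `Q` -/
def p8 : Fin 12 → Fin 12 := ![9, 7, 8, 6, 4, 5, 3, 1, 2, 0, 10, 11]

/-- action of `n1` on the generators of `R` -/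
def p1 : Fin 12 → Fin 12 := ![0, 10, 11, 9, 7, 8, 6, 4, 5, 3, 1, 2]

/-- exponents of the characters of the torus -/
def chiT : Fin 12 → Mn := ![(1, 0, 0, 0), (1, 0, 1, 0), (1, 1, 1, 1), (1, 1, 2, 1), (0, 1, 1, 1), (2, 1, 3, 2),
  (1, 1, 2, 2), (1, 0, 1, 1), (1, 1, 3, 2), (1, 0, 2, 1), (0, 0, 1, 0), (0, 0, 1, 1)]

/-- exponents of the characters of `H8` in `l, σ l, l⁻¹, σ l⁻¹` -/
def w8T : Fin 12 → Mn := ![(1, 1, 0, 0), (1, 0, 0, 0), (1, 1, 0, 0), (1, 0, 0, 0), (0, 0, 0, 0), (0, 0, 0, 0),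
  (0, 0, 1, 0), (0, 0, 1, 0), (0, 0, 1, 1), (0, 0, 1, 1), (0, 0, 0, 1), (0, 0, 2, 1)]

variable {K : Type*} [Field K]

def mon (σ : K →+* K) (t u : K) (m : Mn) : K := t ^ m.1 * σ t ^ m.2.1 * u ^ m.2.2.1 * σ u ^ m.2.2.2

def cw (σ : K →+* K) (j k : Fin 12) (t u : K) : List (Fin 12 × K) := (cwT j k).map fun m => (m.1, mon σ t u m.2)

/-- the character of the torus element `(α, β)` on the generator `j` -/
def chi (σ : K →+* K) (j : Fin 12) (α β : Kˣ) : K := mon σ α β (chiT j)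

/-- the character of `h8 l` on the generator `j` -/
def wt8 (σ : K →+* K) (j : Fin 12) (l : Kˣ) : K := mon σ l (l : K)⁻¹ (w8T j)

/-- `σ` on units -/
def su (σ : K →+* K) : Kˣ →* Kˣ := Units.map σ.toMonoidHom

variable {G : Type*} [Group G]

def ev (g : Fin 12 → K → G) (L : List (Fin 12 × K)) : G := (L.map fun p => g p.1 p.2).prod

/-- the normal form -/
def nfg (g : Fin 12 → K → G) (p : Fin 12 → K) : G :=
  g 0 (p 0) * (g 1 (p 1) * (g 2 (p 2) * (g 3 (p 3) * (g 4 (p 4) * (g 5 (p 5) * (g 6 (p 6) * (g 7 (p 7) *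
    (g 8 (p 8) * (g 9 (p 9) * (g 10 (p 10) * g 11 (p 11)))))))))))

/-- the data of the rank one relation of the Suzuki group -/
abbrev Sz (K : Type*) [Field K] : Type _ := K → K → (Fin 12 → K) × Kˣ × (Fin 12 → K)

/-- Coordinates for the centraliser `C` of a 2-central involution. -/
structure OC (σ : K →+* K) (sz : Sz K) (G : Type*) [Group G] where
  g : Fin 12 → K → G
  n8 : G
  h8 : Kˣ →* G
  ss : ∀ t, σ (σ t) = t ^ 2
  add : ∀ j t u, g j t * g j u = g j (t + u) * ev g (cw σ j j t u)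
  rel : ∀ j k, j < k → ∀ t u, g k u * g j t = g j t * (ev g (cw σ j k t u) * g k u)
  inj : Function.Injective (nfg g)
  n8_sq : n8 * n8 = 1
  n8_g : ∀ j, j < 10 → ∀ t, n8 * g j t * n8⁻¹ = g (p8 j) t
  h8_g : ∀ l j t, h8 l * g j t * (h8 l)⁻¹ = g j (wt8 σ j l * t)
  n8_h8 : ∀ l, n8 * h8 l * n8⁻¹ = (h8 l)⁻¹
  suz : ∀ s u, ¬ (s = 0 ∧ u = 0) →
    n8 * (g 10 s * g 11 u) * n8 = nfg g (sz s u).1 * h8 (sz s u).2.1 * n8 * nfg g (sz s u).2.2

/-- Coordinates for `C` and a torus. -/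
structure OT (σ : K →+* K) (sz : Sz K) (G : Type*) [Group G] extends OC σ sz G where
  h : Kˣ × Kˣ →* G
  h_g : ∀ α β j t, h (α, β) * g j t * (h (α, β))⁻¹ = g j (chi σ j α β * t)
  h_h8 : ∀ l, h (l * su σ l, (su σ l)⁻¹) = h8 l
  n8_h : ∀ α β, n8 * h (α, β) * n8⁻¹ = h (α * β ^ 2 * su σ β, β⁻¹)

/-- Coordinates for both parabolic subgroups, without the braid relation. -/
structure OP (σ : K →+* K) (sz : Sz K) (G : Type*) [Group G] extends OT σ sz G where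
  n1 : G
  n1_sq : n1 * n1 = 1
  n1_g : ∀ j, 0 < j → ∀ t, n1 * g j t * n1⁻¹ = g (p1 j) t
  tri : (g 0 1 * n1) ^ 3 = 1
  n1_h : ∀ α β, n1 * h (α, β) * n1⁻¹ = h (α⁻¹, α * β)

/-- `q > 2` -/
def Big (K : Type*) [Field K] : Prop := ∃ t : K, t ≠ 0 ∧ t ≠ 1

/-- `q = 2` -/
def Two (K : Type*) [Field K] : Prop := ∀ t : K, t = 0 ∨ t = 1

/-- the rank one relation for `q = 2` -/
def sz2 (K : Type*) [Field K] : Sz K := fun s u =>
  (![0, 0, 0, 0, 0, 0, 0, 0, 0, 0, s + u, u], 1, ![0, 0, 0, 0, 0, 0, 0, 0, 0, 0, u, s])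

/-- the order of the generators along the characteristic series of `U` -/
def ch : List (Fin 12) := [10, 11, 0, 1, 7, 9, 4, 2, 3, 6, 8, 5]

variable {σ : K →+* K} {sz : Sz K}

namespace OC

variable (O : OC σ sz G)

abbrev nf (p : Fin 12 → K) : G := nfg O.g p

/-- the 2-central involution `τ = z4(1)` -/
abbrev τ : G := O.g 5 1

/-- the subgroup generated by the generators with index in `S` -/
def pat (S : List (Fin 12)) : Subgroup G := closure {x | ∃ j ∈ S, ∃ t, O.g j t = x}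

abbrev U : Subgroup G := O.pat [0, 1, 2, 3, 4, 5, 6, 7, 8, 9, 10, 11]
abbrev Q : Subgroup G := O.pat [0, 1, 2, 3, 4, 5, 6, 7, 8, 9]
abbrev R : Subgroup G := O.pat [1, 2, 3, 4, 5, 6, 7, 8, 9, 10, 11]
abbrev E : Subgroup G := O.pat [2, 3, 5, 6, 8]
abbrev V : Subgroup G := O.pat [5, 8]
abbrev Z : Subgroup G := O.pat [5]
abbrev Ph : Subgroup G := O.pat [2, 3, 4, 5, 6, 8]
abbrev E1 : Subgroup G := O.pat [3, 5, 6, 8]
abbrev E2 : Subgroup G := O.pat [5, 6, 8]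
abbrev Z6 : Subgroup G := O.pat [8]
abbrev U4 : Subgroup G := O.pat [4, 5]
abbrev D3 : Subgroup G := O.pat [0, 2, 3, 4, 5, 6, 7, 8, 9, 11]
abbrev D2 : Subgroup G := O.pat [2, 3, 4, 5, 6, 7, 8, 9, 11]
abbrev W : Subgroup G := O.pat [3, 4, 5, 6, 7, 8, 9, 10, 11]
abbrev H8 : Subgroup G := O.h8.range
abbrev B8 : Subgroup G := O.U ⊔ O.H8

def C : Subgroup G := O.U ⊔ O.H8 ⊔ zpowers O.n8

/-- The hypotheses on the group `G`. -/
structure Hyp : Prop where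
  two : ∀ x ∈ centralizer ({O.τ} : Set G), (∃ k, x ^ 2 ^ k = 1) → x ∈ O.C
  norm : centralizer ({O.τ} : Set G) ≤ normalizer (O.C : Set G)
  syl : ∀ P : Subgroup G, IsPGroup 2 P → O.U ≤ P → P = O.U
  cent : ∀ x ∈ centralizer ({O.τ} : Set G), Odd (orderOf x) → x ∈ centralizer (O.C : Set G) → x = 1

/-- `τ` has a conjugate in `C` outside `Z`. -/
def CaseB : Prop := ∃ x : G, x * O.τ * x⁻¹ ∈ O.C ∧ x * O.τ * x⁻¹ ∉ O.Z

/-- `w` normalises `R` and interchanges `Z` and `Z6`. -/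
structure Sw (w : G) : Prop where
  norm : w ∈ normalizer (O.R : Set G)
  z : ∀ x ∈ O.Z, w * x * w⁻¹ ∈ O.Z6
  z6 : ∀ x ∈ O.Z6, w * x * w⁻¹ ∈ O.Z

/-- the relation of order three holds as far as the action on `R` is concerned -/
def Sym : Prop := ∀ w : G, (∀ j, 0 < j → ∀ t, w * O.g j t * w⁻¹ = O.g (p1 j) t) →
  ∀ r ∈ O.R, Commute ((O.g 0 1 * w) ^ 3) r

theorem g_mem {S : List (Fin 12)} {j : Fin 12} (h : j ∈ S) (t : K) : O.g j t ∈ O.pat S :=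
  subset_closure ⟨j, h, t, rfl⟩

theorem g_mem_U (j : Fin 12) (t : K) : O.g j t ∈ O.U := O.g_mem (by revert j; decide) t

theorem U_le_C : O.U ≤ O.C := le_sup_left.trans le_sup_left

theorem g_mem_C (j : Fin 12) (t : K) : O.g j t ∈ O.C := O.U_le_C (O.g_mem_U j t)

theorem h8_mem_C (l : Kˣ) : O.h8 l ∈ O.C := (le_sup_right.trans le_sup_left : O.H8 ≤ O.C) ⟨l, rfl⟩

theorem n8_mem_C : O.n8 ∈ O.C := (le_sup_right : zpowers O.n8 ≤ O.C) (mem_zpowers _)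

abbrev gC (j : Fin 12) (t : K) : O.C := ⟨O.g j t, O.g_mem_C j t⟩

abbrev h8C (l : Kˣ) : O.C := ⟨O.h8 l, O.h8_mem_C l⟩

/-- `f` is an automorphism of `C` which normalises `U` and centralises `H8`. -/
structure IsA (f : MulAut O.C) : Prop where
  U : ∀ x : O.C, (x : G) ∈ O.U → (f x : G) ∈ O.U
  h8 : ∀ l, f (O.h8C l) = O.h8C l

/-- `f` acts by the scalars `a` on `Z` and `b` on `V / Z`. -/
structure Scal (f : MulAut O.C) (a b : K) : Prop where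
  z : ∀ t, (f (O.gC 5 t) : G) = O.g 5 (a * t)
  v : ∀ t, ∃ s, (f (O.gC 8 t) : G) = O.g 5 s * O.g 8 (b * t)

theorem map_ev {G' : Type*} [Group G'] (φ : O.C →* G') (L : List (Fin 12 × K)) :
    ∃ h, φ ⟨ev O.g L, h⟩ = ev (fun j t => φ ⟨O.g j t, O.g_mem_C j t⟩) L := by
  induction L with
  | nil => exact ⟨one_mem _, map_one φ⟩
  | cons a L ih =>
    obtain ⟨h, e⟩ := ih
    exact ⟨mul_mem (O.g_mem_C _ _) h, by
      rw [show ev (fun j t => φ ⟨O.g j t, O.g_mem_C j t⟩) (a :: L) = φ ⟨O.g a.1 a.2, O.g_mem_C _ _⟩ *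
        ev (fun j t => φ ⟨O.g j t, O.g_mem_C j t⟩) L from rfl, ← e, ← map_mul]; rfl⟩

theorem map_nf {G' : Type*} [Group G'] (φ : O.C →* G') (p : Fin 12 → K) :
    ∃ h, φ ⟨O.nf p, h⟩ = nfg (fun j t => φ ⟨O.g j t, O.g_mem_C j t⟩) p :=
  ⟨by unfold nf nfg; repeat first | exact O.g_mem_C _ _ | apply mul_mem, by simp only [nfg, ← map_mul]; rfl⟩

/-- transport along an injective homomorphism -/
def map {G' : Type*} [Group G'] (φ : O.C →* G') (hφ : Function.Injective φ) : OC σ sz G' where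
  g j t := φ ⟨O.g j t, O.g_mem_C j t⟩
  n8 := φ ⟨O.n8, O.n8_mem_C⟩
  h8 := φ.comp (O.h8.codRestrict O.C O.h8_mem_C)
  ss := O.ss
  add j t u := by
    obtain ⟨h, e⟩ := O.map_ev φ (cw σ j j t u)
    rw [← e, ← map_mul, ← map_mul]; exact congrArg φ (Subtype.ext (O.add j t u))
  rel j k hjk t u := by
    obtain ⟨h, e⟩ := O.map_ev φ (cw σ j k t u)
    rw [← e, ← map_mul, ← map_mul, ← map_mul]; exact congrArg φ (Subtype.ext (O.rel j k hjk t u))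
  inj p p' e := by
    obtain ⟨h, e1⟩ := O.map_nf φ p
    obtain ⟨h', e2⟩ := O.map_nf φ p'
    exact O.inj (congrArg Subtype.val (hφ (e1.trans (e.trans e2.symm))))
  n8_sq := by rw [← map_mul, ← map_one φ]; exact congrArg φ (Subtype.ext O.n8_sq)
  n8_g j hj t := by rw [← map_inv, ← map_mul, ← map_mul]; exact congrArg φ (Subtype.ext (O.n8_g j hj t))
  h8_g l j t := by
    rw [MonoidHom.comp_apply, ← map_inv, ← map_mul, ← map_mul]; exact congrArg φ (Subtype.ext (O.h8_g l j t))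
  n8_h8 l := by
    rw [MonoidHom.comp_apply, ← map_inv, ← map_inv, ← map_mul, ← map_mul]; exact congrArg φ (Subtype.ext (O.n8_h8 l))
  suz s u h := by
    obtain ⟨h1, e1⟩ := O.map_nf φ (sz s u).1
    obtain ⟨h2, e2⟩ := O.map_nf φ (sz s u).2.2
    rw [← e1, ← e2, MonoidHom.comp_apply]
    simp only [← map_mul]
    exact congrArg φ (Subtype.ext (O.suz s u h))

end OC

abbrev OT.H (O : OT σ sz G) : Subgroup G := O.h.range

namespace OP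

variable (O : OP σ sz G)

/-- the group generated by the two parabolic subgroups -/
def G0 : Subgroup G := O.C ⊔ O.H ⊔ zpowers O.n1

/-- the braid relation -/
def Braid : Prop := (O.n1 * O.n8) ^ 8 = 1

/-- the points of the standard path: `zz i = z_{4+2i}(1)` -/
def zz (i : ℤ) : G := (O.n1 * O.n8) ^ i * O.τ * ((O.n1 * O.n8) ^ i)⁻¹

/-- the pair `p, q` is conjugate to the pair `zz 0, zz k` -/
def Dk (k : ℕ) (p q : G) : Prop := ∃ x : G, x * O.zz 0 * x⁻¹ = p ∧ x * O.zz k * x⁻¹ = q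

/-- `p ∼ q ∼ r` on two different lines -/
structure NB (p q r : G) : Prop where
  left : O.Dk 1 p q
  right : O.Dk 1 q r
  ne : r ≠ p
  ne' : r ≠ p * q

end OP

end CfsgLib.F42
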