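import Mathlib
import Cfsg.Agent.Lib.F42.Defs
import Cfsg.Agent.Lib.Stein.Graph
import Cfsg.Agent.Lib.Twist.SymTab

/-!
# F42: the generators of `U` as words in the root elements of `F₄`
-/

set_option autoImplicit false
set_option Elab.async false

namespace CfsgLib.F42

open Cfsg.Lie CfsgLib.Chev CfsgLib.Stein CfsgLib.Weyl

/-- a root element whose parameter is a monomial -/
abbrev Tm : Type := ℕ × Mn

def mlin (i j : ℕ) (m m' : Mn) : Mn :=
  (m.1 * i + m'.1 * j, m.2.1 * i + m'.2.1 * j, m.2.2.1 * i + m'.2.2.1 * j, m.2.2.2 * i + m'.2.2.2 * j)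

def msg (m : Mn) : Mn := (2 * m.2.1, m.1, 2 * m.2.2.2, m.2.2.1)

def tkey (a : Tm) : ℕ := (((a.1 * 64 + a.2.1) * 64 + a.2.2.1) * 64 + a.2.2.2.1) * 64 + a.2.2.2.2

def tcm (a b : Tm) : List Tm :=
  (normT 2 (tComm fastF4 b.1 a.1)).map fun c => (c.1, mlin c.2.2.1 c.2.2.2 b.2 a.2)

def tins : ℕ → Tm → List Tm → List Tm
  | 0, a, L => a :: L
  | _ + 1, a, [] => [a]
  | f + 1, a, b :: L =>
    if tkey a < tkey b ∨ 48 ≤ a.1 ∨ 48 ≤ b.1 ∨ a.1 + b.1 = 47 then a :: b :: L
    else if a.1 = b.1 then (if a.2 = b.2 then L else b :: tins f a L)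
    else b :: tins f a ((tcm a b).foldr (tins f) L)

def tnf (L : List Tm) : List Tm := L.foldr (tins 100) []

/-- the words of the generators -/
def gw : Fin 12 → List (ℕ × ℕ × ℕ) :=
  ![[(33, 1, 0), (24, 0, 1)], [(34, 1, 0), (26, 0, 1), (36, 1, 1)], [(36, 1, 0), (42, 0, 1)], [(38, 1, 0), (43, 0, 1)],
    [(29, 1, 0), (41, 0, 1), (44, 1, 1)], [(44, 1, 0), (47, 0, 1)], [(39, 1, 0), (45, 0, 1)],
    [(35, 1, 0), (31, 0, 1), (40, 1, 1)], [(40, 1, 0), (46, 0, 1)], [(37, 1, 0), (32, 0, 1)],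
    [(27, 1, 0), (25, 0, 1), (28, 1, 1)], [(28, 1, 0), (30, 0, 1)]]

def gsub (c : Fin 12 × Mn) : List Tm := (gw c.1).map fun p => (p.1, mlin p.2.1 p.2.2 c.2 (msg c.2))

/-- the word of `g j (t + u)` -/
def gadd (j : Fin 12) : List Tm := (gw j).flatMap fun p =>
  if p.2.1 = 0 then [(p.1, 0, 1, 0, 0), (p.1, 0, 0, 0, 1)] else if p.2.2 = 0 then [(p.1, 1, 0, 0, 0), (p.1, 0, 0, 1, 0)]
  else [(p.1, 1, 1, 0, 0), (p.1, 0, 1, 1, 0), (p.1, 1, 0, 0, 1), (p.1, 0, 0, 1, 1)]

theorem chk_add : ∀ j, tnf (gsub (j, 1, 0, 0, 0) ++ gsub (j, 0, 0, 1, 0)) =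
    tnf (gadd j ++ (cwT j j).flatMap gsub) := by decide +kernel

theorem chk_rel : ∀ j k, j < k → tnf (gsub (k, 0, 0, 1, 0) ++ gsub (j, 1, 0, 0, 0)) =
    tnf (gsub (j, 1, 0, 0, 0) ++ ((cwT j k).flatMap gsub ++ gsub (k, 0, 0, 1, 0))) := by decide +kernel

variable {K : Type*} [Field K] (σ : K →+* K)

/-- the generators -/
def gm (j : Fin 12) (s : K) : GL chevF4.Idx K :=
  wordU chevF4 K ((gw j).map fun p => (p.1, s ^ p.2.1 * σ s ^ p.2.2))

def tev (t u : K) (L : List Tm) : GL chevF4.Idx K := (L.map fun a => xU chevF4 K a.1 (mon σ t u a.2)).prod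

variable (t u : K)

theorem tev_cons (a : Tm) (L : List Tm) : tev σ t u (a :: L) = xU chevF4 K a.1 (mon σ t u a.2) * tev σ t u L := rfl

theorem tev_append (L L' : List Tm) : tev σ t u (L ++ L') = tev σ t u L * tev σ t u L' := by simp [tev]

theorem mon_mlin (i j : ℕ) (m m' : Mn) : mon σ t u (mlin i j m m') = mon σ t u m ^ i * mon σ t u m' ^ j := by
  simp only [mon, mlin]; ring

theorem tev_foldr {f : Tm → List Tm → List Tm} (h : ∀ a L, tev σ t u (f a L) = tev σ t u (a :: L)) (M L : List Tm) :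
    tev σ t u (M.foldr f L) = tev σ t u M * tev σ t u L := by
  induction M with
  | nil => exact (one_mul _).symm
  | cons a M ih => rw [List.foldr_cons, h, tev_cons, tev_cons, ih, mul_assoc]

variable [CharP K 2]

theorem tev_tcm (a b : Tm) : tev σ t u (tcm a b) =
    wordU chevF4 K (chevF4.commWord K b.1 a.1 (mon σ t u b.2) (mon σ t u a.2)) := by
  rw [commWord_eq, ← tComm_ofD, matchF4.ofD_eq]
  refine Eq.trans ?_ (wordG_normT (p := 2) (CharP.cast_eq_zero K 2) (xU chevF4 K) _ _ _ fun _ _ => xU_zero _)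
  rw [tev, tcm, wordG, List.map_map, List.map_map]
  refine congrArg _ (List.map_congr_left fun c hc => congrArg (xU chevF4 K c.1) ?_)
  obtain ⟨hc, h2⟩ := List.mem_filter.1 hc
  obtain ⟨c, -, rfl⟩ := List.mem_map.1 hc
  have h5 : c.2.1 % (2 : ℕ) = 1 := by simp only [bne_iff_ne] at h2; omega
  simp only [evalT, h5, mon_mlin, CharTwo.neg_eq, Int.cast_one, one_mul]

theorem tev_tins (f : ℕ) (a : Tm) (L : List Tm) : tev σ t u (tins f a L) = tev σ t u (a :: L) := by
  induction f generalizing a L with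
  | zero => rfl
  | succ f ih =>
    rcases L with _ | ⟨b, L⟩
    · rfl
    rw [tins]
    split_ifs with h1 h2 h3 <;> simp only [tev_cons, ih, ← mul_assoc]
    · rw [h2, h3, ← xU_add, CharTwo.add_self_eq_zero, xU_zero, one_mul]
    · rw [h2, ← xU_add, ← xU_add, add_comm]
    · simp only [not_or, not_le] at h1
      rw [tev_foldr σ t u ih, tev_tcm, ← xU_comm (D := chevF4) h1.2.2.1 h1.2.1
        (by rw [tablesOKF4.neg_eq _ h1.2.2.1]; show _ ≠ 48 - 1 - _; omega)]
      group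

theorem tev_eq {L L' : List Tm} (h : tnf L = tnf L') : tev σ t u L = tev σ t u L' := by
  have key : ∀ L, tev σ t u (tnf L) = tev σ t u L := fun L => by
    rw [tnf, tev_foldr σ t u (tev_tins σ t u _)]; exact mul_one _
  rw [← key, h, key]

variable {σ} (ss : ∀ t, σ (σ t) = t ^ 2)
include ss

omit [CharP K 2] in
theorem mon_msg (m : Mn) : mon σ t u (msg m) = σ (mon σ t u m) := by
  simp only [mon, msg, map_mul, map_pow, ss]; ring

omit [CharP K 2] in
theorem tev_gsub (c : Fin 12 × Mn) : tev σ t u (gsub c) = gm σ c.1 (mon σ t u c.2) := by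
  simp only [tev, gsub, gm, wordU, List.map_map, Function.comp_def, mon_mlin, mon_msg t u ss]

omit [CharP K 2] in
theorem tev_cw (j k : Fin 12) : tev σ t u ((cwT j k).flatMap gsub) = ev (gm σ) (cw σ j k t u) := by
  rw [cw]
  induction cwT j k with
  | nil => rfl
  | cons c L ih => rw [List.flatMap_cons, tev_append, ih, tev_gsub t u ss]; rfl

omit ss [CharP K 2] in
theorem tev_gadd (j : Fin 12) : tev σ t u (gadd j) = gm σ j (t + u) := by
  fin_cases j <;> simp [tev, gadd, gm, gw, wordU, mon, xU_add, mul_add, add_mul, mul_assoc, mul_comm u (σ t)]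

theorem gm_add (j : Fin 12) : gm σ j t * gm σ j u = gm σ j (t + u) * ev (gm σ) (cw σ j j t u) := by
  simpa only [tev_append, tev_gsub t u ss, tev_gadd, tev_cw t u ss, mon, pow_one, pow_zero, mul_one, one_mul] using
    tev_eq σ t u (chk_add j)

theorem gm_rel (j k : Fin 12) (h : j < k) :
    gm σ k u * gm σ j t = gm σ j t * (ev (gm σ) (cw σ j k t u) * gm σ k u) := by
  simpa only [tev_append, tev_gsub t u ss, tev_cw t u ss, mon, pow_one, pow_zero, mul_one, one_mul] using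
    tev_eq σ t u (chk_rel j k h)

end CfsgLib.F42
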