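import Mathlib
import Cfsg.Agent.Lib.F42.MCol
import Cfsg.Agent.Lib.ChevInv.DataT

/-!
# F42: the torus and the reflections of `²F₄(q)`
-/

set_option autoImplicit false
set_option Elab.async false

namespace CfsgLib.F42

open Cfsg.Lie CfsgLib.Chev CfsgLib.Stein CfsgLib.Twist CfsgLib.RGD CfsgLib.ChevInv
open CfsgLib.Weyl hiding wd

variable {K : Type*} [Field K] {σ : K →+* K}

theorem conj_gm {d : GL chevF4.Idx K} {j k : Fin 12} {f : ℕ → ℕ} {t s : K}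
    (h : ∀ p ∈ gw j, d * xU chevF4 K p.1 (t ^ p.2.1 * σ t ^ p.2.2) * d⁻¹ = xU chevF4 K (f p.1) (s ^ p.2.1 * σ s ^ p.2.2))
    (hk : (gw j).map (fun p => (f p.1, p.2)) = gw k) : d * gm σ j t * d⁻¹ = gm σ k s := by
  rw [gm, gm, ← hk, wordU, wordU, ← MulAut.conj_apply, map_list_prod]
  simp only [List.map_map]
  exact congrArg _ (List.map_congr_left h)

theorem gw_lt : ∀ j, ∀ p ∈ gw j, p.1 < 48 := by decide

theorem rt_val (r : Fin 48) : (rtF4 r : ℕ) = r := rfl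

theorem gm_inj : Function.Injective (nfg (gm σ)) := fun p p' h => by
  let T : (Fin 12 → K) → Fin chevF4.nroots → K := fun p r => [σ (p 0), σ (p 10), σ (p 1), p 10,
    p 10 * σ (p 10) + p 11, p 4, σ (p 11), σ (p 7), σ (p 9), p 0, p 1, p 7, p 1 * σ (p 1) + p 2, p 9, p 3, p 6,
    p 7 * σ (p 7) + p 8, σ (p 4), σ (p 2), σ (p 3), p 4 * σ (p 4) + p 5, σ (p 6), σ (p 8), σ (p 5)].getD (r - 24) 0
  let L : List (Fin chevF4.nroots) :=
    [33, 24, 34, 26, 36, 42, 38, 43, 29, 41, 44, 47, 39, 45, 35, 31, 40, 46, 37, 32, 27, 25, 28, 30].map rtF4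
  have e : ∀ p, nfg (gm σ) p = (stSys rtOKF4 K).xprod L (T p) := fun p => by
    simp [nfg, gm, gw, wordU, StSys.xprod, L, T, stSys_x, rt_val, xU_add, mul_assoc]
  have := (sharp_stSys rtOKF4 K).xprod_inj L (by decide +kernel) (by simp only [pos_iff_le]; decide +kernel) _ _
    ((e p).symm.trans (h.trans (e p')))
  simp [L, T, rt_val, σ.injective.eq_iff] at this
  funext j
  fin_cases j <;> simp [this]

/-- the coroot coordinates of the torus -/
def eT : Fin 4 → Mn := ![(2, 1, 3, 2), (3, 2, 6, 4), (4, 3, 8, 6), (2, 2, 4, 3)]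

variable (σ) in
def hm (α β : Kˣ) : GL chevF4.Idx K :=
  hU chevF4 K (chevF4.simple 0) (mon σ α β (eT 0)) * hU chevF4 K (chevF4.simple 1) (mon σ α β (eT 1)) *
    hU chevF4 K (chevF4.simple 2) (mon σ α β (eT 2)) * hU chevF4 K (chevF4.simple 3) (mon σ α β (eT 3))

theorem mon_ne (α β : Kˣ) (m : Mn) : mon σ α β m ≠ 0 := by simp [mon]

theorem hm_mem (α β : Kˣ) : hm σ α β ∈ (stSys rtOKF4 K).H := by
  have h := fun i (hi : i < 4) m => hU_mem_diagonalSubgroup (D := chevF4) (simple_lt hi) (mon_ne (σ := σ) α β m)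
  rw [stSys_H]
  exact mul_mem (mul_mem (mul_mem (h 0 (by decide) _) (h 1 (by decide) _)) (h 2 (by decide) _)) (h 3 (by decide) _)

def cT (r : ℕ) (i : ℕ) : ℕ := (fastF4.cartan i r + 2).toNat

theorem chk_tor : ∀ j, ∀ p ∈ gw j, (∀ i < 4, fastF4.cartan i p.1 = cT p.1 i - 2) ∧
    mlin 1 1 (mlin (cT p.1 0) (cT p.1 1) (eT 0) (eT 1)) (mlin (cT p.1 2) (cT p.1 3) (eT 2) (eT 3)) =
      mlin 1 2 (mlin p.2.1 p.2.2 (chiT j) (msg (chiT j))) (mlin 1 1 (mlin 1 1 (eT 0) (eT 1)) (mlin 1 1 (eT 2) (eT 3))) := by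
  decide +kernel

theorem hm_x (ss : ∀ t, σ (σ t) = t ^ 2) (α β : Kˣ) {j : Fin 12} {p : ℕ × ℕ × ℕ} (hp : p ∈ gw j) (t : K) :
    hm σ α β * xU chevF4 K p.1 t * (hm σ α β)⁻¹ = xU chevF4 K p.1 (chi σ j α β ^ p.2.1 * σ (chi σ j α β) ^ p.2.2 * t) := by
  obtain ⟨h1, h2⟩ := chk_tor j p hp
  have h3 : ∀ i < 4, ∀ c ≠ (0 : K), ∀ t, MulAut.conj (hU chevF4 K (chevF4.simple i) c) (xU chevF4 K p.1 t) =
      xU chevF4 K p.1 (c ^ cT p.1 i / c ^ 2 * t) := fun i hi c hc t => by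
    rw [MulAut.conj_apply, hU_conj_xU (simple_lt hi) hc, pairing_simple hi,
      show chevF4.cartan i p.1 = fastF4.cartan i p.1 by rw [← matchF4.ofD_eq]; rfl, h1 i hi, zpow_sub₀ hc]
    simp
  have h4 := congrArg (mon σ α β) h2
  simp only [mon_mlin, mon_msg _ _ ss] at h4
  rw [← MulAut.conj_apply, hm]
  simp only [map_mul, MulAut.mul_apply]
  rw [h3 3 (by decide) _ (mon_ne _ _ _), h3 2 (by decide) _ (mon_ne _ _ _), h3 1 (by decide) _ (mon_ne _ _ _),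
    h3 0 (by decide) _ (mon_ne _ _ _)]
  have := mon_ne (σ := σ) α β
  congr 1
  rw [chi]
  field_simp [this]
  linear_combination t * h4

theorem hm_gm (ss : ∀ t, σ (σ t) = t ^ 2) (α β : Kˣ) (j : Fin 12) (t : K) :
    hm σ α β * gm σ j t * (hm σ α β)⁻¹ = gm σ j (chi σ j α β * t) :=
  conj_gm (f := id) (fun p hp => by rw [hm_x ss α β hp, map_mul]; congr 1; ring) (List.map_id _)

/-- the characters of the torus on the simple roots -/
def ym (σ : K →+* K) (α β : Kˣ) : Fin chevF4.rank → Kˣ := vecF4 ![α, β, su σ β, su σ α]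

theorem sim : chevF4.simple 0 = 33 ∧ chevF4.simple 1 = 27 ∧ chevF4.simple 2 = 25 ∧ chevF4.simple 3 = 24 ∧
    chevF4.neg 33 = 14 ∧ chevF4.neg 27 = 20 ∧ chevF4.neg 25 = 22 ∧ chevF4.neg 24 = 23 := by decide +kernel

theorem nd_val (i : Fin 4) : (ndF4 i : ℕ) = i := rfl

theorem hm_chi (ss : ∀ t, σ (σ t) = t ^ 2) (α β : Kˣ) : Chi (stSys rtOKF4 K) (hm σ α β) (ym σ α β) := by
  refine forall_ndF4.2 ⟨fun t => ?_, fun t => ?_, fun t => ?_, fun t => ?_⟩
  · simpa [chi, mon, chiT, stSys_x, rootSys_simple, nd_val, sim, ym, vecF4_nd, su] using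
      hm_x ss α β (j := 0) (p := (33, 1, 0)) (by decide) t
  · simpa [chi, mon, chiT, stSys_x, rootSys_simple, nd_val, sim, ym, vecF4_nd, su] using
      hm_x ss α β (j := 10) (p := (27, 1, 0)) (by decide) t
  · simpa [chi, mon, chiT, stSys_x, rootSys_simple, nd_val, sim, ym, vecF4_nd, su] using
      hm_x ss α β (j := 10) (p := (25, 0, 1)) (by decide) t
  · simpa [chi, mon, chiT, stSys_x, rootSys_simple, nd_val, sim, ym, vecF4_nd, su] using
      hm_x ss α β (j := 0) (p := (24, 0, 1)) (by decide) t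

/-- the torus -/
noncomputable def hM (ss : ∀ t, σ (σ t) = t ^ 2) : Kˣ × Kˣ →* GL chevF4.Idx K :=
  MonoidHom.mk' (fun p => hm σ p.1 p.2) fun a b => (sharp_stSys rtOKF4 K).eq_of_chi (hm_mem _ _)
    (mul_mem (hm_mem _ _) (hm_mem _ _)) (hm_chi ss _ _) (by
      convert (hm_chi ss a.1 a.2).mul (hm_chi ss b.1 b.2) using 1
      exact funext (forall_ndF4.2 (by simp [ym, vecF4_nd])))

def w1 : List ℕ := [33, 14, 33, 24, 23, 24]

def w8 : List ℕ := [27, 20, 27, 25, 22, 25, 27, 20, 27, 25, 22, 25]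

def r1 (s : ℕ) : ℕ := actT tTF4 0 (actT tTF4 3 s)

def r8 (s : ℕ) : ℕ := actT tTF4 1 (actT tTF4 2 (actT tTF4 1 (actT tTF4 2 s)))

variable [CharP K 2]

theorem wd_w1 : wd chevF4 K w1 = nU chevF4 K (chevF4.simple 0) 1 * nU chevF4 K (chevF4.simple 3) 1 := by
  simp [wd, w1, nU, CharTwo.neg_eq, mul_assoc, sim]

theorem wd_w8 : wd chevF4 K w8 = nU chevF4 K (chevF4.simple 1) 1 * (nU chevF4 K (chevF4.simple 2) 1 *
    (nU chevF4 K (chevF4.simple 1) 1 * nU chevF4 K (chevF4.simple 2) 1)) := by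
  simp [wd, w8, nU, CharTwo.neg_eq, mul_assoc, sim]

theorem n_x {i s : ℕ} (hi : i < 4) (hs : s < 48) (t : K) : actT tTF4 i s < 48 ∧
    MulAut.conj (nU chevF4 K (chevF4.simple i) 1) (xU chevF4 K s t) = xU chevF4 K (actT tTF4 i s) t := by
  rw [MulAut.conj_apply, nU_conj_xU (simple_lt hi) hs one_ne_zero, ← tablesOKF4.refl_eq (by decide +kernel) i hi s hs,
    refl_simple hi hs]
  refine ⟨reflectRoot_lt hi hs, ?_⟩
  rcases eta_eq (D := chevF4) (simple_lt hi) hs with h | h <;> simp [h, CharTwo.neg_eq]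

theorem n1_x {s : ℕ} (hs : s < 48) (t : K) :
    wd chevF4 K w1 * xU chevF4 K s t * (wd chevF4 K w1)⁻¹ = xU chevF4 K (r1 s) t := by
  have h := n_x (i := 3) (by decide) hs t
  rw [← MulAut.conj_apply, wd_w1, map_mul, MulAut.mul_apply, h.2, (n_x (by decide) h.1 t).2, r1]

theorem n8_x {s : ℕ} (hs : s < 48) (t : K) :
    wd chevF4 K w8 * xU chevF4 K s t * (wd chevF4 K w8)⁻¹ = xU chevF4 K (r8 s) t := by
  have h := n_x (i := 2) (by decide) hs t
  have h1 := n_x (i := 1) (by decide) h.1 t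
  have h2 := n_x (i := 2) (by decide) h1.1 t
  rw [← MulAut.conj_apply, wd_w8]
  simp only [map_mul, MulAut.mul_apply]
  rw [h.2, h1.2, h2.2, (n_x (by decide) h2.1 t).2, r8]

theorem n1_gm (j : Fin 12) (hj : 0 < j) (t : K) :
    wd chevF4 K w1 * gm σ j t * (wd chevF4 K w1)⁻¹ = gm σ (p1 j) t :=
  conj_gm (fun p hp => n1_x (gw_lt j p hp) _) (by revert j; decide +kernel)

theorem n8_gm (j : Fin 12) (hj : j < 10) (t : K) :
    wd chevF4 K w8 * gm σ j t * (wd chevF4 K w8)⁻¹ = gm σ (p8 j) t :=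
  conj_gm (fun p hp => n8_x (gw_lt j p hp) _) (by revert j; decide +kernel)

omit [CharP K 2] in
theorem nU_mem_N (i : Fin 4) : nU chevF4 K (chevF4.simple i) 1 ∈ (stSys rtOKF4 K).N :=
  stSys_N rtOKF4 (F := K) ▸ nU_mem_monomialSubgroup (simple_lt i.2) one_ne_zero

theorem n1_mem_N : wd chevF4 K w1 ∈ (stSys rtOKF4 K).N := by
  rw [wd_w1]; exact mul_mem (nU_mem_N 0) (nU_mem_N 3)

theorem n8_mem_N : wd chevF4 K w8 ∈ (stSys rtOKF4 K).N := by
  rw [wd_w8]; exact mul_mem (nU_mem_N 1) (mul_mem (nU_mem_N 2) (mul_mem (nU_mem_N 1) (nU_mem_N 2)))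

theorem n8_acts : (stSys rtOKF4 K).Acts (wd chevF4 K w8) (symF4.sw 1) :=
  ⟨fun _ => 1, fun _ => mul_one _, fun s t => by
    rw [stSys_x, stSys_x, swF4, one_mul, n8_x s.2, show r8 s = actT tSwF4 (1 : Fin 2) s by revert s; decide +kernel]⟩

end CfsgLib.F42
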