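import Mathlib
import Cfsg.Agent.Lib.F42.MTor
import Cfsg.Agent.Auto.CfsgLib_F42_cwT_eq_26

/-!
# F42: the group `²F₄(q)` has coordinates
-/

set_option autoImplicit false
set_option Elab.async false

namespace CfsgLib.F42

open Cfsg.Lie CfsgLib.Chev CfsgLib.Stein CfsgLib.Twist CfsgLib.RGD CfsgLib.ChevInv Subgroup
open CfsgLib.Weyl hiding wd

variable {K : Type*} [Field K] {σ : K →+* K}

section Sub

variable {G : Type*} [Group G] {sz : Sz K} (O : OP σ sz G) (M : Subgroup G) (h : O.G0 ≤ M)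
include h

theorem OP.le_of : (∀ j t, O.g j t ∈ M) ∧ O.n8 ∈ M ∧ (∀ p, O.h p ∈ M) ∧ O.n1 ∈ M :=
  ⟨fun j t => h (mem_sup_left (mem_sup_left (O.g_mem_C j t))), h (mem_sup_left (mem_sup_left O.n8_mem_C)),
    fun p => h (mem_sup_left (mem_sup_right ⟨p, rfl⟩)), h (mem_sup_right (mem_zpowers _))⟩

theorem OP.coe_ev (L : List (Fin 12 × K)) :
    ((ev (fun j t => (⟨O.g j t, (O.le_of M h).1 j t⟩ : M)) L : M) : G) = ev O.g L := by
  simp [ev, Function.comp_def]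

/-- restriction to a subgroup -/
def OP.sub : OP σ sz M where
  g j t := ⟨O.g j t, (O.le_of M h).1 j t⟩
  n8 := ⟨O.n8, (O.le_of M h).2.1⟩
  h8 := O.h8.codRestrict M fun l => O.h_h8 l ▸ (O.le_of M h).2.2.1 _
  ss := O.ss
  add j t u := Subtype.ext (by simpa only [coe_mul, O.coe_ev M h] using O.add j t u)
  rel j k hjk t u := Subtype.ext (by simpa only [coe_mul, O.coe_ev M h] using O.rel j k hjk t u)
  inj p p' e := O.inj (congrArg Subtype.val e)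
  n8_sq := Subtype.ext O.n8_sq
  n8_g j hj t := Subtype.ext (O.n8_g j hj t)
  h8_g l j t := Subtype.ext (O.h8_g l j t)
  n8_h8 l := Subtype.ext (O.n8_h8 l)
  suz s u e := Subtype.ext (O.suz s u e)
  h := O.h.codRestrict M (O.le_of M h).2.2.1
  h_g α β j t := Subtype.ext (O.h_g α β j t)
  h_h8 l := Subtype.ext (O.h_h8 l)
  n8_h α β := Subtype.ext (O.n8_h α β)
  n1 := ⟨O.n1, (O.le_of M h).2.2.2⟩
  n1_sq := Subtype.ext O.n1_sq
  n1_g j hj t := Subtype.ext (O.n1_g j hj t)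
  tri := Subtype.ext O.tri
  n1_h α β := Subtype.ext (O.n1_h α β)

theorem OP.sub_G0 (h' : M ≤ O.G0) : (O.sub M h).G0 = ⊤ := by
  have k := (O.sub M h).le_of _ le_rfl
  refine top_unique fun x _ => (mem_map_iff_mem M.subtype_injective).1 (SetLike.le_def.1 (h'.trans ?_) x.2)
  refine sup_le (sup_le (sup_le (sup_le ((closure_le _).2 ?_) ?_) ?_) ?_) ?_
  · rintro _ ⟨j, -, t, rfl⟩; exact ⟨_, k.1 j t, rfl⟩
  · rintro _ ⟨l, rfl⟩; exact ⟨_, k.2.2.1 _, O.h_h8 l⟩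
  · exact (zpowers_le_of_mem ⟨_, k.2.1, rfl⟩)
  · rintro _ ⟨l, rfl⟩; exact ⟨_, k.2.2.1 l, rfl⟩
  · exact (zpowers_le_of_mem ⟨_, k.2.2.2, rfl⟩)

end Sub

theorem gm_zero (j : Fin 12) : gm σ j 0 = 1 := by fin_cases j <;> simp [gm, gw, wordU]

theorem gm_eq {j : Fin 12} {t u : K} (h : gm σ j t = gm σ j u) : t = u := by
  have := congrFun (gm_inj (σ := σ) (a₁ := Pi.single j t) (a₂ := Pi.single j u) (by
    fin_cases j <;> simpa [nfg, gm_zero] using h)) j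
  simpa using this

variable [CharP K 2] {e : ℕ} {θ : K →+* K} (he : ∀ t, θ t = t ^ e) (hθ : ∀ t, θ (θ t) ^ 2 = t)
  (hσ : ∀ t, σ t = θ t ^ 2)

local notation "n₁" => wd chevF4 K w1
local notation "n₈" => wd chevF4 K w8

theorem wd_eq {l l' : List ℕ} (h : same fastF4 l l' = true) : wd chevF4 K l = wd chevF4 K l' :=
  eq_of_same matchF4.ofD_eq rfl h

theorem n8_sq : n₈ * n₈ = 1 := (wd_append _ _).symm.trans (wd_eq (l' := []) (by decide +kernel))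

include hθ hσ

omit [CharP K 2] in
theorem ss_of (t : K) : σ (σ t) = t ^ 2 := by rw [hσ, hσ, map_pow, hθ]

omit [CharP K 2] in
theorem th_of (t : K) : θ (σ t) = t := by rw [hσ, map_pow, hθ]

omit [CharP K 2] in
theorem gm_b2 (s u : K) : gm σ 10 s * gm σ 11 u = xU chevF4 K 27 (θ (σ s)) * xU chevF4 K 25 (σ s) *
    xU chevF4 K 28 (θ (σ s) * σ s + u) * xU chevF4 K 30 (θ u ^ 2) := by
  simp [gm, gw, wordU, th_of hθ hσ, ← hσ, xU_add, mul_assoc]

theorem fixChar_iff (y : Fin chevF4.rank → Kˣ) : (twF4 θ hθ).FixChar y ↔ y = ym σ (y (ndF4 0)) (y (ndF4 1)) := by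
  have := piF4
  rw [funext_iff, forall_ndF4, Tw.FixChar, forall_ndF4]
  simp only [twF4_f0, twF4_f1, twF4_f2, twF4_f3, show (twF4 θ hθ).π = symF4.π from rfl, this, ym, vecF4_nd, ← hσ,
    Units.ext_iff]
  simp [su]
  exact ⟨fun h => ⟨h.2.1, h.1⟩, fun h => by simp [h, th_of hθ hσ]⟩

theorem hm_fix (α β : Kˣ) : hm σ α β ∈ (twF4 θ hθ).Fix :=
  (twF4 θ hθ).fix_of_fixChar (sharp_stSys _ _) (hm_mem α β) (hm_chi (ss_of hθ hσ) α β) ((fixChar_iff hθ hσ _).2 rfl)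

theorem exists_hm {d : GL chevF4.Idx K} (hd : d ∈ (stSys rtOKF4 K).H) (hf : d ∈ (twF4 θ hθ).Fix) :
    ∃ α β, d = hm σ α β := by
  have hS := sharp_stSys rtOKF4 K
  obtain ⟨c, hc⟩ := hS.exists_chi hd
  rw [(fixChar_iff hθ hσ _).1 ((twF4 θ hθ).fixChar_of_fix hS hf hc)] at hc
  exact ⟨_, _, hS.eq_of_chi hd (hm_mem _ _) hc (hm_chi (ss_of hθ hσ) _ _)⟩

theorem conj_hm {n : GL chevF4.Idx K} (hn : n ∈ (stSys rtOKF4 K).N) (hf : n ∈ (twF4 θ hθ).Fix) (α β : Kˣ) :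
    ∃ α' β', n * hm σ α β * n⁻¹ = hm σ α' β' ∧ ∀ j k, (∀ t, n * gm σ j t * n⁻¹ = gm σ k t) →
      chi σ k α' β' = chi σ j α β := by
  obtain ⟨α', β', h⟩ := exists_hm hθ hσ ((sharp_stSys rtOKF4 K).conj_mem_H hn (hm_mem α β))
    (mul_mem (mul_mem hf (hm_fix hθ hσ α β)) (inv_mem hf))
  refine ⟨α', β', h, fun j k h1 => mul_right_cancel₀ one_ne_zero (gm_eq (σ := σ) (j := k) ?_)⟩
  rw [← hm_gm (ss_of hθ hσ), ← h1, ← h1, ← hm_gm (ss_of hθ hσ), ← h]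
  group

variable [Fintype K]

include he

omit hσ in
theorem n_fix : n₁ ∈ (twF4 θ hθ).Fix ∧ n₈ ∈ (twF4 θ hθ).Fix := by
  rw [← eq_FixF4 he hθ]
  exact ⟨memTF4 he hθ _ (by decide +kernel), memTF4 he hθ _ (by decide +kernel)⟩

theorem n1_hm (α β : Kˣ) : n₁ * hm σ α β * n₁⁻¹ = hm σ α⁻¹ (α * β) := by
  obtain ⟨α', β', h, h1⟩ := conj_hm hθ hσ n1_mem_N (n_fix he hθ).1 α β
  have h2 := h1 1 10 (n1_gm 1 (by decide))
  have h3 := h1 10 1 (n1_gm 10 (by decide))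
  simp [chi, mon, chiT] at h2 h3
  rw [h, show β' = α * β from Units.ext h2, show α' = α⁻¹ from Units.ext (by
    rw [h2] at h3; simp only [Units.val_inv_eq_inv_val]; field_simp; exact mul_right_cancel₀ β.ne_zero (by
      linear_combination h3))]

theorem n8_hm (α β : Kˣ) : n₈ * hm σ α β * n₈⁻¹ = hm σ (α * β ^ 2 * su σ β) β⁻¹ := by
  obtain ⟨α', β', h, h1⟩ := conj_hm hθ hσ n8_mem_N (n_fix he hθ).2 α β
  have h2 := h1 0 9 (n8_gm 0 (by decide))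
  have h3 := h1 9 0 (n8_gm 9 (by decide))
  simp [chi, mon, chiT] at h2 h3
  have h4 : σ (β * β' * σ (β * β')) = σ 1 := by
    rw [map_mul σ _ (σ _), ss_of hθ hσ, map_mul, map_one]
    refine mul_left_cancel₀ α.ne_zero ?_
    rw [h3] at h2
    linear_combination h2
  have h5 := σ.injective h4
  rw [map_mul σ _ (σ _), ss_of hθ hσ, map_one] at h4
  rw [h, show α' = α * β ^ 2 * su σ β from Units.ext (by simpa [su] using h3),
    show β' = β⁻¹ from eq_inv_of_mul_eq_one_right (Units.ext (by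
      push_cast; linear_combination h4 - β * β' * h5))]

omit [Fintype K] he in
theorem mem_b2 {g : GL chevF4.Idx K} : g ∈ (stSys rtOKF4 K).UU (posJ (rootSys rtOKF4) (symF4.J 1)) ⊓ (twF4 θ hθ).Fix ↔
    ∃ s u, g = gm σ 10 s * gm σ 11 u := by
  rw [mem_b2F4]
  refine ⟨fun ⟨p, h⟩ => ⟨θ p.1, p.2, ?_⟩, fun ⟨s, u, h⟩ => ⟨(σ s, u), h.trans (gm_b2 hθ hσ s u)⟩⟩
  rw [h, gm_b2 hθ hσ, hσ, hθ]

theorem exists_suz {s u : K} (h : ¬ (s = 0 ∧ u = 0)) : ∃ c : (Fin 12 → K) × Kˣ × (Fin 12 → K),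
    n₈ * (gm σ 10 s * gm σ 11 u) * n₈ =
      nfg (gm σ) c.1 * hm σ (c.2.1 * su σ c.2.1) (su σ c.2.1)⁻¹ * n₈ * nfg (gm σ) c.2.2 := by
  have hS := sharp_stSys rtOKF4 K
  have ss := ss_of hθ hσ
  have hi : n₈⁻¹ = n₈ := inv_eq_of_mul_eq_one_right n8_sq
  have nf : ∀ s u, gm σ 10 s * gm σ 11 u = nfg (gm σ) ![0, 0, 0, 0, 0, 0, 0, 0, 0, 0, s, u] := fun s u => by
    simp [nfg, gm_zero]
  obtain ⟨h1, h2⟩ := (mem_b2 hθ hσ).2 ⟨s, u, rfl⟩
  have h3 := conj_mem_UU n8_acts (Ψ' := negJ (rootSys rtOKF4) (symF4.J 1)) (fun r hr =>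
    ⟨w0_neg _ _ hr.1 hr.2, (RootSys.inSub_apply_iff _ (symF4.sw_mem_WJ 1)).2 hr.2⟩) h1
  have h4 := mul_mem (mul_mem (n_fix he hθ).2 h2) (inv_mem (n_fix he hθ).2)
  rcases (twF4 θ hθ).bruhat_levi_fix hS (UU_negJ_le_LJ _ _ h3) h4 with h5 | ⟨a, ha, n, hn, hn', b, hb, h5⟩
  · have := hS.eq_one_of_mem_B_V h5 (UU_negJ_le_V _ _ h3)
    rw [conj_eq_one_iff, nf, show (1 : GL chevF4.Idx K) = nfg (gm σ) 0 by simp [nfg, gm_zero]] at this
    exact absurd ⟨congrFun (gm_inj this) 10, congrFun (gm_inj this) 11⟩ h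
  obtain ⟨α, β, h6⟩ := exists_hm hθ hσ (hS.mul_inv_mem_H hn.1 n8_mem_N (symF4.sw_mem 1).1 hn' n8_acts)
    (mul_mem hn.2 (inv_mem (n_fix he hθ).2))
  obtain ⟨a1, a2, rfl⟩ := (mem_b2 hθ hσ).1 ha
  obtain ⟨b1, b2, rfl⟩ := (mem_b2 hθ hσ).1 hb
  have c1 : ∀ s u, Commute (gm σ 10 s * gm σ 11 u) (gm σ 4 1) := fun s u => Commute.mul_left
    (show _ = _ by simpa [cw, cwT, ev] using gm_rel 1 s ss 4 10 (by decide))
    (show _ = _ by simpa [cw, cwT, ev] using gm_rel 1 u ss 4 11 (by decide))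
  have c2 : Commute n₈ (gm σ 4 1) := mul_inv_eq_iff_eq_mul.1 (n8_gm 4 (by decide) 1)
  have c3 : Commute (hm σ α β) (gm σ 4 1) := by
    rw [← h6, show n = (gm σ 10 a1 * gm σ 11 a2)⁻¹ * (n₈ * (gm σ 10 s * gm σ 11 u) * n₈⁻¹) *
      (gm σ 10 b1 * gm σ 11 b2)⁻¹ by rw [h5]; group]
    exact ((((c1 _ _).inv_left).mul_left ((c2.mul_left (c1 _ _)).mul_left c2.inv_left)).mul_left
      (c1 _ _).inv_left).mul_left c2.inv_left
  have c4 := gm_eq ((hm_gm ss α β 4 1).symm.trans (mul_inv_eq_iff_eq_mul.2 c3.eq))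
  simp [chi, mon, chiT] at c4
  let l : Kˣ := Units.map θ.toMonoidHom β⁻¹
  have e1 : su σ l = β⁻¹ := Units.ext (by simp [l, su, hσ, hθ])
  have e2 : l * su σ l = α := Units.ext (σ.injective (by
    have := congrArg (fun x : Kˣ => σ x) e1
    simp only [su, Units.coe_map, Units.val_mul, map_mul, RingHom.toMonoidHom_eq_coe, MonoidHom.coe_coe,
      Units.val_inv_eq_inv_val, map_inv₀] at this ⊢
    rw [this, show σ l = (β : K)⁻¹ by simpa [su] using congrArg Units.val e1]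
    have := (map_ne_zero σ).2 β.ne_zero
    field_simp
    linear_combination -c4))
  refine ⟨(![0, 0, 0, 0, 0, 0, 0, 0, 0, 0, a1, a2], l, ![0, 0, 0, 0, 0, 0, 0, 0, 0, 0, b1, b2]), ?_⟩
  rw [e2, e1, inv_inv, ← h6, ← nf, ← nf, mul_assoc _ (n * _), inv_mul_cancel_right, ← h5, hi]

omit hθ hσ he [Fintype K] in
theorem suz_two (h2 : Two K) {s u : K} (h : ¬ (s = 0 ∧ u = 0)) : n₈ * (gm σ 10 s * gm σ 11 u) * n₈ =
    nfg (gm σ) (sz2 K s u).1 * 1 * n₈ * nfg (gm σ) (sz2 K s u).2.2 := by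
  have y : gm σ 10 1 = wd chevF4 K [27, 25, 28] := by simp [gm, gw, wordU, wd]
  have z : gm σ 11 1 = wd chevF4 K [28, 30] := by simp [gm, gw, wordU, wd]
  rcases h2 s with rfl | rfl <;> rcases h2 u with rfl | rfl
  · exact absurd ⟨rfl, rfl⟩ h
  all_goals
    simp [sz2, nfg, gm_zero, CharTwo.add_self_eq_zero, -mul_left_inj, -mul_right_inj]
    simp only [y, z, ← wd_append]
    exact wd_eq (by decide +kernel)

/-- the coordinates in the matrix group -/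
noncomputable def opM (sz : Sz K) (hsz : ∀ s u, ¬ (s = 0 ∧ u = 0) → n₈ * (gm σ 10 s * gm σ 11 u) * n₈ =
    nfg (gm σ) (sz s u).1 * hm σ ((sz s u).2.1 * su σ (sz s u).2.1) (su σ (sz s u).2.1)⁻¹ * n₈ *
      nfg (gm σ) (sz s u).2.2) : OP σ sz (GL chevF4.Idx K) where
  g := gm σ
  n8 := n₈
  h8 := (hM (ss_of hθ hσ)).comp ((MonoidHom.id _ * su σ).prod (su σ)⁻¹)
  ss := ss_of hθ hσ
  add j t u := gm_add t u (ss_of hθ hσ) j
  rel j k h t u := gm_rel t u (ss_of hθ hσ) j k h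
  inj := gm_inj
  n8_sq := n8_sq
  n8_g := n8_gm
  h8_g l j t := (hm_gm (ss_of hθ hσ) _ _ j t).trans (by
    have := (map_ne_zero σ).2 l.ne_zero
    congr 2
    fin_cases j <;> simp [chi, wt8, mon, chiT, w8T, su, ss_of hθ hσ] <;> field_simp)
  n8_h8 l := by
    rw [← map_inv]
    refine (n8_hm he hθ hσ _ _).trans (congrArg₂ (hm σ) (Units.ext ?_) (by simp))
    have := (map_ne_zero σ).2 l.ne_zero
    simp [su, ss_of hθ hσ]
    field_simp
  suz s u h := by simpa [hM] using hsz s u h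
  h := hM (ss_of hθ hσ)
  h_g := hm_gm (ss_of hθ hσ)
  h_h8 l := by simp only [MonoidHom.comp_apply]; congr 1
  n8_h := n8_hm he hθ hσ
  n1 := n₁
  n1_sq := (wd_append _ _).symm.trans (wd_eq (l' := []) (by decide +kernel))
  n1_g := n1_gm
  tri := by
    rw [show gm σ 0 1 = wd chevF4 K [33, 24] by simp [gm, gw, wordU, wd]]
    simp only [pow_succ, pow_zero, one_mul, ← wd_append]
    exact wd_eq (l' := []) (by decide +kernel)
  n1_h := n1_hm he hθ hσ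

theorem opM_G0 (sz : Sz K) (hsz) : (opM he hθ hσ sz hsz).G0 = twistedF4 K e := by
  have k := (opM he hθ hσ sz hsz).le_of _ le_rfl
  have g0 : ∀ t, gm σ 0 (θ t) = xU chevF4 K 33 (θ t) * xU chevF4 K 24 t := fun t => by simp [gm, gw, wordU, hσ, hθ]
  have g1 : ∀ t u, gm σ 10 (θ t) * gm σ 11 u = xU chevF4 K 27 (θ t) * xU chevF4 K 25 t * xU chevF4 K 28 (θ t * t + u) *
    xU chevF4 K 30 (θ u ^ 2) := fun t u => by rw [gm_b2 hθ hσ, hσ, hθ]
  have n := n_fix he hθ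
  rw [← eq_FixF4 he hθ] at n
  refine le_antisymm ?_ (gen_le ?_)
  · have c1 : ∀ j, 0 < j → (∀ t, gm σ j t ∈ twistedF4 K e) → ∀ t, gm σ (p1 j) t ∈ twistedF4 K e := fun j hj h t =>
      n1_gm (σ := σ) j hj t ▸ mul_mem (mul_mem n.1 (h t)) (inv_mem n.1)
    have c8 : ∀ j, j < 10 → (∀ t, gm σ j t ∈ twistedF4 K e) → ∀ t, gm σ (p8 j) t ∈ twistedF4 K e := fun j hj h t =>
      n8_gm (σ := σ) j hj t ▸ mul_mem (mul_mem n.2 (h t)) (inv_mem n.2)
    have h0 : ∀ t, gm σ 0 t ∈ twistedF4 K e := fun t => by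
      rw [← th_of hθ hσ t, g0]; exact (x2_mem_F4 he _).1
    have hb : ∀ t u, gm σ 10 t * gm σ 11 u ∈ twistedF4 K e := fun t u => by
      rw [← th_of hθ hσ t, g1]; exact (x4_mem_F4 he _ _).1
    have h10 : ∀ t, gm σ 10 t ∈ twistedF4 K e := fun t => by simpa [gm_zero] using hb t 0
    have h11 : ∀ t, gm σ 11 t ∈ twistedF4 K e := fun t => by simpa [gm_zero] using hb 0 t
    have h1 := c1 10 (by decide) h10
    have h2 := c1 11 (by decide) h11
    have h9 := c8 0 (by decide) h0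
    have h3 := c1 9 (by decide) h9
    have h7 := c8 1 (by decide) h1
    have h8 := c8 2 (by decide) h2
    have hh : ∀ α β, hm σ α β ∈ twistedF4 K e := fun α β => H_leF4 he hθ ⟨hm_mem α β, hm_fix hθ hσ α β⟩
    refine sup_le (sup_le (sup_le (sup_le ((closure_le _).2 ?_) ?_) (zpowers_le_of_mem n.2)) ?_) (zpowers_le_of_mem n.1)
    · rintro _ ⟨j, -, t, rfl⟩
      fin_cases j
      exacts [h0 t, h1 t, h2 t, h3 t, c1 7 (by decide) h7 t, c1 8 (by decide) h8 t, c8 3 (by decide) h3 t, h7 t, h8 t,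
        h9 t, h10 t, h11 t]
    · rintro _ ⟨l, rfl⟩; exact hh _ _
    · rintro _ ⟨l, rfl⟩; exact hh _ _
  · rintro _ (⟨t, rfl | rfl⟩ | ⟨t, u, rfl | rfl⟩) <;>
    simp only [wordU, f4PairWord, b2ClassWord, List.map_cons, List.map_nil, List.prod_cons, List.prod_nil,
      mul_one, pow_succ t e, mul_comm 2 e, pow_mul, ← he, ← mul_assoc]
    · exact g0 t ▸ k.1 0 _
    · have := mul_mem (mul_mem k.2.2.2 (k.1 0 (θ t))) (inv_mem k.2.2.2)
      change n₁ * gm σ 0 (θ t) * n₁⁻¹ ∈ _ at this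
      rwa [g0, ← MulAut.conj_apply, map_mul, MulAut.conj_apply, MulAut.conj_apply, n1_x (by decide), n1_x (by decide),
        show r1 33 = f4m1 by decide +kernel, show r1 24 = f4m4 by decide +kernel] at this
    · exact g1 t u ▸ mul_mem (k.1 10 _) (k.1 11 _)
    · have := mul_mem (mul_mem k.2.1 (mul_mem (k.1 10 (θ t)) (k.1 11 u))) (inv_mem k.2.1)
      change n₈ * (gm σ 10 (θ t) * gm σ 11 u) * n₈⁻¹ ∈ _ at this
      rw [g1, ← MulAut.conj_apply] at this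
      simp only [map_mul, MulAut.conj_apply] at this
      rwa [n8_x (by decide), n8_x (by decide), n8_x (by decide), n8_x (by decide), show r8 27 = f4ma by decide +kernel,
        show r8 25 = f4mb by decide +kernel, show r8 28 = f4mab by decide +kernel,
        show r8 30 = f4maab by decide +kernel] at this

omit he hθ hσ [CharP K 2] in
theorem model {m : ℕ} (hK : Fintype.card K = 2 ^ (2 * m + 1)) : ∃ (σ : K →+* K) (sz : Sz K)
    (O : OP σ sz (twistedF4 K (2 ^ m))), O.Braid ∧ O.G0 = ⊤ ∧ (Two K → sz = sz2 K) := by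
  obtain ⟨_, θ, he, hθ⟩ := exists_theta hK
  obtain ⟨σ, hσ⟩ : ∃ σ : K →+* K, ∀ t, σ t = θ t ^ 2 := ⟨(frobenius K 2).comp θ, fun _ => rfl⟩
  obtain ⟨sz, h1, h2⟩ : ∃ sz : Sz K, (∀ s u, ¬ (s = 0 ∧ u = 0) → n₈ * (gm σ 10 s * gm σ 11 u) * n₈ =
      nfg (gm σ) (sz s u).1 * hm σ ((sz s u).2.1 * su σ (sz s u).2.1) (su σ (sz s u).2.1)⁻¹ * n₈ *
        nfg (gm σ) (sz s u).2.2) ∧ (Two K → sz = sz2 K) := by
    by_cases h : Two K
    · refine ⟨sz2 K, fun s u hs => (suz_two h hs).trans ?_, fun _ => rfl⟩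
      rw [show hm σ _ _ = 1 by simpa [sz2, hM] using map_one (hM (ss_of hθ hσ))]
    · choose! f hf using fun s u hs => exists_suz he hθ hσ (s := s) (u := u) hs
      exact ⟨f, hf, fun h' => absurd h' h⟩
  have h3 := opM_G0 he hθ hσ sz h1
  refine ⟨_, sz, (opM he hθ hσ sz h1).sub _ h3.le, Subtype.ext ?_, OP.sub_G0 _ _ _ h3.ge, h2⟩
  change (n₁ * n₈) ^ 8 = 1
  simp only [pow_succ, pow_zero, one_mul, ← wd_append]
  exact wd_eq (l' := []) (by decide +kernel)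

end CfsgLib.F42
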