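import Mathlib
import Cfsg.Agent.Lib.F42.Defs
import Cfsg.Agent.Auto.CfsgLib_F42_cwT_eq_26

/-! # F42: the relations of `U` written out, and the collection rules `OC.col` -/

set_option autoImplicit false
set_option Elab.async false

namespace CfsgLib.F42.OC

variable {K : Type*} [Field K] {G : Type*} [Group G] {σ : K →+* K} {sz : Sz K} (O : OC σ sz G)

include O in
theorem two : (2 : K) = 0 := by
  have h := O.ss (1 + 1)
  simp only [map_add, map_one] at h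
  linear_combination -h

include O in
theorem charP : CharP K 2 := (CharP.charP_iff_prime_eq_zero Nat.prime_two).2 O.two

include O in
theorem add_self (t : K) : t + t = 0 := by rw [← two_mul, O.two, zero_mul]

theorem a0 (t u : K) : O.g 0 t * O.g 0 u = O.g 0 (t + u) := by
  simpa [ev, cw, cwT, mon] using O.add 0 t u

theorem a1 (t u : K) : O.g 1 t * O.g 1 u = O.g 1 (t + u) * O.g 2 (t * σ u) := by
  simpa [ev, cw, cwT, mon] using O.add 1 t u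

theorem a2 (t u : K) : O.g 2 t * O.g 2 u = O.g 2 (t + u) := by
  simpa [ev, cw, cwT, mon] using O.add 2 t u

theorem a3 (t u : K) : O.g 3 t * O.g 3 u = O.g 3 (t + u) := by
  simpa [ev, cw, cwT, mon] using O.add 3 t u

theorem a4 (t u : K) : O.g 4 t * O.g 4 u = O.g 4 (t + u) * O.g 5 (t * σ u) := by
  simpa [ev, cw, cwT, mon] using O.add 4 t u

theorem a5 (t u : K) : O.g 5 t * O.g 5 u = O.g 5 (t + u) := by
  simpa [ev, cw, cwT, mon] using O.add 5 t u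

theorem a6 (t u : K) : O.g 6 t * O.g 6 u = O.g 6 (t + u) := by
  simpa [ev, cw, cwT, mon] using O.add 6 t u

theorem a7 (t u : K) : O.g 7 t * O.g 7 u = O.g 7 (t + u) * O.g 8 (t * σ u) := by
  simpa [ev, cw, cwT, mon] using O.add 7 t u

theorem a8 (t u : K) : O.g 8 t * O.g 8 u = O.g 8 (t + u) := by
  simpa [ev, cw, cwT, mon] using O.add 8 t u

theorem a9 (t u : K) : O.g 9 t * O.g 9 u = O.g 9 (t + u) := by
  simpa [ev, cw, cwT, mon] using O.add 9 t u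

theorem a10 (t u : K) : O.g 10 t * O.g 10 u = O.g 10 (t + u) * O.g 11 (t * σ u) := by
  simpa [ev, cw, cwT, mon] using O.add 10 t u

theorem a11 (t u : K) : O.g 11 t * O.g 11 u = O.g 11 (t + u) := by
  simpa [ev, cw, cwT, mon] using O.add 11 t u

theorem r0_1 (t u : K) : O.g 1 u * O.g 0 t = O.g 0 t * O.g 1 u := by
  simpa [ev, cw, cwT, mon, mul_assoc] using O.rel 0 1 (by decide) t u

theorem r0_2 (t u : K) : O.g 2 u * O.g 0 t = O.g 0 t * O.g 2 u := by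
  simpa [ev, cw, cwT, mon, mul_assoc] using O.rel 0 2 (by decide) t u

theorem r0_3 (t u : K) : O.g 3 u * O.g 0 t = O.g 0 t * O.g 3 u := by
  simpa [ev, cw, cwT, mon, mul_assoc] using O.rel 0 3 (by decide) t u

theorem r0_4 (t u : K) : O.g 4 u * O.g 0 t = O.g 0 t * (O.g 2 (t * u) * O.g 4 u) := by
  simpa [ev, cw, cwT, mon, mul_assoc] using O.rel 0 4 (by decide) t u

theorem r0_5 (t u : K) : O.g 5 u * O.g 0 t = O.g 0 t * O.g 5 u := by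
  simpa [ev, cw, cwT, mon, mul_assoc] using O.rel 0 5 (by decide) t u

theorem r0_6 (t u : K) : O.g 6 u * O.g 0 t = O.g 0 t * O.g 6 u := by
  simpa [ev, cw, cwT, mon, mul_assoc] using O.rel 0 6 (by decide) t u

theorem r0_7 (t u : K) : O.g 7 u * O.g 0 t = O.g 0 t * (O.g 2 (σ t * u) * (O.g 3 (t * σ u) * O.g 7 u)) := by
  simpa [ev, cw, cwT, mon, mul_assoc] using O.rel 0 7 (by decide) t u

theorem r0_8 (t u : K) : O.g 8 u * O.g 0 t = O.g 0 t * (O.g 5 (t * u) * O.g 8 u) := by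
  simpa [ev, cw, cwT, mon, mul_assoc] using O.rel 0 8 (by decide) t u

theorem r0_9 (t u : K) : O.g 9 u * O.g 0 t = O.g 0 t * (O.g 3 (σ t * u) * (O.g 6 (t * σ u) * O.g 9 u)) := by
  simpa [ev, cw, cwT, mon, mul_assoc] using O.rel 0 9 (by decide) t u

theorem r0_10 (t u : K) : O.g 10 u * O.g 0 t = O.g 0 t * (O.g 1 (t * u) * (O.g 3 (t * σ t * u ^ 2 * σ u) * (O.g 5 (t ^ 2 * σ t * u ^ 3 * σ u ^ 2) * (O.g 6 (t * σ t * u ^ 2 * σ u ^ 2) * (O.g 7 (t * u * σ u) * (O.g 8 (t * σ t * u ^ 3 * σ u ^ 2) * (O.g 9 (t * u ^ 2 * σ u) * O.g 10 u))))))) := by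
  simpa [ev, cw, cwT, mon, mul_assoc] using O.rel 0 10 (by decide) t u

theorem r0_11 (t u : K) : O.g 11 u * O.g 0 t = O.g 0 t * (O.g 2 (t * σ t * u) * (O.g 3 (t * σ t * σ u) * (O.g 4 (σ t * u) * (O.g 5 (t ^ 2 * σ t * u * σ u) * (O.g 6 (t * σ t * u ^ 2) * (O.g 7 (t * u) * (O.g 9 (t * σ u) * O.g 11 u))))))) := by
  simpa [ev, cw, cwT, mon, mul_assoc] using O.rel 0 11 (by decide) t u

theorem r1_2 (t u : K) : O.g 2 u * O.g 1 t = O.g 1 t * O.g 2 u := by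
  simpa [ev, cw, cwT, mon, mul_assoc] using O.rel 1 2 (by decide) t u

theorem r1_3 (t u : K) : O.g 3 u * O.g 1 t = O.g 1 t * O.g 3 u := by
  simpa [ev, cw, cwT, mon, mul_assoc] using O.rel 1 3 (by decide) t u

theorem r1_4 (t u : K) : O.g 4 u * O.g 1 t = O.g 1 t * (O.g 3 (t * u) * O.g 4 u) := by
  simpa [ev, cw, cwT, mon, mul_assoc] using O.rel 1 4 (by decide) t u

theorem r1_5 (t u : K) : O.g 5 u * O.g 1 t = O.g 1 t * O.g 5 u := by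
  simpa [ev, cw, cwT, mon, mul_assoc] using O.rel 1 5 (by decide) t u

theorem r1_6 (t u : K) : O.g 6 u * O.g 1 t = O.g 1 t * (O.g 5 (t * u) * O.g 6 u) := by
  simpa [ev, cw, cwT, mon, mul_assoc] using O.rel 1 6 (by decide) t u

theorem r1_7 (t u : K) : O.g 7 u * O.g 1 t = O.g 1 t * O.g 7 u := by
  simpa [ev, cw, cwT, mon, mul_assoc] using O.rel 1 7 (by decide) t u

theorem r1_8 (t u : K) : O.g 8 u * O.g 1 t = O.g 1 t * O.g 8 u := by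
  simpa [ev, cw, cwT, mon, mul_assoc] using O.rel 1 8 (by decide) t u

theorem r1_9 (t u : K) : O.g 9 u * O.g 1 t = O.g 1 t * (O.g 5 (t * σ t * u) * (O.g 6 (σ t * u) * (O.g 8 (t * σ u) * O.g 9 u))) := by
  simpa [ev, cw, cwT, mon, mul_assoc] using O.rel 1 9 (by decide) t u

theorem r1_10 (t u : K) : O.g 10 u * O.g 1 t = O.g 1 t * (O.g 3 (t * σ t * u) * (O.g 4 (σ t * u) * (O.g 5 (t ^ 2 * σ t * u * σ u) * (O.g 7 (t * σ u) * O.g 10 u)))) := by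
  simpa [ev, cw, cwT, mon, mul_assoc] using O.rel 1 10 (by decide) t u

theorem r1_11 (t u : K) : O.g 11 u * O.g 1 t = O.g 1 t * (O.g 5 (t ^ 2 * σ t * u) * (O.g 8 (t * σ t * σ u) * (O.g 9 (t * u) * O.g 11 u))) := by
  simpa [ev, cw, cwT, mon, mul_assoc] using O.rel 1 11 (by decide) t u

theorem r2_3 (t u : K) : O.g 3 u * O.g 2 t = O.g 2 t * O.g 3 u := by
  simpa [ev, cw, cwT, mon, mul_assoc] using O.rel 2 3 (by decide) t u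

theorem r2_4 (t u : K) : O.g 4 u * O.g 2 t = O.g 2 t * O.g 4 u := by
  simpa [ev, cw, cwT, mon, mul_assoc] using O.rel 2 4 (by decide) t u

theorem r2_5 (t u : K) : O.g 5 u * O.g 2 t = O.g 2 t * O.g 5 u := by
  simpa [ev, cw, cwT, mon, mul_assoc] using O.rel 2 5 (by decide) t u

theorem r2_6 (t u : K) : O.g 6 u * O.g 2 t = O.g 2 t * O.g 6 u := by
  simpa [ev, cw, cwT, mon, mul_assoc] using O.rel 2 6 (by decide) t u

theorem r2_7 (t u : K) : O.g 7 u * O.g 2 t = O.g 2 t * O.g 7 u := by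
  simpa [ev, cw, cwT, mon, mul_assoc] using O.rel 2 7 (by decide) t u

theorem r2_8 (t u : K) : O.g 8 u * O.g 2 t = O.g 2 t * O.g 8 u := by
  simpa [ev, cw, cwT, mon, mul_assoc] using O.rel 2 8 (by decide) t u

theorem r2_9 (t u : K) : O.g 9 u * O.g 2 t = O.g 2 t * (O.g 5 (t * u) * O.g 9 u) := by
  simpa [ev, cw, cwT, mon, mul_assoc] using O.rel 2 9 (by decide) t u

theorem r2_10 (t u : K) : O.g 10 u * O.g 2 t = O.g 2 t * (O.g 3 (t * u) * (O.g 6 (t * u * σ u) * (O.g 8 (t * u ^ 2 * σ u) * O.g 10 u))) := by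
  simpa [ev, cw, cwT, mon, mul_assoc] using O.rel 2 10 (by decide) t u

theorem r2_11 (t u : K) : O.g 11 u * O.g 2 t = O.g 2 t * (O.g 5 (σ t * u) * (O.g 6 (t * u) * (O.g 8 (t * σ u) * O.g 11 u))) := by
  simpa [ev, cw, cwT, mon, mul_assoc] using O.rel 2 11 (by decide) t u

theorem r3_4 (t u : K) : O.g 4 u * O.g 3 t = O.g 3 t * O.g 4 u := by
  simpa [ev, cw, cwT, mon, mul_assoc] using O.rel 3 4 (by decide) t u

theorem r3_5 (t u : K) : O.g 5 u * O.g 3 t = O.g 3 t * O.g 5 u := by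
  simpa [ev, cw, cwT, mon, mul_assoc] using O.rel 3 5 (by decide) t u

theorem r3_6 (t u : K) : O.g 6 u * O.g 3 t = O.g 3 t * O.g 6 u := by
  simpa [ev, cw, cwT, mon, mul_assoc] using O.rel 3 6 (by decide) t u

theorem r3_7 (t u : K) : O.g 7 u * O.g 3 t = O.g 3 t * (O.g 5 (t * u) * O.g 7 u) := by
  simpa [ev, cw, cwT, mon, mul_assoc] using O.rel 3 7 (by decide) t u

theorem r3_8 (t u : K) : O.g 8 u * O.g 3 t = O.g 3 t * O.g 8 u := by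
  simpa [ev, cw, cwT, mon, mul_assoc] using O.rel 3 8 (by decide) t u

theorem r3_9 (t u : K) : O.g 9 u * O.g 3 t = O.g 3 t * O.g 9 u := by
  simpa [ev, cw, cwT, mon, mul_assoc] using O.rel 3 9 (by decide) t u

theorem r3_10 (t u : K) : O.g 10 u * O.g 3 t = O.g 3 t * (O.g 5 (σ t * u) * (O.g 6 (t * σ u) * O.g 10 u)) := by
  simpa [ev, cw, cwT, mon, mul_assoc] using O.rel 3 10 (by decide) t u

theorem r3_11 (t u : K) : O.g 11 u * O.g 3 t = O.g 3 t * (O.g 8 (t * u) * O.g 11 u) := by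
  simpa [ev, cw, cwT, mon, mul_assoc] using O.rel 3 11 (by decide) t u

theorem r4_5 (t u : K) : O.g 5 u * O.g 4 t = O.g 4 t * O.g 5 u := by
  simpa [ev, cw, cwT, mon, mul_assoc] using O.rel 4 5 (by decide) t u

theorem r4_6 (t u : K) : O.g 6 u * O.g 4 t = O.g 4 t * O.g 6 u := by
  simpa [ev, cw, cwT, mon, mul_assoc] using O.rel 4 6 (by decide) t u

theorem r4_7 (t u : K) : O.g 7 u * O.g 4 t = O.g 4 t * (O.g 6 (t * u) * O.g 7 u) := by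
  simpa [ev, cw, cwT, mon, mul_assoc] using O.rel 4 7 (by decide) t u

theorem r4_8 (t u : K) : O.g 8 u * O.g 4 t = O.g 4 t * O.g 8 u := by
  simpa [ev, cw, cwT, mon, mul_assoc] using O.rel 4 8 (by decide) t u

theorem r4_9 (t u : K) : O.g 9 u * O.g 4 t = O.g 4 t * (O.g 8 (t * u) * O.g 9 u) := by
  simpa [ev, cw, cwT, mon, mul_assoc] using O.rel 4 9 (by decide) t u

theorem r4_10 (t u : K) : O.g 10 u * O.g 4 t = O.g 4 t * O.g 10 u := by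
  simpa [ev, cw, cwT, mon, mul_assoc] using O.rel 4 10 (by decide) t u

theorem r4_11 (t u : K) : O.g 11 u * O.g 4 t = O.g 4 t * O.g 11 u := by
  simpa [ev, cw, cwT, mon, mul_assoc] using O.rel 4 11 (by decide) t u

theorem r5_6 (t u : K) : O.g 6 u * O.g 5 t = O.g 5 t * O.g 6 u := by
  simpa [ev, cw, cwT, mon, mul_assoc] using O.rel 5 6 (by decide) t u

theorem r5_7 (t u : K) : O.g 7 u * O.g 5 t = O.g 5 t * O.g 7 u := by
  simpa [ev, cw, cwT, mon, mul_assoc] using O.rel 5 7 (by decide) t u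

theorem r5_8 (t u : K) : O.g 8 u * O.g 5 t = O.g 5 t * O.g 8 u := by
  simpa [ev, cw, cwT, mon, mul_assoc] using O.rel 5 8 (by decide) t u

theorem r5_9 (t u : K) : O.g 9 u * O.g 5 t = O.g 5 t * O.g 9 u := by
  simpa [ev, cw, cwT, mon, mul_assoc] using O.rel 5 9 (by decide) t u

theorem r5_10 (t u : K) : O.g 10 u * O.g 5 t = O.g 5 t * O.g 10 u := by
  simpa [ev, cw, cwT, mon, mul_assoc] using O.rel 5 10 (by decide) t u

theorem r5_11 (t u : K) : O.g 11 u * O.g 5 t = O.g 5 t * O.g 11 u := by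
  simpa [ev, cw, cwT, mon, mul_assoc] using O.rel 5 11 (by decide) t u

theorem r6_7 (t u : K) : O.g 7 u * O.g 6 t = O.g 6 t * O.g 7 u := by
  simpa [ev, cw, cwT, mon, mul_assoc] using O.rel 6 7 (by decide) t u

theorem r6_8 (t u : K) : O.g 8 u * O.g 6 t = O.g 6 t * O.g 8 u := by
  simpa [ev, cw, cwT, mon, mul_assoc] using O.rel 6 8 (by decide) t u

theorem r6_9 (t u : K) : O.g 9 u * O.g 6 t = O.g 6 t * O.g 9 u := by
  simpa [ev, cw, cwT, mon, mul_assoc] using O.rel 6 9 (by decide) t u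

theorem r6_10 (t u : K) : O.g 10 u * O.g 6 t = O.g 6 t * (O.g 8 (t * u) * O.g 10 u) := by
  simpa [ev, cw, cwT, mon, mul_assoc] using O.rel 6 10 (by decide) t u

theorem r6_11 (t u : K) : O.g 11 u * O.g 6 t = O.g 6 t * O.g 11 u := by
  simpa [ev, cw, cwT, mon, mul_assoc] using O.rel 6 11 (by decide) t u

theorem r7_8 (t u : K) : O.g 8 u * O.g 7 t = O.g 7 t * O.g 8 u := by
  simpa [ev, cw, cwT, mon, mul_assoc] using O.rel 7 8 (by decide) t u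

theorem r7_9 (t u : K) : O.g 9 u * O.g 7 t = O.g 7 t * O.g 9 u := by
  simpa [ev, cw, cwT, mon, mul_assoc] using O.rel 7 9 (by decide) t u

theorem r7_10 (t u : K) : O.g 10 u * O.g 7 t = O.g 7 t * (O.g 9 (t * u) * O.g 10 u) := by
  simpa [ev, cw, cwT, mon, mul_assoc] using O.rel 7 10 (by decide) t u

theorem r7_11 (t u : K) : O.g 11 u * O.g 7 t = O.g 7 t * O.g 11 u := by
  simpa [ev, cw, cwT, mon, mul_assoc] using O.rel 7 11 (by decide) t u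

theorem r8_9 (t u : K) : O.g 9 u * O.g 8 t = O.g 8 t * O.g 9 u := by
  simpa [ev, cw, cwT, mon, mul_assoc] using O.rel 8 9 (by decide) t u

theorem r8_10 (t u : K) : O.g 10 u * O.g 8 t = O.g 8 t * O.g 10 u := by
  simpa [ev, cw, cwT, mon, mul_assoc] using O.rel 8 10 (by decide) t u

theorem r8_11 (t u : K) : O.g 11 u * O.g 8 t = O.g 8 t * O.g 11 u := by
  simpa [ev, cw, cwT, mon, mul_assoc] using O.rel 8 11 (by decide) t u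

theorem r9_10 (t u : K) : O.g 10 u * O.g 9 t = O.g 9 t * O.g 10 u := by
  simpa [ev, cw, cwT, mon, mul_assoc] using O.rel 9 10 (by decide) t u

theorem r9_11 (t u : K) : O.g 11 u * O.g 9 t = O.g 9 t * O.g 11 u := by
  simpa [ev, cw, cwT, mon, mul_assoc] using O.rel 9 11 (by decide) t u

theorem r10_11 (t u : K) : O.g 11 u * O.g 10 t = O.g 10 t * O.g 11 u := by
  simpa [ev, cw, cwT, mon, mul_assoc] using O.rel 10 11 (by decide) t u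

theorem g_zero (j : Fin 12) : O.g j 0 = 1 := by
  have h : ∀ j, cwT j j = [] → O.g j 0 = 1 := fun j h => by simpa [cw, h, ev] using O.add j 0 0
  by_cases e : cwT j j = []
  · exact h j e
  obtain rfl | rfl | rfl | rfl : j = 1 ∨ j = 4 ∨ j = 7 ∨ j = 10 := by revert j; decide
  · simpa [h 2 rfl] using O.a1 0 0
  · simpa [h 5 rfl] using O.a4 0 0
  · simpa [h 8 rfl] using O.a7 0 0
  · simpa [h 11 rfl] using O.a10 0 0

theorem i0 (t : K) : (O.g 0 t)⁻¹ = O.g 0 t := inv_eq_of_mul_eq_one_right (by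
  rw [O.a0, O.add_self, O.g_zero])

theorem i1 (t : K) : (O.g 1 t)⁻¹ = O.g 1 t * O.g 2 (t * σ t) := inv_eq_of_mul_eq_one_right (by
  rw [← mul_assoc, O.a1, O.add_self, O.g_zero, one_mul, O.a2, O.add_self, O.g_zero])

theorem i2 (t : K) : (O.g 2 t)⁻¹ = O.g 2 t := inv_eq_of_mul_eq_one_right (by
  rw [O.a2, O.add_self, O.g_zero])

theorem i3 (t : K) : (O.g 3 t)⁻¹ = O.g 3 t := inv_eq_of_mul_eq_one_right (by
  rw [O.a3, O.add_self, O.g_zero])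

theorem i4 (t : K) : (O.g 4 t)⁻¹ = O.g 4 t * O.g 5 (t * σ t) := inv_eq_of_mul_eq_one_right (by
  rw [← mul_assoc, O.a4, O.add_self, O.g_zero, one_mul, O.a5, O.add_self, O.g_zero])

theorem i5 (t : K) : (O.g 5 t)⁻¹ = O.g 5 t := inv_eq_of_mul_eq_one_right (by
  rw [O.a5, O.add_self, O.g_zero])

theorem i6 (t : K) : (O.g 6 t)⁻¹ = O.g 6 t := inv_eq_of_mul_eq_one_right (by
  rw [O.a6, O.add_self, O.g_zero])

theorem i7 (t : K) : (O.g 7 t)⁻¹ = O.g 7 t * O.g 8 (t * σ t) := inv_eq_of_mul_eq_one_right (by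
  rw [← mul_assoc, O.a7, O.add_self, O.g_zero, one_mul, O.a8, O.add_self, O.g_zero])

theorem i8 (t : K) : (O.g 8 t)⁻¹ = O.g 8 t := inv_eq_of_mul_eq_one_right (by
  rw [O.a8, O.add_self, O.g_zero])

theorem i9 (t : K) : (O.g 9 t)⁻¹ = O.g 9 t := inv_eq_of_mul_eq_one_right (by
  rw [O.a9, O.add_self, O.g_zero])

theorem i10 (t : K) : (O.g 10 t)⁻¹ = O.g 10 t * O.g 11 (t * σ t) := inv_eq_of_mul_eq_one_right (by
  rw [← mul_assoc, O.a10, O.add_self, O.g_zero, one_mul, O.a11, O.add_self, O.g_zero])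

theorem i11 (t : K) : (O.g 11 t)⁻¹ = O.g 11 t := inv_eq_of_mul_eq_one_right (by
  rw [O.a11, O.add_self, O.g_zero])

/-- `simp only [O.col]` collects a word in the generators. -/
theorem col :
    (∀ t u, O.g 0 t * O.g 0 u = O.g 0 (t + u)) ∧
    (∀ t u x, O.g 0 t * (O.g 0 u * x) = O.g 0 (t + u) * x) ∧
    (∀ t u, O.g 1 t * O.g 1 u = O.g 1 (t + u) * O.g 2 (t * σ u)) ∧
    (∀ t u x, O.g 1 t * (O.g 1 u * x) = O.g 1 (t + u) * (O.g 2 (t * σ u) * x)) ∧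
    (∀ t u, O.g 2 t * O.g 2 u = O.g 2 (t + u)) ∧
    (∀ t u x, O.g 2 t * (O.g 2 u * x) = O.g 2 (t + u) * x) ∧
    (∀ t u, O.g 3 t * O.g 3 u = O.g 3 (t + u)) ∧
    (∀ t u x, O.g 3 t * (O.g 3 u * x) = O.g 3 (t + u) * x) ∧
    (∀ t u, O.g 4 t * O.g 4 u = O.g 4 (t + u) * O.g 5 (t * σ u)) ∧
    (∀ t u x, O.g 4 t * (O.g 4 u * x) = O.g 4 (t + u) * (O.g 5 (t * σ u) * x)) ∧
    (∀ t u, O.g 5 t * O.g 5 u = O.g 5 (t + u)) ∧
    (∀ t u x, O.g 5 t * (O.g 5 u * x) = O.g 5 (t + u) * x) ∧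
    (∀ t u, O.g 6 t * O.g 6 u = O.g 6 (t + u)) ∧
    (∀ t u x, O.g 6 t * (O.g 6 u * x) = O.g 6 (t + u) * x) ∧
    (∀ t u, O.g 7 t * O.g 7 u = O.g 7 (t + u) * O.g 8 (t * σ u)) ∧
    (∀ t u x, O.g 7 t * (O.g 7 u * x) = O.g 7 (t + u) * (O.g 8 (t * σ u) * x)) ∧
    (∀ t u, O.g 8 t * O.g 8 u = O.g 8 (t + u)) ∧
    (∀ t u x, O.g 8 t * (O.g 8 u * x) = O.g 8 (t + u) * x) ∧
    (∀ t u, O.g 9 t * O.g 9 u = O.g 9 (t + u)) ∧
    (∀ t u x, O.g 9 t * (O.g 9 u * x) = O.g 9 (t + u) * x) ∧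
    (∀ t u, O.g 10 t * O.g 10 u = O.g 10 (t + u) * O.g 11 (t * σ u)) ∧
    (∀ t u x, O.g 10 t * (O.g 10 u * x) = O.g 10 (t + u) * (O.g 11 (t * σ u) * x)) ∧
    (∀ t u, O.g 11 t * O.g 11 u = O.g 11 (t + u)) ∧
    (∀ t u x, O.g 11 t * (O.g 11 u * x) = O.g 11 (t + u) * x) ∧
    (∀ t u, O.g 1 u * O.g 0 t = O.g 0 t * O.g 1 u) ∧
    (∀ t u x, O.g 1 u * (O.g 0 t * x) = O.g 0 t * (O.g 1 u * x)) ∧
    (∀ t u, O.g 2 u * O.g 0 t = O.g 0 t * O.g 2 u) ∧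
    (∀ t u x, O.g 2 u * (O.g 0 t * x) = O.g 0 t * (O.g 2 u * x)) ∧
    (∀ t u, O.g 3 u * O.g 0 t = O.g 0 t * O.g 3 u) ∧
    (∀ t u x, O.g 3 u * (O.g 0 t * x) = O.g 0 t * (O.g 3 u * x)) ∧
    (∀ t u, O.g 4 u * O.g 0 t = O.g 0 t * (O.g 2 (t * u) * O.g 4 u)) ∧
    (∀ t u x, O.g 4 u * (O.g 0 t * x) = O.g 0 t * (O.g 2 (t * u) * (O.g 4 u * x))) ∧
    (∀ t u, O.g 5 u * O.g 0 t = O.g 0 t * O.g 5 u) ∧
    (∀ t u x, O.g 5 u * (O.g 0 t * x) = O.g 0 t * (O.g 5 u * x)) ∧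
    (∀ t u, O.g 6 u * O.g 0 t = O.g 0 t * O.g 6 u) ∧
    (∀ t u x, O.g 6 u * (O.g 0 t * x) = O.g 0 t * (O.g 6 u * x)) ∧
    (∀ t u, O.g 7 u * O.g 0 t = O.g 0 t * (O.g 2 (σ t * u) * (O.g 3 (t * σ u) * O.g 7 u))) ∧
    (∀ t u x, O.g 7 u * (O.g 0 t * x) = O.g 0 t * (O.g 2 (σ t * u) * (O.g 3 (t * σ u) * (O.g 7 u * x)))) ∧
    (∀ t u, O.g 8 u * O.g 0 t = O.g 0 t * (O.g 5 (t * u) * O.g 8 u)) ∧
    (∀ t u x, O.g 8 u * (O.g 0 t * x) = O.g 0 t * (O.g 5 (t * u) * (O.g 8 u * x))) ∧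
    (∀ t u, O.g 9 u * O.g 0 t = O.g 0 t * (O.g 3 (σ t * u) * (O.g 6 (t * σ u) * O.g 9 u))) ∧
    (∀ t u x, O.g 9 u * (O.g 0 t * x) = O.g 0 t * (O.g 3 (σ t * u) * (O.g 6 (t * σ u) * (O.g 9 u * x)))) ∧
    (∀ t u, O.g 10 u * O.g 0 t = O.g 0 t * (O.g 1 (t * u) * (O.g 3 (t * σ t * u ^ 2 * σ u) * (O.g 5 (t ^ 2 * σ t * u ^ 3 * σ u ^ 2) * (O.g 6 (t * σ t * u ^ 2 * σ u ^ 2) * (O.g 7 (t * u * σ u) * (O.g 8 (t * σ t * u ^ 3 * σ u ^ 2) * (O.g 9 (t * u ^ 2 * σ u) * O.g 10 u)))))))) ∧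
    (∀ t u x, O.g 10 u * (O.g 0 t * x) = O.g 0 t * (O.g 1 (t * u) * (O.g 3 (t * σ t * u ^ 2 * σ u) * (O.g 5 (t ^ 2 * σ t * u ^ 3 * σ u ^ 2) * (O.g 6 (t * σ t * u ^ 2 * σ u ^ 2) * (O.g 7 (t * u * σ u) * (O.g 8 (t * σ t * u ^ 3 * σ u ^ 2) * (O.g 9 (t * u ^ 2 * σ u) * (O.g 10 u * x))))))))) ∧
    (∀ t u, O.g 11 u * O.g 0 t = O.g 0 t * (O.g 2 (t * σ t * u) * (O.g 3 (t * σ t * σ u) * (O.g 4 (σ t * u) * (O.g 5 (t ^ 2 * σ t * u * σ u) * (O.g 6 (t * σ t * u ^ 2) * (O.g 7 (t * u) * (O.g 9 (t * σ u) * O.g 11 u)))))))) ∧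
    (∀ t u x, O.g 11 u * (O.g 0 t * x) = O.g 0 t * (O.g 2 (t * σ t * u) * (O.g 3 (t * σ t * σ u) * (O.g 4 (σ t * u) * (O.g 5 (t ^ 2 * σ t * u * σ u) * (O.g 6 (t * σ t * u ^ 2) * (O.g 7 (t * u) * (O.g 9 (t * σ u) * (O.g 11 u * x))))))))) ∧
    (∀ t u, O.g 2 u * O.g 1 t = O.g 1 t * O.g 2 u) ∧
    (∀ t u x, O.g 2 u * (O.g 1 t * x) = O.g 1 t * (O.g 2 u * x)) ∧
    (∀ t u, O.g 3 u * O.g 1 t = O.g 1 t * O.g 3 u) ∧
    (∀ t u x, O.g 3 u * (O.g 1 t * x) = O.g 1 t * (O.g 3 u * x)) ∧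
    (∀ t u, O.g 4 u * O.g 1 t = O.g 1 t * (O.g 3 (t * u) * O.g 4 u)) ∧
    (∀ t u x, O.g 4 u * (O.g 1 t * x) = O.g 1 t * (O.g 3 (t * u) * (O.g 4 u * x))) ∧
    (∀ t u, O.g 5 u * O.g 1 t = O.g 1 t * O.g 5 u) ∧
    (∀ t u x, O.g 5 u * (O.g 1 t * x) = O.g 1 t * (O.g 5 u * x)) ∧
    (∀ t u, O.g 6 u * O.g 1 t = O.g 1 t * (O.g 5 (t * u) * O.g 6 u)) ∧
    (∀ t u x, O.g 6 u * (O.g 1 t * x) = O.g 1 t * (O.g 5 (t * u) * (O.g 6 u * x))) ∧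
    (∀ t u, O.g 7 u * O.g 1 t = O.g 1 t * O.g 7 u) ∧
    (∀ t u x, O.g 7 u * (O.g 1 t * x) = O.g 1 t * (O.g 7 u * x)) ∧
    (∀ t u, O.g 8 u * O.g 1 t = O.g 1 t * O.g 8 u) ∧
    (∀ t u x, O.g 8 u * (O.g 1 t * x) = O.g 1 t * (O.g 8 u * x)) ∧
    (∀ t u, O.g 9 u * O.g 1 t = O.g 1 t * (O.g 5 (t * σ t * u) * (O.g 6 (σ t * u) * (O.g 8 (t * σ u) * O.g 9 u)))) ∧
    (∀ t u x, O.g 9 u * (O.g 1 t * x) = O.g 1 t * (O.g 5 (t * σ t * u) * (O.g 6 (σ t * u) * (O.g 8 (t * σ u) * (O.g 9 u * x))))) ∧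
    (∀ t u, O.g 10 u * O.g 1 t = O.g 1 t * (O.g 3 (t * σ t * u) * (O.g 4 (σ t * u) * (O.g 5 (t ^ 2 * σ t * u * σ u) * (O.g 7 (t * σ u) * O.g 10 u))))) ∧
    (∀ t u x, O.g 10 u * (O.g 1 t * x) = O.g 1 t * (O.g 3 (t * σ t * u) * (O.g 4 (σ t * u) * (O.g 5 (t ^ 2 * σ t * u * σ u) * (O.g 7 (t * σ u) * (O.g 10 u * x)))))) ∧
    (∀ t u, O.g 11 u * O.g 1 t = O.g 1 t * (O.g 5 (t ^ 2 * σ t * u) * (O.g 8 (t * σ t * σ u) * (O.g 9 (t * u) * O.g 11 u)))) ∧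
    (∀ t u x, O.g 11 u * (O.g 1 t * x) = O.g 1 t * (O.g 5 (t ^ 2 * σ t * u) * (O.g 8 (t * σ t * σ u) * (O.g 9 (t * u) * (O.g 11 u * x))))) ∧
    (∀ t u, O.g 3 u * O.g 2 t = O.g 2 t * O.g 3 u) ∧
    (∀ t u x, O.g 3 u * (O.g 2 t * x) = O.g 2 t * (O.g 3 u * x)) ∧
    (∀ t u, O.g 4 u * O.g 2 t = O.g 2 t * O.g 4 u) ∧
    (∀ t u x, O.g 4 u * (O.g 2 t * x) = O.g 2 t * (O.g 4 u * x)) ∧
    (∀ t u, O.g 5 u * O.g 2 t = O.g 2 t * O.g 5 u) ∧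
    (∀ t u x, O.g 5 u * (O.g 2 t * x) = O.g 2 t * (O.g 5 u * x)) ∧
    (∀ t u, O.g 6 u * O.g 2 t = O.g 2 t * O.g 6 u) ∧
    (∀ t u x, O.g 6 u * (O.g 2 t * x) = O.g 2 t * (O.g 6 u * x)) ∧
    (∀ t u, O.g 7 u * O.g 2 t = O.g 2 t * O.g 7 u) ∧
    (∀ t u x, O.g 7 u * (O.g 2 t * x) = O.g 2 t * (O.g 7 u * x)) ∧
    (∀ t u, O.g 8 u * O.g 2 t = O.g 2 t * O.g 8 u) ∧
    (∀ t u x, O.g 8 u * (O.g 2 t * x) = O.g 2 t * (O.g 8 u * x)) ∧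
    (∀ t u, O.g 9 u * O.g 2 t = O.g 2 t * (O.g 5 (t * u) * O.g 9 u)) ∧
    (∀ t u x, O.g 9 u * (O.g 2 t * x) = O.g 2 t * (O.g 5 (t * u) * (O.g 9 u * x))) ∧
    (∀ t u, O.g 10 u * O.g 2 t = O.g 2 t * (O.g 3 (t * u) * (O.g 6 (t * u * σ u) * (O.g 8 (t * u ^ 2 * σ u) * O.g 10 u)))) ∧
    (∀ t u x, O.g 10 u * (O.g 2 t * x) = O.g 2 t * (O.g 3 (t * u) * (O.g 6 (t * u * σ u) * (O.g 8 (t * u ^ 2 * σ u) * (O.g 10 u * x))))) ∧
    (∀ t u, O.g 11 u * O.g 2 t = O.g 2 t * (O.g 5 (σ t * u) * (O.g 6 (t * u) * (O.g 8 (t * σ u) * O.g 11 u)))) ∧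
    (∀ t u x, O.g 11 u * (O.g 2 t * x) = O.g 2 t * (O.g 5 (σ t * u) * (O.g 6 (t * u) * (O.g 8 (t * σ u) * (O.g 11 u * x))))) ∧
    (∀ t u, O.g 4 u * O.g 3 t = O.g 3 t * O.g 4 u) ∧
    (∀ t u x, O.g 4 u * (O.g 3 t * x) = O.g 3 t * (O.g 4 u * x)) ∧
    (∀ t u, O.g 5 u * O.g 3 t = O.g 3 t * O.g 5 u) ∧
    (∀ t u x, O.g 5 u * (O.g 3 t * x) = O.g 3 t * (O.g 5 u * x)) ∧
    (∀ t u, O.g 6 u * O.g 3 t = O.g 3 t * O.g 6 u) ∧
    (∀ t u x, O.g 6 u * (O.g 3 t * x) = O.g 3 t * (O.g 6 u * x)) ∧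
    (∀ t u, O.g 7 u * O.g 3 t = O.g 3 t * (O.g 5 (t * u) * O.g 7 u)) ∧
    (∀ t u x, O.g 7 u * (O.g 3 t * x) = O.g 3 t * (O.g 5 (t * u) * (O.g 7 u * x))) ∧
    (∀ t u, O.g 8 u * O.g 3 t = O.g 3 t * O.g 8 u) ∧
    (∀ t u x, O.g 8 u * (O.g 3 t * x) = O.g 3 t * (O.g 8 u * x)) ∧
    (∀ t u, O.g 9 u * O.g 3 t = O.g 3 t * O.g 9 u) ∧
    (∀ t u x, O.g 9 u * (O.g 3 t * x) = O.g 3 t * (O.g 9 u * x)) ∧
    (∀ t u, O.g 10 u * O.g 3 t = O.g 3 t * (O.g 5 (σ t * u) * (O.g 6 (t * σ u) * O.g 10 u))) ∧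
    (∀ t u x, O.g 10 u * (O.g 3 t * x) = O.g 3 t * (O.g 5 (σ t * u) * (O.g 6 (t * σ u) * (O.g 10 u * x)))) ∧
    (∀ t u, O.g 11 u * O.g 3 t = O.g 3 t * (O.g 8 (t * u) * O.g 11 u)) ∧
    (∀ t u x, O.g 11 u * (O.g 3 t * x) = O.g 3 t * (O.g 8 (t * u) * (O.g 11 u * x))) ∧
    (∀ t u, O.g 5 u * O.g 4 t = O.g 4 t * O.g 5 u) ∧
    (∀ t u x, O.g 5 u * (O.g 4 t * x) = O.g 4 t * (O.g 5 u * x)) ∧
    (∀ t u, O.g 6 u * O.g 4 t = O.g 4 t * O.g 6 u) ∧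
    (∀ t u x, O.g 6 u * (O.g 4 t * x) = O.g 4 t * (O.g 6 u * x)) ∧
    (∀ t u, O.g 7 u * O.g 4 t = O.g 4 t * (O.g 6 (t * u) * O.g 7 u)) ∧
    (∀ t u x, O.g 7 u * (O.g 4 t * x) = O.g 4 t * (O.g 6 (t * u) * (O.g 7 u * x))) ∧
    (∀ t u, O.g 8 u * O.g 4 t = O.g 4 t * O.g 8 u) ∧
    (∀ t u x, O.g 8 u * (O.g 4 t * x) = O.g 4 t * (O.g 8 u * x)) ∧
    (∀ t u, O.g 9 u * O.g 4 t = O.g 4 t * (O.g 8 (t * u) * O.g 9 u)) ∧
    (∀ t u x, O.g 9 u * (O.g 4 t * x) = O.g 4 t * (O.g 8 (t * u) * (O.g 9 u * x))) ∧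
    (∀ t u, O.g 10 u * O.g 4 t = O.g 4 t * O.g 10 u) ∧
    (∀ t u x, O.g 10 u * (O.g 4 t * x) = O.g 4 t * (O.g 10 u * x)) ∧
    (∀ t u, O.g 11 u * O.g 4 t = O.g 4 t * O.g 11 u) ∧
    (∀ t u x, O.g 11 u * (O.g 4 t * x) = O.g 4 t * (O.g 11 u * x)) ∧
    (∀ t u, O.g 6 u * O.g 5 t = O.g 5 t * O.g 6 u) ∧
    (∀ t u x, O.g 6 u * (O.g 5 t * x) = O.g 5 t * (O.g 6 u * x)) ∧
    (∀ t u, O.g 7 u * O.g 5 t = O.g 5 t * O.g 7 u) ∧
    (∀ t u x, O.g 7 u * (O.g 5 t * x) = O.g 5 t * (O.g 7 u * x)) ∧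
    (∀ t u, O.g 8 u * O.g 5 t = O.g 5 t * O.g 8 u) ∧
    (∀ t u x, O.g 8 u * (O.g 5 t * x) = O.g 5 t * (O.g 8 u * x)) ∧
    (∀ t u, O.g 9 u * O.g 5 t = O.g 5 t * O.g 9 u) ∧
    (∀ t u x, O.g 9 u * (O.g 5 t * x) = O.g 5 t * (O.g 9 u * x)) ∧
    (∀ t u, O.g 10 u * O.g 5 t = O.g 5 t * O.g 10 u) ∧
    (∀ t u x, O.g 10 u * (O.g 5 t * x) = O.g 5 t * (O.g 10 u * x)) ∧
    (∀ t u, O.g 11 u * O.g 5 t = O.g 5 t * O.g 11 u) ∧
    (∀ t u x, O.g 11 u * (O.g 5 t * x) = O.g 5 t * (O.g 11 u * x)) ∧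
    (∀ t u, O.g 7 u * O.g 6 t = O.g 6 t * O.g 7 u) ∧
    (∀ t u x, O.g 7 u * (O.g 6 t * x) = O.g 6 t * (O.g 7 u * x)) ∧
    (∀ t u, O.g 8 u * O.g 6 t = O.g 6 t * O.g 8 u) ∧
    (∀ t u x, O.g 8 u * (O.g 6 t * x) = O.g 6 t * (O.g 8 u * x)) ∧
    (∀ t u, O.g 9 u * O.g 6 t = O.g 6 t * O.g 9 u) ∧
    (∀ t u x, O.g 9 u * (O.g 6 t * x) = O.g 6 t * (O.g 9 u * x)) ∧
    (∀ t u, O.g 10 u * O.g 6 t = O.g 6 t * (O.g 8 (t * u) * O.g 10 u)) ∧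
    (∀ t u x, O.g 10 u * (O.g 6 t * x) = O.g 6 t * (O.g 8 (t * u) * (O.g 10 u * x))) ∧
    (∀ t u, O.g 11 u * O.g 6 t = O.g 6 t * O.g 11 u) ∧
    (∀ t u x, O.g 11 u * (O.g 6 t * x) = O.g 6 t * (O.g 11 u * x)) ∧
    (∀ t u, O.g 8 u * O.g 7 t = O.g 7 t * O.g 8 u) ∧
    (∀ t u x, O.g 8 u * (O.g 7 t * x) = O.g 7 t * (O.g 8 u * x)) ∧
    (∀ t u, O.g 9 u * O.g 7 t = O.g 7 t * O.g 9 u) ∧
    (∀ t u x, O.g 9 u * (O.g 7 t * x) = O.g 7 t * (O.g 9 u * x)) ∧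
    (∀ t u, O.g 10 u * O.g 7 t = O.g 7 t * (O.g 9 (t * u) * O.g 10 u)) ∧
    (∀ t u x, O.g 10 u * (O.g 7 t * x) = O.g 7 t * (O.g 9 (t * u) * (O.g 10 u * x))) ∧
    (∀ t u, O.g 11 u * O.g 7 t = O.g 7 t * O.g 11 u) ∧
    (∀ t u x, O.g 11 u * (O.g 7 t * x) = O.g 7 t * (O.g 11 u * x)) ∧
    (∀ t u, O.g 9 u * O.g 8 t = O.g 8 t * O.g 9 u) ∧
    (∀ t u x, O.g 9 u * (O.g 8 t * x) = O.g 8 t * (O.g 9 u * x)) ∧
    (∀ t u, O.g 10 u * O.g 8 t = O.g 8 t * O.g 10 u) ∧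
    (∀ t u x, O.g 10 u * (O.g 8 t * x) = O.g 8 t * (O.g 10 u * x)) ∧
    (∀ t u, O.g 11 u * O.g 8 t = O.g 8 t * O.g 11 u) ∧
    (∀ t u x, O.g 11 u * (O.g 8 t * x) = O.g 8 t * (O.g 11 u * x)) ∧
    (∀ t u, O.g 10 u * O.g 9 t = O.g 9 t * O.g 10 u) ∧
    (∀ t u x, O.g 10 u * (O.g 9 t * x) = O.g 9 t * (O.g 10 u * x)) ∧
    (∀ t u, O.g 11 u * O.g 9 t = O.g 9 t * O.g 11 u) ∧
    (∀ t u x, O.g 11 u * (O.g 9 t * x) = O.g 9 t * (O.g 11 u * x)) ∧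
    (∀ t u, O.g 11 u * O.g 10 t = O.g 10 t * O.g 11 u) ∧
    (∀ t u x, O.g 11 u * (O.g 10 t * x) = O.g 10 t * (O.g 11 u * x)) ∧
    (∀ t, (O.g 0 t)⁻¹ = O.g 0 t) ∧
    (∀ t, (O.g 1 t)⁻¹ = O.g 1 t * O.g 2 (t * σ t)) ∧
    (∀ t, (O.g 2 t)⁻¹ = O.g 2 t) ∧
    (∀ t, (O.g 3 t)⁻¹ = O.g 3 t) ∧
    (∀ t, (O.g 4 t)⁻¹ = O.g 4 t * O.g 5 (t * σ t)) ∧
    (∀ t, (O.g 5 t)⁻¹ = O.g 5 t) ∧
    (∀ t, (O.g 6 t)⁻¹ = O.g 6 t) ∧
    (∀ t, (O.g 7 t)⁻¹ = O.g 7 t * O.g 8 (t * σ t)) ∧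
    (∀ t, (O.g 8 t)⁻¹ = O.g 8 t) ∧
    (∀ t, (O.g 9 t)⁻¹ = O.g 9 t) ∧
    (∀ t, (O.g 10 t)⁻¹ = O.g 10 t * O.g 11 (t * σ t)) ∧
    (∀ t, (O.g 11 t)⁻¹ = O.g 11 t) ∧
    (∀ j, O.g j 0 = 1) ∧
    (∀ t : K, t + t = 0) ∧
    (∀ t, σ (σ t) = t ^ 2) ∧
    (∀ x y z : G, x * y * z = x * (y * z)) ∧
    (∀ x y : G, (x * y)⁻¹ = y⁻¹ * x⁻¹) ∧
    (∀ x : G, x⁻¹⁻¹ = x) ∧
    (∀ x : G, 1 * x = x) ∧
    (∀ x : G, x * 1 = x) ∧
    ((1 : G)⁻¹ = 1) ∧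
    (∀ t : K, 0 * t = 0) ∧
    (∀ t : K, t * 0 = 0) ∧
    (∀ t : K, 0 + t = t) ∧
    (∀ t : K, t + 0 = t) ∧
    (∀ t : K, 1 * t = t) ∧
    (∀ t : K, t * 1 = t) ∧
    (σ 0 = 0) ∧
    (σ 1 = 1) ∧
    (∀ n : ℕ, (1 : K) ^ n = 1) ∧
    (∀ n : ℕ, (0 : K) ^ (n + 1) = 0) ∧
    (∀ t u, σ (t + u) = σ t + σ u) ∧
    (∀ t u, σ (t * u) = σ t * σ u) ∧
    (∀ t (n : ℕ), σ (t ^ n) = σ t ^ n) ∧
    (∀ t, σ t⁻¹ = (σ t)⁻¹) :=
  ⟨O.a0,
   fun t u x => by rw [← mul_assoc, O.a0],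
   O.a1,
   fun t u x => by rw [← mul_assoc, O.a1]; simp only [mul_assoc],
   O.a2,
   fun t u x => by rw [← mul_assoc, O.a2],
   O.a3,
   fun t u x => by rw [← mul_assoc, O.a3],
   O.a4,
   fun t u x => by rw [← mul_assoc, O.a4]; simp only [mul_assoc],
   O.a5,
   fun t u x => by rw [← mul_assoc, O.a5],
   O.a6,
   fun t u x => by rw [← mul_assoc, O.a6],
   O.a7,
   fun t u x => by rw [← mul_assoc, O.a7]; simp only [mul_assoc],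
   O.a8,
   fun t u x => by rw [← mul_assoc, O.a8],
   O.a9,
   fun t u x => by rw [← mul_assoc, O.a9],
   O.a10,
   fun t u x => by rw [← mul_assoc, O.a10]; simp only [mul_assoc],
   O.a11,
   fun t u x => by rw [← mul_assoc, O.a11],
   O.r0_1,
   fun t u x => by rw [← mul_assoc, O.r0_1]; simp only [mul_assoc],
   O.r0_2,
   fun t u x => by rw [← mul_assoc, O.r0_2]; simp only [mul_assoc],
   O.r0_3,
   fun t u x => by rw [← mul_assoc, O.r0_3]; simp only [mul_assoc],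
   O.r0_4,
   fun t u x => by rw [← mul_assoc, O.r0_4]; simp only [mul_assoc],
   O.r0_5,
   fun t u x => by rw [← mul_assoc, O.r0_5]; simp only [mul_assoc],
   O.r0_6,
   fun t u x => by rw [← mul_assoc, O.r0_6]; simp only [mul_assoc],
   O.r0_7,
   fun t u x => by rw [← mul_assoc, O.r0_7]; simp only [mul_assoc],
   O.r0_8,
   fun t u x => by rw [← mul_assoc, O.r0_8]; simp only [mul_assoc],
   O.r0_9,
   fun t u x => by rw [← mul_assoc, O.r0_9]; simp only [mul_assoc],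
   O.r0_10,
   fun t u x => by rw [← mul_assoc, O.r0_10]; simp only [mul_assoc],
   O.r0_11,
   fun t u x => by rw [← mul_assoc, O.r0_11]; simp only [mul_assoc],
   O.r1_2,
   fun t u x => by rw [← mul_assoc, O.r1_2]; simp only [mul_assoc],
   O.r1_3,
   fun t u x => by rw [← mul_assoc, O.r1_3]; simp only [mul_assoc],
   O.r1_4,
   fun t u x => by rw [← mul_assoc, O.r1_4]; simp only [mul_assoc],
   O.r1_5,
   fun t u x => by rw [← mul_assoc, O.r1_5]; simp only [mul_assoc],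
   O.r1_6,
   fun t u x => by rw [← mul_assoc, O.r1_6]; simp only [mul_assoc],
   O.r1_7,
   fun t u x => by rw [← mul_assoc, O.r1_7]; simp only [mul_assoc],
   O.r1_8,
   fun t u x => by rw [← mul_assoc, O.r1_8]; simp only [mul_assoc],
   O.r1_9,
   fun t u x => by rw [← mul_assoc, O.r1_9]; simp only [mul_assoc],
   O.r1_10,
   fun t u x => by rw [← mul_assoc, O.r1_10]; simp only [mul_assoc],
   O.r1_11,
   fun t u x => by rw [← mul_assoc, O.r1_11]; simp only [mul_assoc],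
   O.r2_3,
   fun t u x => by rw [← mul_assoc, O.r2_3]; simp only [mul_assoc],
   O.r2_4,
   fun t u x => by rw [← mul_assoc, O.r2_4]; simp only [mul_assoc],
   O.r2_5,
   fun t u x => by rw [← mul_assoc, O.r2_5]; simp only [mul_assoc],
   O.r2_6,
   fun t u x => by rw [← mul_assoc, O.r2_6]; simp only [mul_assoc],
   O.r2_7,
   fun t u x => by rw [← mul_assoc, O.r2_7]; simp only [mul_assoc],
   O.r2_8,
   fun t u x => by rw [← mul_assoc, O.r2_8]; simp only [mul_assoc],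
   O.r2_9,
   fun t u x => by rw [← mul_assoc, O.r2_9]; simp only [mul_assoc],
   O.r2_10,
   fun t u x => by rw [← mul_assoc, O.r2_10]; simp only [mul_assoc],
   O.r2_11,
   fun t u x => by rw [← mul_assoc, O.r2_11]; simp only [mul_assoc],
   O.r3_4,
   fun t u x => by rw [← mul_assoc, O.r3_4]; simp only [mul_assoc],
   O.r3_5,
   fun t u x => by rw [← mul_assoc, O.r3_5]; simp only [mul_assoc],
   O.r3_6,
   fun t u x => by rw [← mul_assoc, O.r3_6]; simp only [mul_assoc],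
   O.r3_7,
   fun t u x => by rw [← mul_assoc, O.r3_7]; simp only [mul_assoc],
   O.r3_8,
   fun t u x => by rw [← mul_assoc, O.r3_8]; simp only [mul_assoc],
   O.r3_9,
   fun t u x => by rw [← mul_assoc, O.r3_9]; simp only [mul_assoc],
   O.r3_10,
   fun t u x => by rw [← mul_assoc, O.r3_10]; simp only [mul_assoc],
   O.r3_11,
   fun t u x => by rw [← mul_assoc, O.r3_11]; simp only [mul_assoc],
   O.r4_5,
   fun t u x => by rw [← mul_assoc, O.r4_5]; simp only [mul_assoc],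
   O.r4_6,
   fun t u x => by rw [← mul_assoc, O.r4_6]; simp only [mul_assoc],
   O.r4_7,
   fun t u x => by rw [← mul_assoc, O.r4_7]; simp only [mul_assoc],
   O.r4_8,
   fun t u x => by rw [← mul_assoc, O.r4_8]; simp only [mul_assoc],
   O.r4_9,
   fun t u x => by rw [← mul_assoc, O.r4_9]; simp only [mul_assoc],
   O.r4_10,
   fun t u x => by rw [← mul_assoc, O.r4_10]; simp only [mul_assoc],
   O.r4_11,
   fun t u x => by rw [← mul_assoc, O.r4_11]; simp only [mul_assoc],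
   O.r5_6,
   fun t u x => by rw [← mul_assoc, O.r5_6]; simp only [mul_assoc],
   O.r5_7,
   fun t u x => by rw [← mul_assoc, O.r5_7]; simp only [mul_assoc],
   O.r5_8,
   fun t u x => by rw [← mul_assoc, O.r5_8]; simp only [mul_assoc],
   O.r5_9,
   fun t u x => by rw [← mul_assoc, O.r5_9]; simp only [mul_assoc],
   O.r5_10,
   fun t u x => by rw [← mul_assoc, O.r5_10]; simp only [mul_assoc],
   O.r5_11,
   fun t u x => by rw [← mul_assoc, O.r5_11]; simp only [mul_assoc],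
   O.r6_7,
   fun t u x => by rw [← mul_assoc, O.r6_7]; simp only [mul_assoc],
   O.r6_8,
   fun t u x => by rw [← mul_assoc, O.r6_8]; simp only [mul_assoc],
   O.r6_9,
   fun t u x => by rw [← mul_assoc, O.r6_9]; simp only [mul_assoc],
   O.r6_10,
   fun t u x => by rw [← mul_assoc, O.r6_10]; simp only [mul_assoc],
   O.r6_11,
   fun t u x => by rw [← mul_assoc, O.r6_11]; simp only [mul_assoc],
   O.r7_8,
   fun t u x => by rw [← mul_assoc, O.r7_8]; simp only [mul_assoc],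
   O.r7_9,
   fun t u x => by rw [← mul_assoc, O.r7_9]; simp only [mul_assoc],
   O.r7_10,
   fun t u x => by rw [← mul_assoc, O.r7_10]; simp only [mul_assoc],
   O.r7_11,
   fun t u x => by rw [← mul_assoc, O.r7_11]; simp only [mul_assoc],
   O.r8_9,
   fun t u x => by rw [← mul_assoc, O.r8_9]; simp only [mul_assoc],
   O.r8_10,
   fun t u x => by rw [← mul_assoc, O.r8_10]; simp only [mul_assoc],
   O.r8_11,
   fun t u x => by rw [← mul_assoc, O.r8_11]; simp only [mul_assoc],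
   O.r9_10,
   fun t u x => by rw [← mul_assoc, O.r9_10]; simp only [mul_assoc],
   O.r9_11,
   fun t u x => by rw [← mul_assoc, O.r9_11]; simp only [mul_assoc],
   O.r10_11,
   fun t u x => by rw [← mul_assoc, O.r10_11]; simp only [mul_assoc],
   O.i0,
   O.i1,
   O.i2,
   O.i3,
   O.i4,
   O.i5,
   O.i6,
   O.i7,
   O.i8,
   O.i9,
   O.i10,
   O.i11,
   O.g_zero,
   O.add_self,
   O.ss,
   mul_assoc,
   mul_inv_rev,
   inv_inv,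
   one_mul,
   mul_one,
   inv_one,
   zero_mul,
   mul_zero,
   zero_add,
   add_zero,
   one_mul,
   mul_one,
   map_zero σ,
   map_one σ,
   one_pow,
   fun n => zero_pow n.succ_ne_zero,
   map_add σ,
   map_mul σ,
   map_pow σ,
   map_inv₀ σ⟩

theorem z_mul {j : Fin 12} {t : K} {x : G} (ht : t = 0) (hx : x = 1) : O.g j t * x = 1 := by
  rw [ht, hx, O.g_zero, one_mul]

theorem z_one {j : Fin 12} {t : K} (ht : t = 0) : O.g j t = 1 := by rw [ht, O.g_zero]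

theorem c_mul {j : Fin 12} {t u : K} {x y : G} (ht : t = u) (hx : x = y) : O.g j t * x = O.g j u * y := by
  rw [ht, hx]

theorem c_one {j : Fin 12} {t u : K} (ht : t = u) : O.g j t = O.g j u := by rw [ht]

/-- uniqueness of the normal form, written out -/
theorem nf_inj {a0 a1 a2 a3 a4 a5 a6 a7 a8 a9 a10 a11 b0 b1 b2 b3 b4 b5 b6 b7 b8 b9 b10 b11 : K}
    (h : O.g 0 a0 * (O.g 1 a1 * (O.g 2 a2 * (O.g 3 a3 * (O.g 4 a4 * (O.g 5 a5 * (O.g 6 a6 * (O.g 7 a7 *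
      (O.g 8 a8 * (O.g 9 a9 * (O.g 10 a10 * O.g 11 a11)))))))))) =
      O.g 0 b0 * (O.g 1 b1 * (O.g 2 b2 * (O.g 3 b3 * (O.g 4 b4 * (O.g 5 b5 * (O.g 6 b6 * (O.g 7 b7 *
      (O.g 8 b8 * (O.g 9 b9 * (O.g 10 b10 * O.g 11 b11))))))))))) :
    a0 = b0 ∧ a1 = b1 ∧ a2 = b2 ∧ a3 = b3 ∧ a4 = b4 ∧ a5 = b5 ∧ a6 = b6 ∧ a7 = b7 ∧ a8 = b8 ∧ a9 = b9 ∧
      a10 = b10 ∧ a11 = b11 := by
  have e := O.inj (a₁ := ![a0, a1, a2, a3, a4, a5, a6, a7, a8, a9, a10, a11])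
    (a₂ := ![b0, b1, b2, b3, b4, b5, b6, b7, b8, b9, b10, b11]) h
  exact ⟨congrFun e 0, congrFun e 1, congrFun e 2, congrFun e 3, congrFun e 4, congrFun e 5, congrFun e 6,
    congrFun e 7, congrFun e 8, congrFun e 9, congrFun e 10, congrFun e 11⟩

end CfsgLib.F42.OC
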