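import Mathlib
import Cfsg.Agent.Lib.F42.Rel

/-! # F42: pattern subgroups of `U` and arithmetic of `σ` -/

set_option autoImplicit false
set_option Elab.async false
set_option linter.unusedSectionVars false

namespace CfsgLib.F42

open Subgroup
open scoped commutatorElement

/-- the indices in the correction word of the generators `j, k` -/
def cm (j k : Fin 12) : List (Fin 12) := (cwT (min j k) (max j k)).map Prod.fst

/-- all correction words of `A` against `B` lie in `D` -/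
def Cl (A B D : List (Fin 12)) : Prop := ∀ j ∈ A, ∀ k ∈ B, ∀ i ∈ cm j k, i ∈ D

instance (A B D : List (Fin 12)) : Decidable (Cl A B D) := by unfold Cl; infer_instance

variable {K : Type*} [Field K] {G : Type*} [Group G] {σ : K →+* K} {sz : Sz K}

@[simp] theorem su_val (l : Kˣ) : (su σ l : K) = σ l := rfl

theorem chi_ne (j : Fin 12) (α β : Kˣ) : chi σ j α β ≠ 0 := by simp [chi, mon]

theorem wt8_ne (j : Fin 12) (l : Kˣ) : wt8 σ j l ≠ 0 := by simp [wt8, mon]

namespace OC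

variable (O : OC σ sz G)

section field
include O

theorem add_eq_zero {t u : K} : t + u = 0 ↔ t = u :=
  ⟨fun h => by rw [← add_zero t, ← O.add_self u, ← add_assoc, h, zero_add], fun h => h ▸ O.add_self t⟩

theorem sq_inj {t u : K} (h : t ^ 2 = u ^ 2) : t = u := σ.injective (σ.injective (by rw [O.ss, O.ss, h]))

/-- `t ↦ t^(1+σ)` is injective -/
theorem n_inj {t u : K} (h : t * σ t = u * σ u) : t = u := by
  have h2 := congrArg σ h
  simp only [map_mul, O.ss] at h2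
  by_cases hu : u = 0
  · subst hu; simpa using h
  have ht : t ≠ 0 := by rintro rfl; simp [hu] at h
  have : t * (u * σ u) = u * (u * σ u) := by
    calc t * (u * σ u) = σ t * t ^ 2 := by rw [← h]; ring
      _ = u * (u * σ u) := by rw [h2]; ring
  exact mul_right_cancel₀ (by simp [hu]) this

theorem n_eq_one {t : K} (h : t * σ t = 1) : t = 1 := O.n_inj (by simpa using h)

theorem fix_sig {t : K} (h : σ t = t) : t = 0 ∨ t = 1 := by
  have := O.ss t
  rw [h, h, sq] at this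
  by_cases h0 : t = 0
  · exact .inl h0
  · exact .inr (mul_left_cancel₀ h0 (by rw [← this, mul_one]))

theorem no_cube {t : K} (h : t ^ 2 + t + 1 = 0) : False := by
  have := O.charP
  have h1 := congrArg σ h
  simp only [map_add, map_pow, map_one, map_zero] at h1
  have h2 := O.ss t
  have h3 : (σ t + t) * (σ t + t + 1) = 0 := by grind
  rcases mul_eq_zero.1 h3 with e | e
  · rcases O.fix_sig (O.add_eq_zero.1 e) with rfl | rfl <;> grind
  · have := congrArg σ e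
    simp only [map_add, map_one, map_zero, h2] at this
    grind

variable [Finite K]

theorem sig_surj (t : K) : ∃ u, σ u = t := Finite.surjective_of_injective σ.injective t

theorem n_surj (t : K) : ∃ u, u * σ u = t :=
  Finite.surjective_of_injective (f := fun u => u * σ u) (fun _ _ => O.n_inj) t

theorem card_K : ∃ n, Nat.card K = 2 ^ n := by
  have := O.charP
  have := Fintype.ofFinite K
  obtain ⟨n, -, h⟩ := FiniteField.card K 2
  exact ⟨n, by rw [Nat.card_eq_fintype_card, h]⟩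

theorem odd_units : Odd (Nat.card Kˣ) := by
  obtain ⟨n, h⟩ := O.card_K
  have h1 : 1 < Nat.card K := Finite.one_lt_card
  rw [Nat.card_units]
  refine Nat.Even.sub_odd h1.le ?_ odd_one
  rw [h] at h1 ⊢
  exact Nat.even_pow.2 ⟨even_two, by rintro rfl; simp at h1⟩

end field

theorem pat_mono {S T : List (Fin 12)} (h : ∀ j ∈ S, j ∈ T) : O.pat S ≤ O.pat T :=
  closure_mono fun _ ⟨j, hj, e⟩ => ⟨j, h j hj, e⟩

theorem pat_le {S : List (Fin 12)} {P : Subgroup G} : O.pat S ≤ P ↔ ∀ j ∈ S, ∀ t, O.g j t ∈ P := by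
  rw [pat, closure_le]
  exact ⟨fun h j hj t => h ⟨j, hj, t, rfl⟩, fun h _ ⟨j, hj, t, e⟩ => e ▸ h j hj t⟩

theorem pat_le_U (S : List (Fin 12)) : O.pat S ≤ O.U := O.pat_le.2 fun j _ => O.g_mem_U j

theorem pat_le_C (S : List (Fin 12)) : O.pat S ≤ O.C := (O.pat_le_U S).trans O.U_le_C

theorem pat_congr {S T : List (Fin 12)} (h : ∀ j, j ∈ S ↔ j ∈ T) : O.pat S = O.pat T :=
  le_antisymm (O.pat_mono fun j => (h j).1) (O.pat_mono fun j => (h j).2)

theorem pat_nil : O.pat [] = ⊥ := le_bot_iff.1 (O.pat_le.2 (by simp))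

theorem g_pow_four (j : Fin 12) (t : K) : O.g j t ^ 4 = 1 := by
  fin_cases j <;> simp only [pow_succ, pow_zero, Fin.reduceFinMk, O.col, Fin.zero_eta, Fin.mk_one, Fin.isValue]

theorem ev_mem {S : List (Fin 12)} {j k : Fin 12} (h : ∀ i ∈ (cwT j k).map Prod.fst, i ∈ S) (t u : K) :
    ev O.g (cw σ j k t u) ∈ O.pat S := list_prod_mem fun x hx => by
  simp only [cw, List.map_map, List.mem_map, Function.comp] at hx
  obtain ⟨m, hm, rfl⟩ := hx
  exact O.g_mem (h _ (List.mem_map_of_mem hm)) _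

@[elab_as_elim]
theorem pat_ind {S : List (Fin 12)} {p : G → Prop} {x : G} (hx : x ∈ O.pat S) (h1 : p 1)
    (hg : ∀ j ∈ S, ∀ t, p (O.g j t)) (hm : ∀ x ∈ O.pat S, ∀ y ∈ O.pat S, p x → p y → p (x * y)) : p x := by
  have h4 := O.g_pow_four
  refine closure_induction'' (p := fun x _ => p x) ?_ ?_ h1 (fun x y hx hy => hm x hx y hy) hx
  · rintro _ ⟨j, hj, t, rfl⟩; exact hg j hj t
  · rintro _ ⟨j, hj, t, rfl⟩
    have m := O.g_mem hj t
    rw [show (O.g j t)⁻¹ = O.g j t * (O.g j t * O.g j t) from inv_eq_of_mul_eq_one_right (by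
      rw [← h4 j t]; simp only [pow_succ, pow_zero, one_mul, mul_assoc])]
    exact hm _ m _ (mul_mem m m) (hg j hj t) (hm _ m _ m (hg j hj t) (hg j hj t))

/-- `x` maps a pattern subgroup into `P` if it does so with the generators -/
theorem conj_pat {S : List (Fin 12)} {P : Subgroup G} {x : G} (h : ∀ j ∈ S, ∀ t, x * O.g j t * x⁻¹ ∈ P) {y : G}
    (hy : y ∈ O.pat S) : x * y * x⁻¹ ∈ P :=
  (O.pat_le (P := P.comap (MulAut.conj x).toMonoidHom)).2 h hy

theorem cube {P : Subgroup G} {a : G} (h4 : a ^ 4 = 1) (h : ∀ y ∈ P, a * y * a⁻¹ ∈ P) {y : G} (hy : y ∈ P) :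
    a⁻¹ * y * a⁻¹⁻¹ ∈ P := by
  have e : a⁻¹ = a * (a * a) := inv_eq_of_mul_eq_one_right (by
    rw [← h4]; simp only [pow_succ, pow_zero, one_mul, mul_assoc])
  have := h _ (h _ (h _ hy))
  rwa [show a * (a * (a * y * a⁻¹) * a⁻¹) * a⁻¹ = a * (a * a) * y * (a * (a * a))⁻¹ by group, ← e] at this

theorem norm_of_four {P : Subgroup G} {a : G} (h4 : a ^ 4 = 1) (h : ∀ y ∈ P, a * y * a⁻¹ ∈ P) :
    a ∈ normalizer (P : Set G) := mem_normalizer_iff.2 fun y => ⟨h y, fun hy => by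
  simpa [mul_assoc] using cube h4 h hy⟩

theorem rel' {D : List (Fin 12)} {j k : Fin 12} (e : j < k) (h : (∀ i ∈ cm j k, i ∈ D) ∨ ∀ i ∈ cm k j, i ∈ D)
    (t u : K) : ∃ d ∈ O.pat D, O.g k u * O.g j t = O.g j t * (d * O.g k u) :=
  ⟨_, O.ev_mem (by simpa only [cm, min_eq_left e.le, max_eq_right e.le, min_eq_right e.le, max_eq_left e.le,
    or_self] using h) t u, O.rel j k e t u⟩

theorem add' {D : List (Fin 12)} {j : Fin 12} (h : ∀ i ∈ cm j j, i ∈ D) (t u : K) :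
    ∃ d ∈ O.pat D, O.g j t * O.g j u = O.g j (t + u) * d :=
  ⟨_, O.ev_mem (by simpa only [cm, min_self, max_self] using h) t u, O.add j t u⟩

theorem pat_norm {A S : List (Fin 12)} (h : Cl A S S) : O.pat A ≤ normalizer (O.pat S : Set G) :=
  O.pat_le.2 fun j hj t => norm_of_four (O.g_pow_four j t) fun y => O.conj_pat fun k hk u => by
    rcases lt_trichotomy j k with e | rfl | e
    · have lt : ∀ j k : Fin 12, j < k → ∀ i ∈ cm j k, j < i := by decide
      have h1 : ∀ y ∈ O.pat (S.filter (j < ·)), (O.g j t)⁻¹ * y * (O.g j t)⁻¹⁻¹ ∈ O.pat (S.filter (j < ·)) :=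
        fun y => O.conj_pat fun k hk u => by
          have hk' := List.mem_filter.1 hk
          have e : j < k := by simpa using hk'.2
          obtain ⟨d, hd, e1⟩ := O.rel' (D := S.filter (j < ·)) e (.inl fun i hi =>
            List.mem_filter.2 ⟨h j hj k hk'.1 i hi, by simpa using lt j k e i hi⟩) t u
          rw [inv_inv, mul_assoc, e1, inv_mul_cancel_left]
          exact mul_mem hd (O.g_mem hk u)
      have := cube (by rw [inv_pow, O.g_pow_four, inv_one]) h1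
        (O.g_mem (List.mem_filter.2 ⟨hk, by simpa using e⟩) u)
      rw [inv_inv] at this
      exact O.pat_mono (fun i hi => (List.mem_filter.1 hi).1) this
    · exact mul_mem (mul_mem (O.g_mem hk _) (O.g_mem hk _)) (inv_mem (O.g_mem hk _))
    · obtain ⟨d, hd, e1⟩ := O.rel' e (.inr (h j hj k hk)) u t
      rw [e1, mul_assoc, mul_inv_cancel_right]
      exact mul_mem (O.g_mem hk _) hd

theorem conj_mem {A S : List (Fin 12)} (h : Cl A S S) {x y : G} (hx : x ∈ O.pat A) (hy : y ∈ O.pat S) :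
    x * y * x⁻¹ ∈ O.pat S := (mem_normalizer_iff.1 (O.pat_norm h hx) y).1 hy

theorem comm_mem {A B D : List (Fin 12)} (h : Cl A B D) (hA : Cl A D D) (hB : Cl B D D) {x y : G}
    (hx : x ∈ O.pat A) (hy : y ∈ O.pat B) : ⁅x, y⁆ ∈ O.pat D := by
  refine O.pat_ind hx (by simp) (fun j hj t => ?_) fun a ha b _ h1 h2 => ?_
  · refine O.pat_ind hy (by simp) (fun k hk u => ?_) fun a ha b _ h1 h2 => ?_
    · rcases lt_trichotomy j k with e | rfl | e
      · obtain ⟨d, hd, e1⟩ := O.rel' e (.inl (h j hj k hk)) t u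
        have := inv_mem (O.conj_mem hA (O.g_mem hj t) hd)
        rwa [show d = (O.g j t)⁻¹ * (O.g k u * O.g j t) * (O.g k u)⁻¹ by rw [e1]; group, show
          (O.g j t * ((O.g j t)⁻¹ * (O.g k u * O.g j t) * (O.g k u)⁻¹) * (O.g j t)⁻¹)⁻¹ = ⁅O.g j t, O.g k u⁆ by
            rw [commutatorElement_def]; group] at this
      · obtain ⟨d, hd, e1⟩ := O.add' (h j hj j hk) t u
        obtain ⟨d', hd', e2⟩ := O.add' (h j hj j hk) u t
        have := O.conj_mem hA (O.g_mem hj (t + u)) (mul_mem hd (inv_mem hd'))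
        rwa [show O.g j (t + u) * (d * d'⁻¹) * (O.g j (t + u))⁻¹ = O.g j (t + u) * d * (O.g j (u + t) * d')⁻¹ by
          rw [add_comm u]; group, ← e1, ← e2, show O.g j t * O.g j u * (O.g j u * O.g j t)⁻¹ = ⁅O.g j t, O.g j u⁆ by
            rw [commutatorElement_def]; group] at this
      · obtain ⟨d, hd, e1⟩ := O.rel' e (.inr (h j hj k hk)) u t
        have := O.conj_mem hB (O.g_mem hk u) hd
        rwa [show O.g k u * d * (O.g k u)⁻¹ = O.g k u * (d * O.g j t) * (O.g j t)⁻¹ * (O.g k u)⁻¹ by group, ← e1,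
          ← commutatorElement_def] at this
    · rw [show ⁅O.g j t, a * b⁆ = ⁅O.g j t, a⁆ * (a * ⁅O.g j t, b⁆ * a⁻¹) by
        simp only [commutatorElement_def]; group]
      exact mul_mem h1 (O.conj_mem hB ha h2)
  · rw [show ⁅a * b, y⁆ = a * ⁅b, y⁆ * a⁻¹ * ⁅a, y⁆ by simp only [commutatorElement_def]; group]
    exact mul_mem (O.conj_mem hA ha h2) h1

theorem commute_pat {A B : List (Fin 12)} (h : Cl A B []) {x y : G} (hx : x ∈ O.pat A) (hy : y ∈ O.pat B) :
    Commute x y := commutatorElement_eq_one_iff_commute.1 (by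
  simpa [O.pat_nil] using O.comm_mem h (by simp [Cl]) (by simp [Cl]) hx hy)

theorem mem_cons {k : Fin 12} {S : List (Fin 12)} (h : Cl [k] (k :: S) S) {x : G} :
    x ∈ O.pat (k :: S) ↔ ∃ t, ∃ s ∈ O.pat S, x = O.g k t * s := by
  have hS : O.pat S ≤ O.pat (k :: S) := O.pat_mono fun _ => List.mem_cons_of_mem _
  refine ⟨fun hx => O.pat_ind hx ⟨0, 1, one_mem _, by rw [O.g_zero, one_mul]⟩ (fun j hj t => ?_) ?_,
    fun ⟨t, s, hs, e⟩ => e ▸ mul_mem (O.g_mem List.mem_cons_self t) (hS hs)⟩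
  · rcases List.mem_cons.1 hj with rfl | hj
    · exact ⟨t, 1, one_mem _, (mul_one _).symm⟩
    · exact ⟨0, _, O.g_mem hj t, by rw [O.g_zero, one_mul]⟩
  · rintro _ - _ - ⟨t, s, hs, rfl⟩ ⟨u, s', hs', rfl⟩
    obtain ⟨d, hd, e⟩ := O.add' (h k List.mem_cons_self k List.mem_cons_self) t u
    have h1 := O.conj_mem (A := [k]) (fun j hj i hi => h j hj i (List.mem_cons_of_mem _ hi))
      (inv_mem (O.g_mem List.mem_cons_self u)) hs
    exact ⟨t + u, _, mul_mem hd (mul_mem h1 hs'), by rw [← mul_assoc (O.g k (t + u)), ← e]; group⟩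

theorem nf_update {p : Fin 12 → K} {k : Fin 12} {t : K} (h : ∀ j ≤ k, p j = 0) :
    O.nf (Function.update p k t) = O.g k t * O.nf p := by
  have h' : ∀ j, j ≤ k → O.g j (p j) = 1 := fun j hj => by rw [h j hj, O.g_zero]
  fin_cases k <;> simp [nf, nfg, h']

theorem nf_mem_of {S : List (Fin 12)} {p : Fin 12 → K} (h : ∀ j, j ∉ S → p j = 0) : O.nf p ∈ O.pat S := by
  have : ∀ j, O.g j (p j) ∈ O.pat S := fun j => by
    by_cases hj : j ∈ S
    · exact O.g_mem hj _
    · rw [h j hj, O.g_zero]; exact one_mem _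
  unfold nf nfg
  repeat first | exact this _ | apply mul_mem

theorem mem_pat {S : List (Fin 12)} (h : Cl S S S) {x : G} :
    x ∈ O.pat S ↔ ∃ p, (∀ j, j ∉ S → p j = 0) ∧ x = O.nf p := by
  have key : ∀ n i : ℕ, i + n = 12 → ∀ x ∈ O.pat (S.filter (i ≤ ·.1)),
      ∃ p, (∀ j, j ∉ S ∨ j.1 < i → p j = 0) ∧ x = O.nf p := by
    intro n
    induction n with
    | zero =>
      intro i hi x hx
      rw [List.filter_eq_nil_iff.2 fun a _ => by simp; omega, O.pat_nil, mem_bot] at hx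
      exact ⟨0, fun _ _ => rfl, by simp [hx, nf, nfg, O.g_zero]⟩
    | succ n ih =>
      intro i hi x hx
      let k : Fin 12 := ⟨i, by omega⟩
      by_cases hk : k ∈ S
      · have lt : ∀ j k : Fin 12, j ≤ k → ∀ i ∈ cm j k, j < i := by decide
        rw [O.pat_congr (T := k :: S.filter (i + 1 ≤ ·.1)) fun j => by
          simp only [List.mem_filter, List.mem_cons, decide_eq_true_eq, Fin.ext_iff, k]
          exact ⟨fun h => (Nat.eq_or_lt_of_le h.2).imp Eq.symm fun e => ⟨h.1, e⟩, fun h => h.elim (fun e => ⟨(Fin.ext e : j = k) ▸ hk, e.ge⟩) fun h => ⟨h.1, by omega⟩⟩,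
          O.mem_cons fun a ha j hj b hb => by
            obtain rfl := List.mem_singleton.1 ha
            have hj' : j ∈ S ∧ k ≤ j := by
              rcases List.mem_cons.1 hj with rfl | hj
              · exact ⟨hk, le_rfl⟩
              · have := List.mem_filter.1 hj
                exact ⟨this.1, by simp only [decide_eq_true_eq] at this; exact Nat.le_of_succ_le this.2⟩
            exact List.mem_filter.2 ⟨h k hk j hj'.1 b hb, decide_eq_true (lt k j hj'.2 b hb)⟩] at hx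
        obtain ⟨t, s, hs, rfl⟩ := hx
        obtain ⟨p, hp, rfl⟩ := ih (i + 1) (by omega) s hs
        refine ⟨Function.update p k t, fun j hj => ?_, (O.nf_update fun j hj => hp j (.inr (Nat.lt_succ_of_le hj))).symm⟩
        rw [Function.update_of_ne (by rintro rfl; simp [hk, k] at hj), hp j (hj.imp_right Nat.lt_succ_of_lt)]
      · rw [O.pat_congr (T := S.filter (i + 1 ≤ ·.1)) fun j => by
          simp only [List.mem_filter, decide_eq_true_eq]
          refine and_congr_right fun hj => ⟨fun h => lt_of_le_of_ne h fun e => hk ((Fin.ext e : k = j) ▸ hj),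
            Nat.le_of_succ_le⟩] at hx
        obtain ⟨p, hp, rfl⟩ := ih (i + 1) (by omega) x hx
        exact ⟨p, fun j hj => hp j (hj.imp_right Nat.lt_succ_of_lt), rfl⟩
  refine ⟨fun hx => ?_, fun ⟨p, hp, e⟩ => e ▸ O.nf_mem_of hp⟩
  obtain ⟨p, hp, e⟩ := key 12 0 rfl x (by simpa using hx)
  exact ⟨p, fun j hj => hp j (.inl hj), e⟩

theorem mem_U {x : G} : x ∈ O.U ↔ ∃ p, x = O.nf p := by
  rw [O.mem_pat (by decide)]
  exact exists_congr fun p => and_iff_right fun j hj => absurd (by revert j; decide) hj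

theorem nf_mem {S : List (Fin 12)} (h : Cl S S S) {p : Fin 12 → K} : O.nf p ∈ O.pat S ↔ ∀ j, j ∉ S → p j = 0 := 
  ⟨fun hx => by obtain ⟨p', hp, e⟩ := (O.mem_pat h).1 hx; rwa [O.inj e], O.nf_mem_of⟩

theorem nf_single (j : Fin 12) (t : K) : O.nf (Pi.single j t) = O.g j t := by
  have := O.nf_update (p := 0) (k := j) (t := t) fun _ _ => rfl
  rwa [show O.nf 0 = 1 by simp [nf, nfg, O.g_zero], mul_one] at this

theorem g_mem_iff {S : List (Fin 12)} (h : Cl S S S) {j : Fin 12} (hj : j ∉ S) {t : K} :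
    O.g j t ∈ O.pat S ↔ t = 0 := by
  rw [← O.nf_single, O.nf_mem h]
  exact ⟨fun h => by simpa using h j hj, fun h i _ => by simp [h]⟩

theorem g_inj (j : Fin 12) : Function.Injective (O.g j) := fun t u h => by
  rw [← O.nf_single, ← O.nf_single] at h
  simpa using congrFun (O.inj h) j

theorem g_eq_one {j : Fin 12} {t : K} : O.g j t = 1 ↔ t = 0 := by
  rw [← O.g_zero j, (O.g_inj j).eq_iff]

/-- the coordinate of a layer is well defined -/
theorem layer_inj {k : Fin 12} {S : List (Fin 12)} (h : Cl (k :: S) (k :: S) S) (hk : k ∉ S) {t u : K} {s s' : G}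
    (hs : s ∈ O.pat S) (hs' : s' ∈ O.pat S) (e : O.g k t * s = O.g k u * s') : t = u := by
  have hS : Cl S S S := fun a ha b hb => h a (List.mem_cons_of_mem _ ha) b (List.mem_cons_of_mem _ hb)
  obtain ⟨d, hd, e1⟩ := O.add' (h k List.mem_cons_self k List.mem_cons_self) u t
  obtain ⟨d', hd', e2⟩ := O.add' (h k List.mem_cons_self k List.mem_cons_self) u u
  rw [O.add_self, O.g_zero, one_mul] at e2
  refine (O.add_eq_zero.1 ((O.g_mem_iff (j := k) hS hk).1 ?_)).symm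
  rw [show O.g k (u + t) = d' * s' * s⁻¹ * d⁻¹ by
    rw [← e2, mul_assoc (O.g k u), ← e, ← mul_assoc, e1]; group]
  exact mul_mem (mul_mem (mul_mem hd' hs') (inv_mem hs)) (inv_mem hd)

theorem pat_inf {S T : List (Fin 12)} (hS : Cl S S S) (hT : Cl T T T) :
    O.pat S ⊓ O.pat T = O.pat (S.filter (· ∈ T)) := by
  refine le_antisymm (fun x hx => ?_) (le_inf (O.pat_mono fun j hj => (List.mem_filter.1 hj).1)
    (O.pat_mono fun j hj => by simpa using (List.mem_filter.1 hj).2))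
  obtain ⟨p, hp, rfl⟩ := (O.mem_pat hS).1 hx.1
  refine O.nf_mem_of fun j hj => ?_
  by_cases e : j ∈ S
  · exact (O.nf_mem hT).1 hx.2 j fun e' => hj (List.mem_filter.2 ⟨e, by simpa⟩)
  · exact hp j e

theorem mem_Z {x : G} : x ∈ O.Z ↔ ∃ t, x = O.g 5 t := by
  simp [O.mem_cons (k := 5) (S := []) (by decide), O.pat_nil]

theorem mem_Z6 {x : G} : x ∈ O.Z6 ↔ ∃ t, x = O.g 8 t := by
  simp [O.mem_cons (k := 8) (S := []) (by decide), O.pat_nil]

theorem mem_V {x : G} : x ∈ O.V ↔ ∃ s t, x = O.g 5 s * O.g 8 t := by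
  simp only [O.mem_cons (k := 5) (S := [8]) (by decide), O.mem_Z6]
  exact exists_congr fun s => ⟨fun ⟨_, ⟨t, e⟩, e'⟩ => ⟨t, e ▸ e'⟩, fun ⟨t, e⟩ => ⟨_, ⟨t, rfl⟩, e⟩⟩

theorem card_pat {S : List (Fin 12)} (h : Cl S S S) (hn : S.Nodup) : Nat.card (O.pat S) = Nat.card K ^ S.length := by
  classical
  let f : ({j // j ∈ S} → K) → O.pat S := fun q =>
    ⟨O.nf fun j => if h : j ∈ S then q ⟨j, h⟩ else 0, O.nf_mem_of fun j hj => dif_neg hj⟩
  have hf : Function.Bijective f := ⟨fun q q' e => funext fun j => by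
    simpa [j.2] using congrFun (O.inj (show O.nf _ = O.nf _ from Subtype.mk.inj e)) j, fun ⟨x, hx⟩ => by
      obtain ⟨p, hp, rfl⟩ := (O.mem_pat h).1 hx
      refine ⟨fun j => p j, Subtype.mk_eq_mk.2 (congrArg O.nf (funext fun j => ?_))⟩
      split_ifs with e
      exacts [rfl, (hp j e).symm]⟩
  rw [← Nat.card_eq_of_bijective f hf, Nat.card_fun, Nat.card_eq_fintype_card (α := {j // j ∈ S}),
    Fintype.card_of_subtype S.toFinset (by simp), List.toFinset_card_of_nodup hn]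

theorem isPGroup_pat [Finite K] (S : List (Fin 12)) : IsPGroup 2 (O.pat S) := by
  obtain ⟨n, h⟩ := O.card_K
  exact (IsPGroup.of_card (n := n * 12) (by rw [O.card_pat (by decide) (by decide), h, ← pow_mul]; rfl) :
    IsPGroup 2 O.U).to_le (O.pat_le_U S)

theorem h8_norm (S : List (Fin 12)) : O.H8 ≤ normalizer (O.pat S : Set G) := by
  rintro _ ⟨l, rfl⟩
  have : ∀ l, ∀ y ∈ O.pat S, O.h8 l * y * (O.h8 l)⁻¹ ∈ O.pat S := fun l y =>
    O.conj_pat fun j hj t => O.h8_g l j t ▸ O.g_mem hj _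
  exact mem_normalizer_iff.2 fun y => ⟨this l y, fun h => by simpa [mul_assoc] using this l⁻¹ _ h⟩

theorem n8_inv : O.n8⁻¹ = O.n8 := inv_eq_of_mul_eq_one_right O.n8_sq

theorem n8_conj {S : List (Fin 12)} (h : ∀ j ∈ S, j < 10) {x : G} :
    x ∈ O.pat S ↔ O.n8 * x * O.n8⁻¹ ∈ O.pat (S.map p8) := by
  refine ⟨O.conj_pat fun j hj t => O.n8_g j (h j hj) t ▸ O.g_mem (List.mem_map_of_mem hj) t, fun hx => ?_⟩
  have e : ∀ j : Fin 12, j < 10 → p8 j < 10 ∧ p8 (p8 j) = j := by decide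
  have := O.conj_pat (x := O.n8) (P := O.pat S) (fun j hj t => by
    obtain ⟨i, hi, rfl⟩ := List.mem_map.1 hj
    rw [O.n8_g _ (e i (h i hi)).1, (e i (h i hi)).2]; exact O.g_mem hi t) hx
  rwa [O.n8_inv, ← mul_assoc, ← mul_assoc, O.n8_sq, one_mul, mul_assoc, O.n8_sq, mul_one] at this

theorem τ_ne : O.τ ≠ 1 := fun h => one_ne_zero (O.g_eq_one.1 h)

theorem τ_sq : O.τ * O.τ = 1 := by simp only [O.col]

theorem τ_mem : O.τ ∈ O.Z := O.g_mem (by decide) 1

section map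
variable {G' : Type*} [Group G'] (φ : O.C →* G') (hφ : Function.Injective φ)

theorem map_pat (S : List (Fin 12)) : (O.map φ hφ).pat S = ((O.pat S).subgroupOf O.C).map φ := by
  refine le_antisymm ((O.map φ hφ).pat_le.2 fun j hj t => ⟨O.gC j t, O.g_mem hj t, rfl⟩) ?_
  rintro _ ⟨⟨x, hC⟩, hx, rfl⟩
  have : ∀ h : x ∈ O.C, φ ⟨x, h⟩ ∈ (O.map φ hφ).pat S :=
    O.pat_ind (S := S) (p := fun x => ∀ h : x ∈ O.C, φ ⟨x, h⟩ ∈ (O.map φ hφ).pat S) hx
      (fun _ => by rw [show (⟨1, _⟩ : O.C) = 1 from rfl, map_one]; exact one_mem _)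
      (fun j hj t _ => (O.map φ hφ).g_mem hj t) fun a ha b hb h1 h2 _ => by
        have := mul_mem (h1 (O.pat_le_C S ha)) (h2 (O.pat_le_C S hb))
        rwa [← map_mul] at this
  exact this hC

theorem map_C : (O.map φ hφ).C = φ.range := by
  refine le_antisymm (sup_le (sup_le ((O.map φ hφ).pat_le.2 fun j _ t => ⟨_, rfl⟩) ?_) (zpowers_le.2 ⟨_, rfl⟩)) ?_
  · rintro _ ⟨l, rfl⟩; exact ⟨_, rfl⟩
  · have : O.C ≤ ((O.map φ hφ).C.comap φ).map O.C.subtype :=
      sup_le (sup_le (O.pat_le.2 fun j _ t => ⟨O.gC j t, (O.map φ hφ).g_mem_C j t, rfl⟩)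
        (by rintro _ ⟨l, rfl⟩; exact ⟨O.h8C l, (O.map φ hφ).h8_mem_C l, rfl⟩))
        (zpowers_le.2 ⟨⟨_, O.n8_mem_C⟩, (O.map φ hφ).n8_mem_C, rfl⟩)
    rintro _ ⟨x, rfl⟩
    obtain ⟨y, hy, e⟩ := this x.2
    exact (Subtype.ext e : y = x) ▸ hy

end map

end OC

theorem OT.h_norm (O : OT σ sz G) (S : List (Fin 12)) : O.H ≤ normalizer (O.pat S : Set G) := by
  rintro _ ⟨l, rfl⟩
  have : ∀ l, ∀ y ∈ O.pat S, O.h l * y * (O.h l)⁻¹ ∈ O.pat S := fun l y =>
    O.conj_pat fun j hj t => O.h_g l.1 l.2 j t ▸ O.g_mem hj _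
  exact mem_normalizer_iff.2 fun y => ⟨this l y, fun h => by simpa [mul_assoc] using this l⁻¹ _ h⟩

theorem OP.n1_inv (O : OP σ sz G) : O.n1⁻¹ = O.n1 := inv_eq_of_mul_eq_one_right O.n1_sq

theorem OP.n1_conj (O : OP σ sz G) {S : List (Fin 12)} (h : ∀ j ∈ S, 0 < j) {x : G} :
    x ∈ O.pat S ↔ O.n1 * x * O.n1⁻¹ ∈ O.pat (S.map p1) := by
  refine ⟨O.conj_pat fun j hj t => O.n1_g j (h j hj) t ▸ O.g_mem (List.mem_map_of_mem hj) t, fun hx => ?_⟩
  have e : ∀ j : Fin 12, 0 < j → 0 < p1 j ∧ p1 (p1 j) = j := by decide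
  have := O.conj_pat (x := O.n1) (P := O.pat S) (fun j hj t => by
    obtain ⟨i, hi, rfl⟩ := List.mem_map.1 hj
    rw [O.n1_g _ (e i (h i hi)).1, (e i (h i hi)).2]; exact O.g_mem hi t) hx
  rwa [O.n1_inv, ← mul_assoc, ← mul_assoc, O.n1_sq, one_mul, mul_assoc, O.n1_sq, mul_one] at this

theorem OP.sw (O : OP σ sz G) : O.Sw O.n1 := 
  ⟨mem_normalizer_iff.2 fun x => (O.n1_conj (by decide)).trans (by
      rw [O.pat_congr (T := [1, 2, 3, 4, 5, 6, 7, 8, 9, 10, 11]) (by decide)]),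
    fun _ => (O.n1_conj (by decide)).1, fun _ => (O.n1_conj (by decide)).1⟩

theorem OP.sym_map (O : OP σ sz G) {G' : Type*} [Group G'] (φ : O.C →* G') (hφ : Function.Injective φ) :
    (O.map φ hφ).Sym := by
  intro w hw
  have n1R : ∀ r ∈ O.R, O.n1 * r * O.n1⁻¹ ∈ O.R := fun r => (mem_normalizer_iff.1 O.sw.norm r).1
  have aR : ∀ r ∈ O.R, O.g 0 1 * r * (O.g 0 1)⁻¹ ∈ O.R := fun r => O.conj_mem (A := [0]) (by decide) (O.g_mem (by decide) 1)
  have h1 : ∀ r ∈ O.R, ∀ h h', w * φ ⟨r, h⟩ * w⁻¹ = φ ⟨O.n1 * r * O.n1⁻¹, h'⟩ := fun r hr =>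
    O.pat_ind hr (fun _ _ => by simp [show ∀ h, (⟨1, h⟩ : O.C) = 1 from fun _ => rfl])
      (fun j hj t _ _ => by
        have hj' : 0 < j := (by decide : ∀ j ∈ ([1, 2, 3, 4, 5, 6, 7, 8, 9, 10, 11] : List (Fin 12)), 0 < j) j hj
        exact (hw j hj' t).trans (congrArg φ (Subtype.ext (O.n1_g j hj' t).symm)))
      fun a ha b hb e1 e2 _ _ => by
        have := congrArg₂ (· * ·) (e1 (O.pat_le_C _ ha) (O.pat_le_C _ (n1R a ha)))
          (e2 (O.pat_le_C _ hb) (O.pat_le_C _ (n1R b hb)))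
        simp only [conj_mul, ← map_mul] at this
        exact this.trans (congrArg φ (Subtype.ext conj_mul))
  have h2 : ∀ r ∈ O.R, ∀ h, ∃ h', ((O.map φ hφ).g 0 1 * w) * φ ⟨r, h⟩ * ((O.map φ hφ).g 0 1 * w)⁻¹ =
      φ ⟨(O.g 0 1 * O.n1) * r * (O.g 0 1 * O.n1)⁻¹, O.pat_le_C _ h'⟩ := fun r hr h => by
    have e : ∀ {Γ : Type _} [Group Γ] (a b c : Γ), a * b * c * (a * b)⁻¹ = a * (b * c * b⁻¹) * a⁻¹ :=
      fun a b c => by group
    refine ⟨(e _ _ r).symm ▸ aR _ (n1R r hr), ?_⟩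
    rw [show ∀ a b c : G', a * b * c * (a * b)⁻¹ = a * (b * c * b⁻¹) * a⁻¹ from fun a b c => by group,
      h1 r hr h (O.pat_le_C _ (n1R r hr))]
    change φ _ * _ * (φ _)⁻¹ = _
    rw [← map_inv, ← map_mul, ← map_mul]
    exact congrArg φ (Subtype.ext (e _ _ r).symm)
  intro r hr0
  obtain ⟨⟨r, h⟩, hr, rfl⟩ := (O.map_pat φ hφ _).le hr0
  obtain ⟨m1, e1⟩ := h2 r hr h
  obtain ⟨m2, e2⟩ := h2 _ m1 (O.pat_le_C _ m1)
  obtain ⟨m3, e3⟩ := h2 _ m2 (O.pat_le_C _ m2)
  have e : ∀ a r : G, a * (a * (a * r * a⁻¹) * a⁻¹) * a⁻¹ = a ^ 3 * r * (a ^ 3)⁻¹ := fun a r => by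
    simp only [pow_succ, pow_zero, one_mul, mul_inv_rev, mul_assoc]
  have e4 : (⟨_, O.pat_le_C _ m3⟩ : O.C) = ⟨r, h⟩ := Subtype.ext ((e _ r).trans (by rw [O.tri]; simp))
  rw [← e1] at e2
  rw [← e2, e4] at e3
  rw [Commute, SemiconjBy, ← mul_inv_eq_iff_eq_mul]
  refine Eq.trans ?_ e3
  simp only [pow_succ, pow_zero, one_mul, mul_inv_rev, mul_assoc]

end CfsgLib.F42
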