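import Mathlib
import Cfsg.Agent.Lib.F42.Pat
import Cfsg.Agent.Lib.Coprime.Action
import Cfsg.Agent.Lib.Tech.SylowIn

/-! # F42: the structure of `C` (package CST1) -/

set_option autoImplicit false
set_option Elab.async false
set_option linter.unusedSectionVars false

namespace CfsgLib.F42

open Subgroup CfsgLib.Tech
open scoped commutatorElement

variable {K : Type*} [Field K] [Finite K] {G : Type*} [Group G] [Finite G] {σ : K →+* K} {sz : Sz K}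

theorem wt8_mul (j : Fin 12) (l m : Kˣ) : wt8 σ j (l * m) = wt8 σ j l * wt8 σ j m := by
  simp only [wt8, mon, Units.val_mul, mul_inv, map_mul]; ring

theorem wt8_one (j : Fin 12) : wt8 σ j 1 = 1 := by simp [wt8, mon]

theorem wt8_five (l : Kˣ) : wt8 σ 5 l = 1 := by simp [wt8, mon, w8T]

theorem mem_all : ∀ j : Fin 12, j ∈ [0, 1, 2, 3, 4, 5, 6, 7, 8, 9, 10, 11] := by decide

namespace OC

variable (O : OC σ sz G)

include O in
theorem wt8_ne_one {l : Kˣ} (hl : l ≠ 1) {j : Fin 12} (h4 : j ≠ 4) (h5 : j ≠ 5) : wt8 σ j l ≠ 1 := by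
  have h1 : (l : K) ≠ 1 := by simpa using hl
  have h2 : (l : K)⁻¹ ≠ 1 := by simpa using hl
  have h3 : (l : K) * σ l ≠ 1 := mt O.n_eq_one h1
  have h6 : (l : K)⁻¹ * σ (l : K)⁻¹ ≠ 1 := mt O.n_eq_one h2
  have h7 : ∀ {x : K}, x ≠ 1 → σ x ≠ 1 := fun h e => h (σ.injective (e.trans (map_one σ).symm))
  have h8 := h7 h6
  rw [map_mul, O.ss, mul_comm] at h8
  have h9 := h7 h2
  fin_cases j <;> first | exact absurd rfl h4 | exact absurd rfl h5 | simpa [wt8, mon, w8T] using h1 |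
    simpa [wt8, mon, w8T] using h3 | simpa [wt8, mon, w8T] using h6 | simpa [wt8, mon, w8T] using h9 |
    simpa [wt8, mon, w8T] using h8

include O in
theorem wt8_surj {j : Fin 12} (h4 : j ≠ 4) (h5 : j ≠ 5) {t : K} (ht : t ≠ 0) : ∃ l, wt8 σ j l = t := by
  let f : Kˣ →* Kˣ := MonoidHom.mk' (fun l => .mk0 _ (wt8_ne (σ := σ) j l)) fun l m => Units.ext (wt8_mul j l m)
  obtain ⟨l, hl⟩ := Finite.surjective_of_injective ((injective_iff_map_eq_one f).2 fun l hl => by_contra fun h =>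
    O.wt8_ne_one h h4 h5 (congrArg Units.val hl)) (.mk0 t ht)
  exact ⟨l, congrArg Units.val hl⟩

include O in
theorem sq_surj (l : Kˣ) : ∃ m : Kˣ, l = m * m := by
  obtain ⟨u, hu⟩ := O.sig_surj l
  obtain ⟨w, rfl⟩ := O.sig_surj u
  rw [O.ss, sq] at hu
  exact ⟨.mk0 w (by rintro rfl; simpa using hu.symm), Units.ext hu.symm⟩

theorem inf_mem {S T D : List (Fin 12)} (hS : Cl S S S) (hT : Cl T T T) (h : ∀ j ∈ S, j ∈ T → j ∈ D) {x : G}
    (h1 : x ∈ O.pat S) (h2 : x ∈ O.pat T) : x ∈ O.pat D :=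
  O.pat_mono (fun j hj => h j (List.mem_filter.1 hj).1 (by simpa using (List.mem_filter.1 hj).2))
    ((O.pat_inf hS hT).le ⟨h1, h2⟩)

theorem inf_one {S T : List (Fin 12)} (hS : Cl S S S) (hT : Cl T T T) (h : ∀ j ∈ S, j ∉ T) {x : G}
    (h1 : x ∈ O.pat S) (h2 : x ∈ O.pat T) : x = 1 :=
  mem_bot.1 (O.pat_nil ▸ O.inf_mem hS hT (fun j a b => (h j a b).elim) h1 h2)

theorem mem_U8 {x : G} : x ∈ O.pat [10, 11] ↔ ∃ s v, x = O.g 10 s * O.g 11 v := by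
  simp [O.mem_cons (k := 10) (S := [11]) (by decide), O.mem_cons (k := 11) (S := []) (by decide), O.pat_nil]

theorem split_Q {u : G} (hu : u ∈ O.U) : ∃ q ∈ O.Q, ∃ b ∈ O.pat [10, 11], u = q * b := by
  obtain ⟨p, rfl⟩ := O.mem_U.1 hu
  refine ⟨O.nf p * (O.g 10 (p 10) * O.g 11 (p 11))⁻¹, ?_, _, O.mem_U8.2 ⟨_, _, rfl⟩, (inv_mul_cancel_right _ _).symm⟩
  simp only [nf, nfg, mul_assoc, mul_inv_cancel, mul_one]
  repeat first | exact O.g_mem (by decide) _ | apply mul_mem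

theorem mem_B8 {x : G} : x ∈ O.B8 ↔ ∃ u ∈ O.U, ∃ l, x = u * O.h8 l := by
  rw [← SetLike.mem_coe, coe_mul_of_right_le_normalizer_left _ _ (O.h8_norm _)]
  exact ⟨fun ⟨u, hu, _, ⟨l, rfl⟩, e⟩ => ⟨u, hu, l, e.symm⟩, fun ⟨u, hu, l, e⟩ => ⟨u, hu, _, ⟨l, rfl⟩, e.symm⟩⟩

theorem pat_le_B8 (S : List (Fin 12)) : O.pat S ≤ O.B8 := (O.pat_le_U S).trans le_sup_left

theorem h8_mem_B8 (l : Kˣ) : O.h8 l ∈ O.B8 := mem_sup_right ⟨l, rfl⟩

theorem B8_le_C : O.B8 ≤ O.C := le_sup_left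

theorem B8_norm {S : List (Fin 12)} (h : Cl [0, 1, 2, 3, 4, 5, 6, 7, 8, 9, 10, 11] S S) : O.B8 ≤ normalizer (O.pat S : Set G) :=
  sup_le (O.pat_norm h) (O.h8_norm S)

theorem C_norm {S : List (Fin 12)} (h : Cl [0, 1, 2, 3, 4, 5, 6, 7, 8, 9, 10, 11] S S) (h1 : ∀ j ∈ S, j < 10)
    (h2 : ∀ j, j ∈ S.map p8 ↔ j ∈ S) : O.C ≤ normalizer (O.pat S : Set G) :=
  sup_le (O.B8_norm h) (zpowers_le.2 (mem_normalizer_iff.2 fun _ => (O.n8_conj h1).trans (by rw [O.pat_congr h2])))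

theorem C_norm_Q : O.C ≤ normalizer (O.Q : Set G) := O.C_norm (by decide) (by decide) (by decide)

theorem C_norm_Ph : O.C ≤ normalizer (O.Ph : Set G) := O.C_norm (by decide) (by decide) (by decide)

theorem C_norm_E : O.C ≤ normalizer (O.E : Set G) := O.C_norm (by decide) (by decide) (by decide)

theorem C_norm_Z : O.C ≤ normalizer (O.Z : Set G) := O.C_norm (by decide) (by decide) (by decide)

theorem n8_mul {y : G} (hy : y ∈ O.B8) : ∃ a ∈ O.B8, ∃ b ∈ O.pat [10, 11], O.n8 * y = a * O.n8 * b := by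
  obtain ⟨u, hu, l, rfl⟩ := O.mem_B8.1 hy
  obtain ⟨q, hq, b, hb, e⟩ := O.split_Q (conj_mem_of_mem_normalizer' (O.h8_norm _ ⟨l, rfl⟩) hu)
  refine ⟨_, mul_mem (inv_mem (O.h8_mem_B8 l)) (O.pat_le_B8 _ (conj_mem_of_mem_normalizer (O.C_norm_Q O.n8_mem_C) hq)),
    b, hb, ?_⟩
  rw [← O.n8_h8, show u * O.h8 l = O.h8 l * (q * b) by rw [← e]; group]
  group

theorem suz' {b : G} (hb : b ∈ O.pat [10, 11]) (h : b ≠ 1) :
    ∃ a ∈ O.B8, ∃ u ∈ O.U, O.n8 * b * O.n8 = a * O.n8 * u := by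
  obtain ⟨s, v, rfl⟩ := O.mem_U8.1 hb
  exact ⟨_, O.mem_B8.2 ⟨_, O.mem_U.2 ⟨_, rfl⟩, _, rfl⟩, _, O.mem_U.2 ⟨_, rfl⟩,
    O.suz s v fun ⟨a, b⟩ => h (by rw [a, b, O.g_zero, O.g_zero, mul_one])⟩

theorem mem_C' {x : G} (hx : x ∈ O.C) : x ∈ O.B8 ∨ ∃ a ∈ O.B8, ∃ b ∈ O.pat [10, 11], x = a * O.n8 * b := by
  have key : ∀ x, (x ∈ O.B8 ∨ ∃ a ∈ O.B8, ∃ b ∈ O.pat [10, 11], x = a * O.n8 * b) → ∀ y, y ∈ O.B8 ∨ y = O.n8 →
      x * y ∈ O.B8 ∨ ∃ a ∈ O.B8, ∃ b ∈ O.pat [10, 11], x * y = a * O.n8 * b := by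
    rintro x (h | ⟨a, ha, b, hb, rfl⟩) y (hy | rfl)
    · exact .inl (mul_mem h hy)
    · exact .inr ⟨x, h, 1, one_mem _, (mul_one _).symm⟩
    · obtain ⟨a', h1, b', h2, e⟩ := O.n8_mul (mul_mem (O.pat_le_B8 _ hb) hy)
      exact .inr ⟨_, mul_mem ha h1, b', h2, by simp only [mul_assoc] at e ⊢; rw [e]⟩
    · by_cases h : b = 1
      · exact .inl (by rwa [h, mul_one, mul_assoc, O.n8_sq, mul_one])
      · obtain ⟨a1, h1, u, h2, e⟩ := O.suz' hb h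
        obtain ⟨a2, h3, b', h4, e'⟩ := O.n8_mul (O.pat_le_B8 _ h2)
        exact .inr ⟨_, mul_mem ha (mul_mem h1 h3), b', h4, by simp only [mul_assoc] at e e' ⊢; rw [e, e']⟩
  rw [C, ← closure_eq (O.U ⊔ O.H8), zpowers_eq_closure, ← Subgroup.closure_union] at hx
  induction hx using closure_induction_right with
  | one => exact .inl (one_mem _)
  | mul_right x _ y hy h => exact key x h y hy
  | mul_inv_cancel x _ y hy h => exact key x h _ (hy.imp inv_mem fun e : y = _ => e ▸ O.n8_inv)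

theorem mem_C {x : G} : x ∈ O.C ↔ x ∈ O.B8 ∨
    ∃ u ∈ O.U, ∃ l s v, x = u * O.h8 l * O.n8 * (O.g 10 s * O.g 11 v) := by
  refine ⟨fun h => (O.mem_C' h).imp_right ?_, ?_⟩
  · rintro ⟨a, ha, b, hb, e⟩
    obtain ⟨u, hu, l, rfl⟩ := O.mem_B8.1 ha
    obtain ⟨s, v, rfl⟩ := O.mem_U8.1 hb
    exact ⟨u, hu, l, s, v, e⟩
  · rintro (h | ⟨u, hu, l, s, v, rfl⟩)
    exacts [O.B8_le_C h, mul_mem (mul_mem (mul_mem (O.U_le_C hu) (O.h8_mem_C l)) O.n8_mem_C)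
      (mul_mem (O.g_mem_C _ _) (O.g_mem_C _ _))]

theorem C_cent_Z {x z : G} (hx : x ∈ O.C) (hz : z ∈ O.Z) : Commute x z := by
  obtain ⟨t, rfl⟩ := O.mem_Z.1 hz
  refine mem_centralizer_singleton_iff.1 ((sup_le (sup_le (fun u hu => ?_) ?_) (zpowers_le.2 ?_) : O.C ≤ _) hx)
  · exact mem_centralizer_singleton_iff.2 (O.commute_pat (by decide) hu hz)
  · rintro _ ⟨l, rfl⟩
    exact mem_centralizer_singleton_iff.2 (mul_inv_eq_iff_eq_mul.1 (by rw [O.h8_g, wt8_five, one_mul]))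
  · exact mem_centralizer_singleton_iff.2 (mul_inv_eq_iff_eq_mul.1 (O.n8_g 5 (by decide) t))

theorem mem_B8_of_E2 {c v : G} (hc : c ∈ O.C) (hv : v ∈ O.E2) (hz : v ∉ O.Z) (h : c * v * c⁻¹ ∈ O.E2) :
    c ∈ O.B8 := by
  refine (O.mem_C' hc).resolve_right fun ⟨a, ha, b, hb, e⟩ => hz ?_
  have h1 := (O.n8_conj (by decide)).1 (O.conj_mem (by decide) hb hv)
  have h2 := conj_mem_of_mem_normalizer' (O.B8_norm (by decide) ha) h
  rw [show a⁻¹ * (c * v * c⁻¹) * a = O.n8 * (b * v * b⁻¹) * O.n8⁻¹ by rw [e]; group] at h2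
  exact (mem_normalizer_iff.1 (O.C_norm_Z (O.pat_le_C _ hb)) _).2 ((mem_normalizer_iff.1 (O.C_norm_Z O.n8_mem_C) _).2
    (O.inf_mem (by decide) (by decide) (by decide) h1 h2))

theorem n8_not_mem : O.n8 ∉ O.B8 := fun h => by
  have := conj_mem_of_mem_normalizer (O.B8_norm (S := [5, 8]) (by decide) h) (O.g_mem (j := 8) (by decide) 1)
  rw [O.n8_g 8 (by decide), O.g_mem_iff (by decide) (by decide)] at this
  exact one_ne_zero this

/-- the action of `B8` on a central layer of `U` -/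
theorem B8_layer {k : Fin 12} {S : List (Fin 12)} (h : Cl [0, 1, 2, 3, 4, 5, 6, 7, 8, 9, 10, 11] [k] S)
    (h' : Cl [0, 1, 2, 3, 4, 5, 6, 7, 8, 9, 10, 11] S S) {u s : G} (hu : u ∈ O.U) (hs : s ∈ O.pat S) (l : Kˣ) (t : K) :
    ∃ s' ∈ O.pat S, u * O.h8 l * (O.g k t * s) * (u * O.h8 l)⁻¹ = O.g k (wt8 σ k l * t) * s' := by
  have h1 := O.comm_mem h h' (fun j _ => h' j (mem_all j)) (inv_mem hu)
    (O.g_mem (List.mem_singleton_self k) (wt8 σ k l * t))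
  refine ⟨_, mul_mem (O.conj_mem h' (mul_mem (inv_mem (O.g_mem_U k (wt8 σ k l * t))) hu) (inv_mem h1))
    (conj_mem_of_mem_normalizer (O.B8_norm h' (O.mem_B8.2 ⟨u, hu, l, rfl⟩)) hs), ?_⟩
  rw [← O.h8_g, commutatorElement_def]
  group

theorem h8_eq_one {l : Kˣ} (h : O.h8 l ∈ O.U) : l = 1 := by
  obtain ⟨s, hs, e⟩ := O.B8_layer (k := 0) (S := [1, 2, 3, 4, 5, 6, 7, 8, 9, 10, 11]) (by decide) (by decide)
    (inv_mem h) (one_mem _) l 1
  rw [inv_mul_cancel, one_mul, inv_one, mul_one] at e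
  exact by_contra fun k => O.wt8_ne_one k (j := 0) (by decide) (by decide)
    (by simpa using (O.layer_inj (by decide) (by decide) (one_mem _) hs e).symm)

theorem odd_h8 (l : Kˣ) : Odd (orderOf (O.h8 l)) :=
  O.odd_units.of_dvd_nat ((orderOf_map_dvd _ l).trans (orderOf_dvd_natCard l))

theorem card_H8 : Nat.card O.H8 = Nat.card Kˣ :=
  (Nat.card_congr (MonoidHom.ofInjective ((injective_iff_map_eq_one _).2 fun _ h =>
    O.h8_eq_one (h ▸ one_mem _))).toEquiv).symm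

theorem two_B8 {x : G} (hx : x ∈ O.B8) (h : ∃ k, x ^ 2 ^ k = 1) : x ∈ O.U := by
  obtain ⟨u, hu, l, rfl⟩ := O.mem_B8.1 hx
  obtain ⟨k, hk⟩ := h
  have key : ∀ n : ℕ, (u * O.h8 l) ^ n * (O.h8 l ^ n)⁻¹ ∈ O.U := fun n => by
    induction n with
    | zero => simp
    | succ n ih =>
      convert mul_mem hu (conj_mem_of_mem_normalizer (O.h8_norm _ ⟨l, rfl⟩) ih) using 1
      rw [pow_succ', pow_succ']; group
  have h1 := inv_mem (key (2 ^ k))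
  rw [hk, one_mul, inv_inv, ← map_pow] at h1
  obtain rfl : l = 1 := orderOf_eq_one_iff.1 (Nat.eq_one_of_dvd_coprimes
    ((Nat.coprime_two_left.2 O.odd_units).pow_left k) (orderOf_dvd_of_pow_eq_one (O.h8_eq_one h1))
    (orderOf_dvd_natCard l))
  simpa using hu

theorem inf_n8 {x : G} (hx : x ∈ O.U) (h : O.n8 * x * O.n8⁻¹ ∈ O.B8) : x ∈ O.Q := by
  obtain ⟨q, hq, b, hb, rfl⟩ := O.split_Q hx
  by_cases h1 : b = 1
  · rwa [h1, mul_one]
  obtain ⟨a, h2, u, h3, e⟩ := O.suz' hb h1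
  have h4 := mul_mem (inv_mem (O.pat_le_B8 _ (conj_mem_of_mem_normalizer (O.C_norm_Q O.n8_mem_C) hq))) h
  rw [show (O.n8 * q * O.n8⁻¹)⁻¹ * (O.n8 * (q * b) * O.n8⁻¹) = O.n8 * b * O.n8⁻¹ by group, O.n8_inv, e,
    mul_mem_cancel_right (O.pat_le_B8 _ h3), mul_mem_cancel_left h2] at h4
  exact (O.n8_not_mem h4).elim

theorem mem_B8_of_R {c : G} (hc : c ∈ O.C) (h : ∀ r ∈ O.R, c * r * c⁻¹ ∈ O.U) : c ∈ O.B8 := by
  refine (O.mem_C' hc).resolve_right fun ⟨a, ha, b, hb, e⟩ => ?_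
  have h1 := conj_mem_of_mem_normalizer' (le_normalizer ha) (O.pat_le_B8 _ (h _ (conj_mem_of_mem_normalizer'
    (O.pat_norm (by decide) hb) (O.g_mem (j := 11) (by decide) 1))))
  rw [show a⁻¹ * (c * (b⁻¹ * O.g 11 1 * b) * c⁻¹) * a = O.n8 * O.g 11 1 * O.n8⁻¹ by rw [e]; group] at h1
  exact one_ne_zero ((O.g_mem_iff (by decide) (by decide)).1 (O.inf_n8 (O.g_mem_U _ _) h1))

theorem syl_C {P : Subgroup G} (hP : IsPGroup 2 P) (hC : P ≤ O.C) (hU : O.U ≤ P) : P = O.U := by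
  by_contra h
  obtain ⟨c, h1, h2, h3⟩ := exists_mem_normalizer_of_lt hP (hU.lt_of_ne' h)
  exact h2 (O.two_B8 (O.mem_B8_of_R (hC h1) fun r hr => conj_mem_of_mem_normalizer h3 (O.pat_le_U _ hr))
    (isPGroup_iff_mem.1 hP c h1))

theorem sylow_U : IsSylowIn 2 O.U O.C :=
  isSylowIn_of_maximal (O.isPGroup_pat _) O.U_le_C fun _ h1 h2 h3 => (O.syl_C h1 h3 h2).le

theorem exists_conj_U {P : Subgroup G} (hP : IsPGroup 2 P) (hC : P ≤ O.C) :
    ∃ c ∈ O.C, ∀ x ∈ P, c * x * c⁻¹ ∈ O.U :=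
  (O.sylow_U.exists_cj_le hP hC).imp fun _ h => ⟨h.1, cj_le_iff.1 h.2⟩

theorem le_Q {P : Subgroup G} (hP : IsPGroup 2 P) (hC : P ≤ O.C) (hn : O.C ≤ normalizer (P : Set G)) : P ≤ O.Q :=
  have h := O.sylow_U.le_of_le_normalizer hP hC hn
  fun _ hx => O.inf_n8 (h hx) (O.pat_le_B8 _ (h (conj_mem_of_mem_normalizer (hn O.n8_mem_C) hx)))

/-- an element normalising `C` and `R` normalises `U` -/
theorem norm_U {x : G} (hC : x ∈ normalizer (O.C : Set G)) (hR : ∀ r ∈ O.R, x * r * x⁻¹ ∈ O.U) : x ∈ normalizer (O.U : Set G) := by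
  obtain ⟨c, h1, h2⟩ := O.exists_conj_U (isPGroup_cj x⁻¹ (O.isPGroup_pat _)) (cj_le_iff.2 fun u hu =>
    conj_mem_of_mem_normalizer (inv_mem hC) (O.U_le_C hu))
  have h3 : c ∈ normalizer (O.U : Set G) := O.B8_norm (by decide) (O.mem_B8_of_R h1 fun r hr => h2 r (mem_cj.2 (by simpa using hR r hr)))
  exact inv_mem_iff.1 (mem_normalizer_of_cj_le fun y hy => (mem_normalizer_iff.1 h3 y).2 (h2 y hy))

/-- Frattini argument -/
theorem exists_norm_U {x : G} (hC : x ∈ normalizer (O.C : Set G)) : ∃ c ∈ O.C, c * x ∈ normalizer (O.U : Set G) :=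
  O.sylow_U.frattini hC

theorem C_le_of_two {P : Subgroup G} (h : ∀ x ∈ O.C, (∃ k, x ^ 2 ^ k = 1) → x ∈ P) : O.C ≤ P := by
  have h1 : ∀ c ∈ O.C, c * O.n8 * c⁻¹ ∈ P := fun c hc => h _ (mul_mem (mul_mem hc O.n8_mem_C) (inv_mem hc))
    ⟨1, by rw [conj_pow, pow_one, sq, O.n8_sq, mul_one, mul_inv_cancel]⟩
  have h2 : O.n8 ∈ P := by simpa using h1 1 (one_mem _)
  refine sup_le (sup_le (fun u hu => h u (O.U_le_C hu) (isPGroup_iff_mem.1 (O.isPGroup_pat _) u hu)) ?_)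
    (zpowers_le.2 h2)
  rintro _ ⟨l, rfl⟩
  obtain ⟨m, rfl⟩ := O.sq_surj l
  convert mul_mem (h1 _ (O.h8_mem_C m)) (inv_mem h2) using 1
  rw [map_mul, ← map_inv, mul_assoc, mul_assoc, ← mul_assoc O.n8, O.n8_h8, map_inv, inv_inv]

theorem perfect (hq : Big K) : ⁅O.C, O.C⁆ = O.C := by
  refine le_antisymm (commutator_le_self _) ?_
  obtain ⟨t0, h0, h1⟩ := hq
  have hl : Units.mk0 t0 h0 ≠ 1 := fun e => h1 (congrArg Units.val e)
  have key : ∀ j S, j ≠ 4 → j ≠ 5 → (∀ i ∈ cm j j, i ∈ S) → O.pat S ≤ ⁅O.C, O.C⁆ → ∀ t, O.g j t ∈ ⁅O.C, O.C⁆ := by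
    intro j S h4 h5 h6 h7 t
    have h8 : wt8 σ j (.mk0 t0 h0) + 1 ≠ 0 := mt O.add_eq_zero.1 (O.wt8_ne_one hl h4 h5)
    obtain ⟨u, rfl⟩ : ∃ u, t = wt8 σ j (.mk0 t0 h0) * u + u := ⟨t / (wt8 σ j (.mk0 t0 h0) + 1), by field_simp⟩
    obtain ⟨d, h9, e⟩ := O.add' h6 (wt8 σ j (.mk0 t0 h0) * u) u
    obtain ⟨d', h10, e'⟩ := O.add' h6 u u
    have h11 := commutator_mem_commutator (O.h8_mem_C (.mk0 t0 h0)) (O.g_mem_C j u)
    rw [O.add_self, O.g_zero, one_mul] at e'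
    rw [commutatorElement_def, O.h8_g] at h11
    rw [← mul_mem_cancel_right (h7 h9), ← e]
    convert mul_mem h11 (h7 h10) using 1
    rw [← e']; group
  have k0 := fun j h4 h5 h6 => key j [] h4 h5 h6 (O.pat_nil ▸ bot_le)
  have k1 : O.pat [2, 8, 11] ≤ ⁅O.C, O.C⁆ := O.pat_le.2 (by
    simp only [List.forall_mem_cons]
    exact ⟨k0 _ (by decide) (by decide) (by decide), k0 _ (by decide) (by decide) (by decide),
      k0 _ (by decide) (by decide) (by decide), by simp⟩)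
  have k2 : ∀ j, j ≠ 4 → j ≠ 5 → ∀ t, O.g j t ∈ ⁅O.C, O.C⁆ := fun j h4 h5 =>
    key j _ h4 h5 (by revert j; decide) k1
  have k5 : ∀ t, O.g 5 t ∈ ⁅O.C, O.C⁆ := fun t => by
    have := O.r0_8 t 1 ▸ mul_mem (k2 8 (by decide) (by decide) 1) (k2 0 (by decide) (by decide) t)
    rwa [mul_mem_cancel_left (k2 _ (by decide) (by decide) _), mul_mem_cancel_right (k2 _ (by decide) (by decide) _),
      mul_one] at this
  have k4 : ∀ t, O.g 4 t ∈ ⁅O.C, O.C⁆ := fun t => by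
    have := O.r1_10 1 t ▸ mul_mem (k2 10 (by decide) (by decide) t) (k2 1 (by decide) (by decide) 1)
    rwa [mul_mem_cancel_left (k2 _ (by decide) (by decide) _), mul_mem_cancel_left (k2 _ (by decide) (by decide) _),
      mul_mem_cancel_right (mul_mem (k5 _) (mul_mem (k2 _ (by decide) (by decide) _) (k2 _ (by decide) (by decide) _))),
      map_one, one_mul] at this
  have k6 : O.B8 ≤ ⁅O.C, O.C⁆ := by
    refine sup_le (O.pat_le.2 fun j _ => if h : j = 4 then h ▸ k4 else if h' : j = 5 then h' ▸ k5 else k2 j h h') ?_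
    rintro _ ⟨l, rfl⟩
    obtain ⟨m, rfl⟩ := O.sq_surj l
    convert commutator_mem_commutator (O.h8_mem_C m) O.n8_mem_C using 1
    rw [map_mul, commutatorElement_def, ← map_inv, mul_assoc, mul_assoc, ← mul_assoc O.n8, O.n8_h8, map_inv, inv_inv]
  obtain ⟨a, h2, u, h3, e⟩ := O.suz' (O.g_mem (j := 11) (by decide) 1) (mt O.g_eq_one.1 one_ne_zero)
  have h4 := commutator_mem_commutator O.n8_mem_C (O.g_mem_C 11 1)
  rw [commutatorElement_def, mul_mem_cancel_right (inv_mem (k2 _ (by decide) (by decide) _)), O.n8_inv, e,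
    mul_mem_cancel_right (k6 (O.pat_le_B8 _ h3)), mul_mem_cancel_left (k6 h2)] at h4
  exact sup_le k6 (zpowers_le.2 h4)

end OC

end CfsgLib.F42
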