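import Mathlib
import Cfsg.Agent.Lib.F42.Cst1

/-! # F42: centralisers and characteristic subgroups (package CST2) -/

set_option autoImplicit false
set_option Elab.async false
set_option linter.unusedSectionVars false

namespace CfsgLib.F42

open Subgroup CfsgLib.Tech
open scoped commutatorElement

variable {K : Type*} [Field K] [Finite K] {G : Type*} [Group G] [Finite G] {σ : K →+* K} {sz : Sz K}

theorem norm_inf_cent {x : G} {A B : Subgroup G} (hA : x ∈ normalizer (A : Set G)) (hB : x ∈ normalizer (B : Set G)) :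
    x ∈ normalizer (↑(A ⊓ centralizer (B : Set G)) : Set G) := by
  rw [mem_normalizer_iff_cj] at hA hB ⊢
  rw [cj_inf, cj_centralizer, hA, hB]

theorem norm_commutator {x : G} {A B : Subgroup G} (hA : x ∈ normalizer (A : Set G))
    (hB : x ∈ normalizer (B : Set G)) : x ∈ normalizer (↑⁅A, B⁆ : Set G) := by
  rw [mem_normalizer_iff_cj] at hA hB ⊢
  rw [cj_commutator, hA, hB]

theorem word_mem {A B : Subgroup G} {a b w : G} (e : b * a = a * (w * b)) (ha : a ∈ A) (hb : b ∈ B) : w ∈ ⁅A, B⁆ := by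
  convert commutator_mem_commutator (inv_mem ha) hb using 1
  rw [commutatorElement_def, mul_assoc a⁻¹, inv_inv, e]; group

namespace OC

variable (O : OC σ sz G)

theorem cent_V {x v : G} (hx : x ∈ O.C) (hv : v ∈ O.V) (hz : v ∉ O.Z) (h : Commute x v) : x ∈ O.R := by
  have h1 : x * v * x⁻¹ = v := by rw [h.eq, mul_inv_cancel_right]
  obtain ⟨u, hu, l, rfl⟩ := O.mem_B8.1 (O.mem_B8_of_E2 hx (O.pat_mono (by decide) hv) hz
    (h1.symm ▸ O.pat_mono (by decide) hv))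
  obtain ⟨s, t, rfl⟩ := O.mem_V.1 hv
  have ht : t ≠ 0 := by rintro rfl; exact hz (O.mem_Z.2 ⟨s, by simp only [O.col]⟩)
  have hs : O.g 5 s ∈ O.Z := O.g_mem (by decide) s
  obtain ⟨z, h2, e⟩ := O.B8_layer (k := 8) (by decide) (by decide) hu hs l t
  rw [O.r5_8, h1, ← O.r5_8] at e
  obtain rfl : l = 1 := by_contra fun k => O.wt8_ne_one k (j := 8) (by decide) (by decide)
    (mul_right_cancel₀ ht ((O.layer_inj (by decide) (by decide) hs h2 e).symm.trans (one_mul t).symm))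
  rw [map_one, mul_one] at h ⊢
  obtain ⟨r, y, h3, rfl⟩ := (O.mem_cons (by decide)).1 hu
  have h4 := (mul_inv_cancel_right _ y ▸ h.mul_left (O.commute_pat (by decide) h3 hv).inv_left :
    Commute (O.g 0 r) _).eq
  simp only [O.col, mul_right_inj, mul_left_inj] at h4
  obtain rfl : r = 0 := (mul_eq_zero.1 (right_eq_add.1 ((O.g_inj 5 h4).trans (add_comm _ _)))).resolve_right ht
  rwa [O.g_zero, one_mul]

theorem R_cent_V {x v : G} (hx : x ∈ O.R) (hv : v ∈ O.V) : Commute x v := O.commute_pat (by decide) hx hv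

theorem z6_not_mem : O.g 8 1 ∉ O.Z := mt (O.g_mem_iff (by decide) (by decide)).1 one_ne_zero

/-- the coordinates killed by `z6`, `a5`, `a3`, `z2` -/
theorem coord {p : Fin 12 → K} (h10 : p 10 = 0) (h11 : p 11 = 0) :
    (Commute (O.nf p) (O.g 8 1) → p 0 = 0) ∧ (Commute (O.nf p) (O.g 6 1) → p 1 = 0) ∧
      (Commute (O.nf p) (O.g 3 1) → p 7 = 0) ∧ (Commute (O.nf p) (O.g 2 1) → p 9 = 0) := by
  have := O.charP
  refine ⟨fun h => ?_, fun h => ?_, fun h => ?_, fun h => ?_⟩ <;>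
  · replace h := h.eq
    simp only [nf, nfg, O.col] at h
    have := O.nf_inj h
    grind

theorem inf_cent {S T : List (Fin 12)} (hS : ∀ j ∈ S, j < 10) (hc : Cl S T [])
    (h : ∀ j < 10, j ∉ S → j = 0 ∧ 8 ∈ T ∨ j = 1 ∧ 6 ∈ T ∨ j = 7 ∧ 3 ∈ T ∨ j = 9 ∧ 2 ∈ T) :
    O.pat S = O.Q ⊓ centralizer (O.pat T : Set G) := by
  refine le_antisymm (le_inf (O.pat_mono fun j hj => (by decide : ∀ j : Fin 12, j < 10 → j ∈ _) j (hS j hj))
    fun x hx => mem_centralizer_iff.2 fun y hy => (O.commute_pat hc hx hy).eq.symm) fun x hx => ?_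
  obtain ⟨p, hp, rfl⟩ := (O.mem_pat (by decide)).1 hx.1
  have h1 : ∀ k ∈ T, Commute (O.nf p) (O.g k 1) := fun k hk => (mem_centralizer_iff.1 hx.2 _ (O.g_mem hk 1)).symm
  obtain ⟨c0, c1, c7, c9⟩ := O.coord (hp 10 (by decide)) (hp 11 (by decide))
  refine O.nf_mem_of fun j hj => if hl : j < 10 then ?_ else hp j (by clear hj; revert j; decide)
  rcases h j hl hj with ⟨rfl, k⟩ | ⟨rfl, k⟩ | ⟨rfl, k⟩ | ⟨rfl, k⟩
  exacts [c0 (h1 _ k), c1 (h1 _ k), c7 (h1 _ k), c9 (h1 _ k)]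

theorem cent_Q {x : G} (hx : x ∈ O.C) (h : ∀ y ∈ O.Q, Commute x y) : x ∈ O.Z := by
  have h0 : O.g 8 1 ∈ O.V := O.g_mem (by decide) 1
  have h1 := O.inf_n8 (O.pat_le_U _ (O.cent_V hx h0 O.z6_not_mem (h _ (O.g_mem (by decide) 1))))
    (O.pat_le_B8 _ (O.cent_V (mul_mem (mul_mem O.n8_mem_C hx) (inv_mem O.n8_mem_C)) h0 O.z6_not_mem (by
      rw [show O.g 8 1 = _ from (O.n8_g 2 (by decide) 1).symm]
      exact (h _ (O.g_mem (by decide) 1)).map (MulAut.conj O.n8))))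
  obtain ⟨p, hp, rfl⟩ := (O.mem_pat (by decide)).1 h1
  have h10 := hp 10 (by decide)
  have h11 := hp 11 (by decide)
  obtain ⟨c0, c1, c7, c9⟩ := O.coord h10 h11
  replace c0 := c0 (h _ (O.g_mem (by decide) 1))
  replace c1 := c1 (h _ (O.g_mem (by decide) 1))
  replace c7 := c7 (h _ (O.g_mem (by decide) 1))
  replace c9 := c9 (h _ (O.g_mem (by decide) 1))
  have e0 := (h _ (O.g_mem (j := 0) (by decide) 1)).eq
  have e1 := (h _ (O.g_mem (j := 1) (by decide) 1)).eq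
  have e7 := (h _ (O.g_mem (j := 7) (by decide) 1)).eq
  have e9 := (h _ (O.g_mem (j := 9) (by decide) 1)).eq
  simp only [nf, nfg, O.col] at e0 e1 e7 e9
  have := O.charP
  have e0 := O.nf_inj e0
  have e1 := O.nf_inj e1
  have e7 := O.nf_inj e7
  have e9 := O.nf_inj e9
  simp only [c0, c1, c7, c9, h10, h11, O.col] at e0 e1 e7 e9
  have : p 4 = 0 ∧ p 8 = 0 ∧ p 6 = 0 ∧ p 3 = 0 ∧ p 2 = 0 := by grind
  exact O.nf_mem_of fun j hj => by fin_cases j <;> first | exact absurd (by decide) hj | tauto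

theorem mem_E2 {x : G} : x ∈ O.E2 ↔ x ∈ O.R ∧ ∀ y ∈ O.R, ⁅x, y⁆ ∈ O.V := by
  refine ⟨fun h => ⟨O.pat_mono (by decide) h, fun y => O.comm_mem (by decide) (by decide) (by decide) h⟩,
    fun ⟨h1, h2⟩ => ?_⟩
  obtain ⟨p, hp, rfl⟩ := (O.mem_pat (by decide)).1 h1
  have h0 := hp 0 (by decide)
  obtain ⟨a, b, e1⟩ := O.mem_V.1 (h2 _ (O.g_mem (j := 1) (by decide) 1))
  obtain ⟨c, d, e2⟩ := O.mem_V.1 (h2 _ (O.g_mem (j := 10) (by decide) 1))
  rw [commutatorElement_def, mul_inv_eq_iff_eq_mul, mul_inv_eq_iff_eq_mul] at e1 e2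
  simp only [nf, nfg, O.col] at e1 e2
  have := O.charP
  have e1 := O.nf_inj e1
  have e2 := O.nf_inj e2
  simp only [h0, O.col] at e1 e2
  have h3 : p 1 = 0 := σ.injective (by rw [map_zero]; grind)
  have : p 4 = 0 ∧ p 9 = 0 ∧ p 10 = 0 ∧ p 11 = 0 ∧ p 2 = 0 ∧ p 7 = 0 ∧ p 3 = 0 := by grind
  exact O.nf_mem_of fun j hj => by fin_cases j <;> first | exact absurd (by decide) hj | tauto

theorem center_R {x : G} (hx : x ∈ O.R) (h : ∀ y ∈ O.R, Commute x y) : x ∈ O.V := by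
  obtain ⟨t, v, hv, rfl⟩ := (O.mem_cons (k := 6) (S := [5, 8]) (by decide)).1 (O.pat_mono (by decide)
    (O.mem_E2.2 ⟨hx, fun y hy => (h y hy).commutator_eq ▸ one_mem _⟩))
  have h1 : O.g 1 1 ∈ O.R := O.g_mem (by decide) 1
  have h2 := (mul_inv_cancel_right _ v ▸ (h _ h1).mul_left (O.R_cent_V h1 hv).symm.inv_left : Commute (O.g 6 t) _).eq
  rw [O.r1_6, mul_right_inj, mul_eq_right, O.g_eq_one, one_mul] at h2
  rwa [h2, O.g_zero, one_mul]

theorem center_U {x : G} (hx : x ∈ O.U) (h : ∀ y ∈ O.U, Commute x y) : x ∈ O.Z :=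
  O.cent_Q (O.U_le_C hx) fun y hy => h y (O.pat_le_U _ hy)

theorem E_eq : O.E = ⁅O.Q, O.Q⁆ := by
  refine le_antisymm (O.pat_le.2 ?_) (commutator_le.2 fun x hx y => O.comm_mem (by decide) (by decide) (by decide) hx)
  simp only [List.forall_mem_cons, List.not_mem_nil, false_imp_iff, implies_true, and_true]
  exact ⟨fun t => one_mul t ▸ word_mem (O.r0_4 1 t) (O.g_mem (by decide) _) (O.g_mem (by decide) _),
    fun t => one_mul t ▸ word_mem (O.r1_4 1 t) (O.g_mem (by decide) _) (O.g_mem (by decide) _),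
    fun t => one_mul t ▸ word_mem (O.r0_8 1 t) (O.g_mem (by decide) _) (O.g_mem (by decide) _),
    fun t => one_mul t ▸ word_mem (O.r4_7 1 t) (O.g_mem (by decide) _) (O.g_mem (by decide) _),
    fun t => one_mul t ▸ word_mem (O.r4_9 1 t) (O.g_mem (by decide) _) (O.g_mem (by decide) _)⟩

theorem V_eq : O.V = ⁅O.E2, O.U⁆ := by
  refine le_antisymm (O.pat_le.2 ?_) (commutator_le.2 fun x hx y => O.comm_mem (by decide) (by decide) (by decide) hx)
  simp only [List.forall_mem_cons, List.not_mem_nil, false_imp_iff, implies_true, and_true]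
  exact ⟨fun t => one_mul t ▸ commutator_comm O.U O.E2 ▸ word_mem (O.r0_8 1 t) (O.g_mem_U _ _) (O.g_mem (by decide) _),
    fun t => mul_one t ▸ word_mem (O.r6_10 t 1) (O.g_mem (by decide) _) (O.g_mem_U _ _)⟩

theorem E2_eq : O.E2 = ⁅O.E1, O.U⁆ := by
  refine le_antisymm ?_ (commutator_le.2 fun x hx y => O.comm_mem (by decide) (by decide) (by decide) hx)
  have h : O.V ≤ ⁅O.E1, O.U⁆ := O.V_eq ▸ commutator_mono (O.pat_mono (by decide)) le_rfl
  have h1 := fun t => word_mem (A := O.E1) ((O.r3_10 t 1).trans (by rw [← mul_assoc (O.g 5 _)]))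
    (O.g_mem (by decide) _) (O.g_mem_U _ _)
  simp only [O.pat_le, List.forall_mem_cons, List.not_mem_nil, false_imp_iff, implies_true, and_true] at h ⊢
  exact ⟨h.1, fun t => by simpa [mul_mem_cancel_left (h.1 _)] using h1 t, h.2⟩

theorem E1_eq : O.E1 = ⁅O.E, O.U⁆ := by
  refine le_antisymm ?_ (commutator_le.2 fun x hx y => O.comm_mem (by decide) (by decide) (by decide) hx)
  have h : O.E2 ≤ ⁅O.E, O.U⁆ := O.E2_eq ▸ commutator_mono (O.pat_mono (by decide)) le_rfl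
  have h1 := fun t => word_mem (A := O.E) ((O.r2_10 t 1).trans (by rw [← mul_assoc (O.g 6 _), ← mul_assoc (O.g 3 _)]))
    (O.g_mem (by decide) _) (O.g_mem_U _ _)
  simp only [O.pat_le, List.forall_mem_cons, List.not_mem_nil, false_imp_iff, implies_true, and_true] at h ⊢
  exact ⟨fun t => by simpa [mul_mem_cancel_right (mul_mem (h.2.1 _) (h.2.2 _))] using h1 t, h⟩

theorem norm_QE {x : G} (hC : x ∈ normalizer (O.C : Set G)) :
    x ∈ normalizer (O.Q : Set G) ∧ x ∈ normalizer (O.Ph : Set G) ∧ x ∈ normalizer (O.E : Set G) ∧ x ∈ normalizer (O.Z : Set G) := by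
  have h0 := mem_normalizer_iff_cj.1 hC
  have h1 : x ∈ normalizer (O.Q : Set G) := mem_normalizer_of_cj_le (O.le_Q (isPGroup_cj x (O.isPGroup_pat _))
    ((cj_mono x (O.pat_le_C _)).trans h0.le) (h0.ge.trans ((cj_mono x O.C_norm_Q).trans (cj_normalizer x _).le)))
  have h2 : x ∈ normalizer (O.E : Set G) := O.E_eq ▸ norm_commutator h1 h1
  refine ⟨h1, by
    rw [Ph, O.inf_cent (T := [2, 3, 5, 6, 8]) (by decide) (by decide) (by decide)]; exact norm_inf_cent h1 h2, h2, ?_⟩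
  rw [show O.Z = O.Q ⊓ centralizer (O.Q : Set G) from le_antisymm (le_inf (O.pat_mono (by decide)) fun z hz =>
    mem_centralizer_iff.2 fun y hy => O.C_cent_Z (O.pat_le_C _ hy) hz) fun z hz => O.cent_Q (O.pat_le_C _ hz.1)
    fun y hy => (mem_centralizer_iff.1 hz.2 y hy).symm]
  exact norm_inf_cent h1 h1

theorem norm_R {x : G} (hC : x ∈ normalizer (O.C : Set G)) (hU : x ∈ normalizer (O.U : Set G)) :
    x ∈ normalizer (O.R : Set G) ∧ x ∈ normalizer (O.E1 : Set G) ∧ x ∈ normalizer (O.E2 : Set G) ∧ x ∈ normalizer (O.V : Set G) := by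
  have h1 : x ∈ normalizer (O.E1 : Set G) := O.E1_eq ▸ norm_commutator (O.norm_QE hC).2.2.1 hU
  have h2 : x ∈ normalizer (O.E2 : Set G) := O.E2_eq ▸ norm_commutator h1 hU
  have h3 : x ∈ normalizer (O.V : Set G) := O.V_eq ▸ norm_commutator h2 hU
  refine ⟨?_, h1, h2, h3⟩
  rw [show O.R = O.U ⊓ centralizer (O.V : Set G) from le_antisymm (le_inf (O.pat_le_U _) fun z hz =>
    mem_centralizer_iff.2 fun y hy => (O.R_cent_V hz hy).eq.symm) fun z hz => O.cent_V (O.U_le_C hz.1)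
    (O.g_mem (by decide) 1) O.z6_not_mem (mem_centralizer_iff.1 hz.2 _ (O.g_mem (by decide) 1)).symm]
  exact norm_inf_cent hU h3

theorem mem_L1 {x : G} : x ∈ O.pat [11, 0, 1, 7, 9, 4, 2, 3, 6, 8, 5] ↔ x ∈ O.U ∧ x * x ∈ O.Q := by
  have key : ∀ q ∈ O.Q, ∀ b ∈ O.pat [10, 11], q * b * (q * b) ∈ O.Q ↔ b * b ∈ O.Q := fun q hq b hb => by
    rw [show q * b * (q * b) = q * (b * q * b⁻¹) * (b * b) by group,
      mul_mem_cancel_left (mul_mem hq (O.conj_mem (by decide) hb hq))]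
  refine (and_iff_right_of_imp (O.pat_le_U _ ·)).symm.trans (and_congr_right fun h => ?_)
  obtain ⟨q, hq, b, hb, rfl⟩ := O.split_Q h
  obtain ⟨s, v, rfl⟩ := O.mem_U8.1 hb
  have h1 : O.g 10 s * O.g 11 v * (O.g 10 s * O.g 11 v) = O.g 11 (s * σ s) := by simp only [O.col]
  rw [key q hq _ hb, h1, mul_mem_cancel_left (O.pat_mono (by decide) hq), mul_mem_cancel_right (O.g_mem (by decide) v),
    O.g_mem_iff (by decide) (by decide), O.g_mem_iff (by decide) (by decide)]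
  simp

theorem norm_chain {x : G} (hC : x ∈ normalizer (O.C : Set G)) (hU : x ∈ normalizer (O.U : Set G)) (i : ℕ) : x ∈ normalizer (O.pat (ch.drop i) : Set G) := by
  obtain ⟨h1, h2, h3, h4⟩ := O.norm_QE hC
  obtain ⟨-, h5, h6, h7⟩ := O.norm_R hC hU
  have c : ∀ {S T}, x ∈ normalizer (O.pat S : Set G) → (∀ j, j ∈ S ↔ j ∈ T) → x ∈ normalizer (O.pat T : Set G) :=
    fun h e => O.pat_congr e ▸ h
  rcases i with _ | _ | _ | _ | _ | _ | _ | _ | _ | _ | _ | _ | i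
  · exact c hU (by decide)
  · refine mem_normalizer_of_forall fun y hy => O.mem_L1.2 ⟨conj_mem_of_mem_normalizer hU (O.pat_le_U _ hy), ?_⟩
    simpa [mul_assoc] using conj_mem_of_mem_normalizer h1 (O.mem_L1.1 hy).2
  · exact c h1 (by decide)
  · exact O.inf_cent (S := ch.drop 3) (T := [5, 8]) (by decide) (by decide) (by decide) ▸ norm_inf_cent h1 h7
  · exact O.inf_cent (S := ch.drop 4) (T := [5, 6, 8]) (by decide) (by decide) (by decide) ▸ norm_inf_cent h1 h6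
  · exact O.inf_cent (S := ch.drop 5) (T := [3, 5, 6, 8]) (by decide) (by decide) (by decide) ▸ norm_inf_cent h1 h5
  · exact c h2 (by decide)
  · exact c h3 (by decide)
  · exact c h5 (by decide)
  · exact c h6 (by decide)
  · exact c h7 (by decide)
  · exact h4
  · rw [List.drop_eq_nil_of_le (by simp [ch]), O.pat_nil]
    exact le_normalizer_of_normal (K := ⊤) trivial

theorem norm_V {x : G} (h : x ∈ normalizer (O.R : Set G)) : x ∈ normalizer (O.V : Set G) := by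
  rw [show O.V = O.R ⊓ centralizer (O.R : Set G) from le_antisymm (le_inf (O.pat_mono (by decide)) fun z hz =>
    mem_centralizer_iff.2 fun y hy => O.R_cent_V hy hz) fun z hz => O.center_R hz.1
    fun y hy => (mem_centralizer_iff.1 hz.2 y hy).symm]
  exact norm_inf_cent h h

theorem norm_E2 {x : G} (h : x ∈ normalizer (O.R : Set G)) : x ∈ normalizer (O.E2 : Set G) :=
  mem_normalizer_of_forall fun y hy => O.mem_E2.2 ⟨conj_mem_of_mem_normalizer h (O.mem_E2.1 hy).1, fun z hz => by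
    convert conj_mem_of_mem_normalizer (O.norm_V h) ((O.mem_E2.1 hy).2 _ (conj_mem_of_mem_normalizer' h hz)) using 1
    simp only [commutatorElement_def]; group⟩

theorem cent_h8 {l : Kˣ} (hl : l ≠ 1) {x : G} (hx : x ∈ O.U) (h : Commute x (O.h8 l)) : x ∈ O.U4 := by
  obtain ⟨p, rfl⟩ := O.mem_U.1 hx
  have h1 : O.nf (fun j => wt8 σ j l * p j) = O.nf p := by
    rw [← mul_inv_cancel_right (O.nf p) (O.h8 l), h.eq]
    simp only [nf, nfg, ← O.h8_g, conj_mul]
  exact O.nf_mem_of fun j hj => by_contra fun k => O.wt8_ne_one hl (j := j) (by rintro rfl; simp at hj)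
    (by rintro rfl; simp at hj) (mul_right_cancel₀ k ((congrFun (O.inj h1) j).trans (one_mul _).symm))

theorem _root_.CfsgLib.F42.Big.unit (hq : Big K) : ∃ l : Kˣ, l ≠ 1 :=
  let ⟨t, h0, h1⟩ := hq
  ⟨.mk0 t h0, fun e => h1 (congrArg Units.val e)⟩

theorem syl_H8 (hq : Big K) {c : G} (hc : c ∈ O.C) (h : ∀ l, c⁻¹ * O.h8 l * c ∈ O.B8) :
    c ∈ O.B8 ∨ O.n8 * c ∈ O.B8 := by
  refine (O.mem_C' (inv_mem hc)).imp inv_mem_iff.1 fun ⟨a, ha, b, hb, e⟩ => ?_
  obtain ⟨l, hl⟩ := hq.unit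
  have h1 : ⁅b, O.h8 l⁆ ∈ O.pat [10, 11] := by
    rw [commutatorElement_def, mul_assoc, mul_assoc, ← mul_assoc (O.h8 l)]
    exact mul_mem hb (conj_mem_of_mem_normalizer (O.h8_norm _ ⟨l, rfl⟩) (inv_mem hb))
  have h2 := O.inf_n8 (O.pat_le_U _ h1) (by
    convert mul_mem (conj_mem_of_mem_normalizer' (le_normalizer ha) (h l)) (O.h8_mem_B8 l) using 1
    rw [← inv_inv c, e, ← inv_inv (O.h8 l), ← O.n8_h8, commutatorElement_def]
    nth_rewrite 1 2 3 [O.n8_h8]
    group)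
  have h3 := O.inf_one (by decide) (by decide) (by decide) hb (O.cent_h8 hl (O.pat_le_U _ hb)
    (commutatorElement_eq_one_iff_commute.1 (O.inf_one (by decide) (by decide) (by decide) h1 h2)))
  rw [← inv_inv c, e, h3, mul_one, mul_inv_rev, mul_inv_cancel_left]
  exact inv_mem ha

theorem cent_H8 (hq : Big K) {x : G} (hx : x ∈ O.C) (h : ∀ l, Commute x (O.h8 l)) :
    ∃ u ∈ O.U4, ∃ l, x = u * O.h8 l := by
  obtain ⟨m, hm⟩ := hq.unit
  have h1 : ∀ l, Commute (O.h8 l) (O.h8 m) := fun l => (Commute.all l m).map _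
  rcases O.syl_H8 hq hx fun l => by rw [mul_assoc, ← (h l).eq, inv_mul_cancel_left]; exact O.h8_mem_B8 l with h2 | h2 <;>
    obtain ⟨u, hu, l, e⟩ := O.mem_B8.1 h2
  · exact ⟨u, O.cent_h8 hm hu (eq_mul_inv_of_mul_eq e.symm ▸ (h m).mul_left (h1 l).inv_left), l, e⟩
  · have h3 : u * O.h8 m * u⁻¹ = (O.h8 m)⁻¹ := by
      rw [eq_mul_inv_of_mul_eq e.symm, ← O.n8_h8 m, mul_assoc O.n8, mul_assoc O.n8,
        ((h m).mul_left (h1 l).inv_left).eq]
      group
    have h4 := mul_mem hu (conj_mem_of_mem_normalizer (O.h8_norm _ ⟨m, rfl⟩) (inv_mem hu))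
    rw [← mul_assoc, ← mul_assoc, h3, ← mul_inv_rev, inv_mem_iff, ← map_mul] at h4
    exact (hm (Units.ext (O.sq_inj (by simpa [sq] using congrArg Units.val (O.h8_eq_one h4))))).elim

/-- an element normalising `C` and centralising `H8` normalises `U` -/
theorem norm_U_of_H8 (hq : Big K) {x : G} (hC : x ∈ normalizer (O.C : Set G)) (h : ∀ l, Commute x (O.h8 l)) : x ∈ normalizer (O.U : Set G) := by
  obtain ⟨c, hc, h1⟩ := O.exists_norm_U hC
  have hB : O.B8 ≤ normalizer (O.U : Set G) := O.B8_norm (by decide)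
  rcases O.syl_H8 hq (inv_mem hc) fun l => O.mem_B8_of_R (mul_mem (mul_mem (inv_mem (inv_mem hc)) (O.h8_mem_C l))
    (inv_mem hc)) fun r hr => conj_mem_of_mem_normalizer (by
      convert mul_mem (mul_mem h1 (hB (O.h8_mem_B8 l))) (inv_mem h1) using 1
      rw [mul_assoc c, (h l).eq]; group) (O.pat_le_U _ hr) with h2 | h2
  · simpa using mul_mem (hB h2) h1
  have h3 : O.n8 * x ∈ normalizer (O.U : Set G) := by simpa [mul_assoc] using mul_mem (hB h2) h1
  have h4 := mul_mem (le_normalizer O.n8_mem_C) hC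
  have h5 : ∀ l, O.n8 * x * O.h8 l * (O.n8 * x)⁻¹ = O.h8 l⁻¹ := fun l => by
    rw [map_inv, ← O.n8_h8, mul_assoc O.n8, (h l).eq]; group
  generalize O.n8 * x = y at h3 h4 h5
  obtain ⟨s, r, e⟩ := O.mem_V.1 (conj_mem_of_mem_normalizer (O.norm_R h4 h3).2.2.2 (O.g_mem (j := 8) (by decide) 1))
  have h6 : r ≠ 0 := by
    rintro rfl
    exact O.z6_not_mem ((mem_normalizer_iff.1 (O.norm_QE h4).2.2.2 _).2 (O.mem_Z.2 ⟨s, by simp only [e, O.col]⟩))
  have key : ∀ μ, μ ≠ 0 → y * O.g 8 μ * y⁻¹ = O.g 5 s * O.g 8 (μ⁻¹ * r) := fun μ h0 => by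
    obtain ⟨l, rfl⟩ := O.wt8_surj (j := 8) (by decide) (by decide) h0
    rw [← eq_inv_of_mul_eq_one_left ((wt8_mul 8 l⁻¹ l).symm.trans (by rw [inv_mul_cancel, wt8_one])), ← O.h8_g,
      ← one_mul s, ← wt8_five (σ := σ) l⁻¹, ← O.h8_g, conj_mul, ← e, ← h5, ← mul_one (wt8 σ 8 l), ← O.h8_g]
    group
  obtain ⟨μ, h7, h8⟩ := hq
  have h9 := mt O.add_eq_zero.1 h8
  have h10 := key _ h9
  rw [← O.a8, ← conj_mul, key μ h7, e] at h10
  simp only [O.col] at h10
  have h11 : O.g 8 (μ⁻¹ * r + r + (μ + 1)⁻¹ * r) ∈ O.Z := O.mem_Z.2 ⟨s, by rw [← O.a8, h10]; simp only [O.col]⟩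
  rw [O.g_mem_iff (by decide) (by decide)] at h11
  have := O.charP
  exact (O.no_cube (t := μ) (by field_simp at h11; grind)).elim

end OC

end CfsgLib.F42
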