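import Mathlib
import Cfsg.Agent.Lib.F42.Cst2

/-! # F42: automorphisms of `C` centralising `H8` (package AUT) -/

set_option autoImplicit false
set_option Elab.async false
set_option linter.unusedSectionVars false

namespace CfsgLib.F42

open Subgroup CfsgLib.Tech
open scoped commutatorElement

variable {K : Type*} [Field K] [Finite K] {G : Type*} [Group G] [Finite G] {σ : K →+* K} {sz : Sz K}

theorem exists_odd_pow (x : G) : ∃ k, Odd (orderOf (x ^ 2 ^ k)) := by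
  obtain ⟨k, m, hm, e⟩ := Nat.exists_eq_two_pow_mul_odd (orderOf_pos x).ne'
  exact ⟨k, hm.of_dvd_nat (orderOf_dvd_of_pow_eq_one (by rw [← pow_mul, ← e, pow_orderOf_eq_one]))⟩

theorem eq_one_of_odd {y : G} (hy : Odd (orderOf y)) (h : ∃ k, y ^ 2 ^ k = 1) : y = 1 :=
  let ⟨k, h⟩ := h
  orderOf_eq_one_iff.1 (Nat.eq_one_of_dvd_coprimes ((Nat.coprime_two_left.2 hy).pow_left k)
    (orderOf_dvd_of_pow_eq_one h) dvd_rfl)

/-- an element of odd order moving `g` by a 2-element which it fixes commutes with `g` -/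
theorem odd_fix {y g s : G} (hy : Odd (orderOf y)) (e : y * g * y⁻¹ = g * s) (hc : Commute y s)
    (hs : ∃ k, s ^ 2 ^ k = 1) : Commute y g := by
  have key : ∀ n : ℕ, y ^ n * g * (y ^ n)⁻¹ = g * s ^ n := fun n => by
    induction n with
    | zero => simp
    | succ n ih =>
      rw [pow_succ' y, pow_succ' s, ← mul_assoc g, ← e, ← mul_inv_cancel_right (s ^ n) y, ← (hc.pow_right n).eq,
        conj_mul, ← ih]
      group
  have h1 := key (orderOf y)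
  rw [pow_orderOf_eq_one, one_mul, inv_one, mul_one, left_eq_mul] at h1
  rw [eq_one_of_odd (hy.of_dvd_nat (orderOf_dvd_of_pow_eq_one h1)) hs, mul_one] at e
  exact mul_inv_eq_iff_eq_mul.1 e

theorem Cl.of_all {A k S} (h : Cl [0, 1, 2, 3, 4, 5, 6, 7, 8, 9, 10, 11] (k :: S) S) : Cl A S S :=
  fun j _ i hi => h j (mem_all j) i (List.mem_cons_of_mem _ hi)

namespace OC

variable (O : OC σ sz G)

/-- `x` acts as the scalar `a` on the layer `k` over `S` -/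
def Lay (x : G) (k : Fin 12) (S : List (Fin 12)) (a : K) : Prop :=
  ∀ t, ∃ s ∈ O.pat S, x * O.g k t * x⁻¹ = O.g k (a * t) * s

section lay

variable {O} {x : G} {j k m : Fin 12} {S T D : List (Fin 12)} {a b : K}

theorem Lay.unique (h : O.Lay x k S a) (h' : O.Lay x k S b) (hc : Cl (k :: S) (k :: S) S := by decide)
    (hk : k ∉ S := by decide) : a = b :=
  let ⟨_, h1, e⟩ := h 1
  let ⟨_, h2, e'⟩ := h' 1
  mul_right_cancel₀ one_ne_zero (O.layer_inj hc hk h1 h2 (e.symm.trans e'))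

theorem exists_lay (h8 : ∀ l, Commute x (O.h8 l)) (h1 : x ∈ normalizer (O.pat (k :: S) : Set G))
    (h2 : x ∈ normalizer (O.pat S : Set G)) (hc : Cl [k] (k :: S) S := by decide) (hS : Cl S S S := by decide)
    (hk : k ∉ S ∧ k ≠ 4 ∧ k ≠ 5 := by decide) : ∃ a ≠ 0, O.Lay x k S a := by
  obtain ⟨a, s, hs, e⟩ := (O.mem_cons hc).1 (conj_mem_of_mem_normalizer h1 (O.g_mem List.mem_cons_self 1))
  refine ⟨a, fun h => one_ne_zero ((O.g_mem_iff hS hk.1).1 ((mem_normalizer_iff.1 h2 _).2 ?_)), fun t => ?_⟩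
  · rwa [e, h, O.g_zero, one_mul]
  by_cases ht : t = 0
  · exact ⟨1, one_mem _, by simp [ht, O.g_zero]⟩
  obtain ⟨l, rfl⟩ := O.wt8_surj hk.2.1 hk.2.2 ht
  refine ⟨_, conj_mem_of_mem_normalizer (O.h8_norm S ⟨l, rfl⟩) hs, ?_⟩
  rw [mul_comm a, ← O.h8_g, conj_mul, ← e, ← mul_one (wt8 σ k l), ← O.h8_g, ← mul_assoc, ← mul_assoc, (h8 l).eq,
    mul_assoc _ _ x⁻¹, ← mul_inv_rev, (h8 l).eq]
  group

theorem Lay.mul (h : O.Lay x j S a) (h' : O.Lay x k T b)
    (hr : ∀ t u, O.g k u * O.g j t = O.g j t * (O.g m (t * u) * O.g k u)) (D : List (Fin 12))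
    (c1 : Cl [j] T D := by decide) (c2 : Cl (k :: T) S D := by decide)
    (c3 : Cl [0, 1, 2, 3, 4, 5, 6, 7, 8, 9, 10, 11] (m :: D) D := by decide) : O.Lay x m D (a * b) := fun t => by
  obtain ⟨s, hs, e⟩ := h t
  obtain ⟨s', hs', e'⟩ := h' 1
  have h1 : ∀ t u, O.g m (t * u) = ⁅(O.g j t)⁻¹, O.g k u⁆ := fun t u => by
    rw [commutatorElement_def, mul_assoc _ (O.g k u), inv_inv, hr]; group
  have h2 : ∀ y ∈ O.U, ∀ d ∈ O.pat D, y * d * y⁻¹ ∈ O.pat D := fun y hy d => O.conj_mem c3.of_all hy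
  have h3 := O.comm_mem c1 c3.of_all c3.of_all (inv_mem (O.g_mem List.mem_cons_self (a * t))) hs'
  have h4 := O.comm_mem c2 c3.of_all c3.of_all (mul_mem (O.g_mem List.mem_cons_self (b * 1))
    (O.pat_mono (fun _ => List.mem_cons_of_mem _) hs')) hs
  have h5 := O.comm_mem c3 c3.of_all c3.of_all (inv_mem (O.pat_le_U _ hs))
    (inv_mem (O.g_mem List.mem_cons_self (a * t * (b * 1))))
  refine ⟨_, mul_mem (inv_mem h5) (h2 _ (inv_mem (O.pat_le_U _ hs)) _ (mul_mem (h2 _ (O.g_mem_U k (b * 1)) _ h3) h4)), ?_⟩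
  rw [show a * b * t = a * t * (b * 1) by ring, h1, ← mul_one t, h1, mul_one t, conjugate_commutatorElement,
    ← conj_inv, e, e']
  simp only [commutatorElement_def]
  group

theorem sq_mem (h : Cl S S D) (h' : Cl S D D) {s : G} (hs : s ∈ O.pat S) : s * s ∈ O.pat D := by
  refine O.pat_ind hs (by simp) (fun j hj t => ?_) fun x hx y hy h1 h2 => ?_
  · obtain ⟨d, hd, e⟩ := O.add' (h j hj j hj) t t
    rwa [e, O.add_self, O.g_zero, one_mul]
  · convert mul_mem (mul_mem h1 (O.comm_mem h h' h' (inv_mem hx) hy)) h2 using 1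
    rw [commutatorElement_def]; group

theorem Lay.of_sq (h : O.Lay x m D 1) (hr : ∀ t u, O.g k t * O.g k u = O.g k (t + u) * O.g m (t * σ u))
    (h1 : x ∈ normalizer (O.pat (k :: S) : Set G)) (hc : Cl [k] (k :: S) S := by decide)
    (c1 : Cl [k] S D := by decide) (c2 : Cl S S D := by decide)
    (c3 : Cl [0, 1, 2, 3, 4, 5, 6, 7, 8, 9, 10, 11] (m :: D) D := by decide) (hm : m ∉ D := by decide) :
    O.Lay x k S 1 := fun t => by
  obtain ⟨r, s, hs, e⟩ := (O.mem_cons hc).1 (conj_mem_of_mem_normalizer h1 (O.g_mem List.mem_cons_self t))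
  obtain ⟨d, hd, e'⟩ := h (t * σ t)
  have h2 : ∀ t, O.g m (t * σ t) = O.g k t * O.g k t := fun t => by rw [hr, O.add_self, O.g_zero, one_mul]
  refine ⟨s, hs, e.trans (congrArg (O.g k · * s) ((O.n_inj ((O.layer_inj (fun j _ => c3 j (mem_all j)) hm (mul_mem
    (O.comm_mem c1 c3.of_all c3.of_all (inv_mem (O.g_mem List.mem_cons_self r)) hs) (sq_mem c2 c3.of_all hs)) hd
    ?_).trans (one_mul _))).trans (one_mul t).symm))⟩
  rw [← e', h2, h2, ← conj_mul, e, commutatorElement_def]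
  group

theorem Lay.pow (h : O.Lay x k S 1) (h2 : x ∈ normalizer (O.pat S : Set G)) (n : ℕ) : O.Lay (x ^ n) k S 1 := fun t => by
  induction n with
  | zero => exact ⟨1, one_mem _, by simp⟩
  | succ n ih =>
    obtain ⟨s, hs, e⟩ := ih
    obtain ⟨s', hs', e'⟩ := h t
    rw [one_mul] at e e' ⊢
    exact ⟨_, mul_mem hs' (conj_mem_of_mem_normalizer h2 hs), by
      rw [← mul_assoc, ← e', conj_mul, ← e, pow_succ']; group⟩

theorem Lay.cent (hx : Odd (orderOf x)) (h : O.Lay x k S 1) (h1 : O.pat S ≤ centralizer {x}) :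
    O.pat (k :: S) ≤ centralizer {x} := by
  rw [O.pat_le, List.forall_mem_cons, ← O.pat_le]
  refine ⟨fun t => ?_, h1⟩
  obtain ⟨s, hs, e⟩ := h t
  rw [one_mul] at e
  exact mem_centralizer_singleton_iff.2 (odd_fix hx e (mem_centralizer_singleton_iff.1 (h1 hs)).symm
    (isPGroup_iff_mem.1 (O.isPGroup_pat S) s hs)).symm

end lay

theorem scal_el {x : G} (hC : x ∈ normalizer (O.C : Set G)) (hU : x ∈ normalizer (O.U : Set G)) (h8 : ∀ l, Commute x (O.h8 l)) :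
    ∃ a b : Kˣ, (∀ t, x * O.g 5 t * x⁻¹ = O.g 5 (a * t)) ∧
      ∀ t, ∃ s, x * O.g 8 t * x⁻¹ = O.g 5 s * O.g 8 (b * t) := by
  have hn := O.norm_chain hC hU
  obtain ⟨a, h1, h2⟩ := exists_lay (k := 0) (S := [1, 7, 9, 4, 2, 3, 6, 8, 5]) h8 (hn 2) (hn 3)
  obtain ⟨b, h3, h4⟩ := exists_lay (k := 8) (S := [5]) h8 (hn 10) (hn 11)
  refine ⟨.mk0 _ (mul_ne_zero h1 h3), .mk0 b h3, fun t => ?_, fun t => ?_⟩
  · simpa [O.pat_nil] using h2.mul h4 O.r0_8 [] (by decide) (by decide) (by decide) t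
  · obtain ⟨z, h5, e⟩ := h4 t
    obtain ⟨s, rfl⟩ := O.mem_Z.1 h5
    exact ⟨s, e.trans (O.r5_8 _ _)⟩

theorem two_el {x : G} (hC : x ∈ normalizer (O.C : Set G)) (hU : x ∈ normalizer (O.U : Set G)) (h8 : ∀ l, Commute x (O.h8 l))
    (hz : ∀ t, x * O.g 5 t * x⁻¹ = O.g 5 t) (hv : ∀ t, ∃ s, x * O.g 8 t * x⁻¹ = O.g 5 s * O.g 8 t) :
    ∃ k, ∀ c ∈ O.C, Commute (x ^ 2 ^ k) c := by
  have hn := O.norm_chain hC hU
  have l5 : O.Lay x 5 [] 1 := fun t => ⟨1, one_mem _, by rw [hz, one_mul, mul_one]⟩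
  have l8 : O.Lay x 8 [5] 1 := fun t => let ⟨s, e⟩ := hv t
    ⟨_, O.g_mem List.mem_cons_self s, by rw [e, one_mul, O.r5_8]⟩
  have l4 := l5.of_sq (S := [2, 3, 6, 8, 5]) O.a4 (hn 6)
  obtain ⟨a0, -, l0⟩ := exists_lay (k := 0) (S := [1, 7, 9, 4, 2, 3, 6, 8, 5]) h8 (hn 2) (hn 3)
  obtain rfl : a0 = 1 := (mul_one a0).symm.trans ((l0.mul l8 O.r0_8 []).unique l5)
  have l2 := mul_one (1 : K) ▸ l0.mul l4 O.r0_4 [3, 6, 8, 5]
  have l1 := l2.of_sq (S := [7, 9, 4, 2, 3, 6, 8, 5]) O.a1 (hn 3)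
  have l3 := mul_one (1 : K) ▸ l1.mul l4 O.r1_4 [6, 8, 5]
  obtain ⟨a6, -, l6⟩ := exists_lay (k := 6) (S := [8, 5]) h8 (hn 9) (hn 10)
  obtain rfl : a6 = 1 := (one_mul a6).symm.trans ((l1.mul l6 O.r1_6 []).unique l5)
  obtain ⟨a7, -, l7⟩ := exists_lay (k := 7) (S := [9, 4, 2, 3, 6, 8, 5]) h8 (hn 4) (hn 5)
  obtain rfl : a7 = 1 := (one_mul a7).symm.trans ((l4.mul l7 O.r4_7 _).unique l6)
  obtain ⟨a9, -, l9⟩ := exists_lay (k := 9) (S := [4, 2, 3, 6, 8, 5]) h8 (hn 5) (hn 6)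
  obtain rfl : a9 = 1 := (one_mul a9).symm.trans ((l4.mul l9 O.r4_9 _).unique l8)
  obtain ⟨k, hk⟩ := exists_odd_pow x
  have h1 := (l0.pow (hn 3) _).cent hk <| (l1.pow (hn 4) _).cent hk <| (l7.pow (hn 5) _).cent hk <|
    (l9.pow (hn 6) _).cent hk <| (l4.pow (hn 7) _).cent hk <| (l2.pow (hn 8) _).cent hk <| (l3.pow (hn 9) _).cent hk <|
    (l6.pow (hn 10) _).cent hk <| (l8.pow (hn 11) _).cent hk <| (l5.pow (hn 12) _).cent hk (O.pat_nil ▸ bot_le)
  refine ⟨k, fun c hc => ?_⟩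
  replace hC := pow_mem hC (2 ^ k)
  generalize x ^ 2 ^ k = y at *
  have h2 : ∀ q ∈ O.Q, Commute y q := fun q hq =>
    (mem_centralizer_singleton_iff.1 (h1 (O.pat_mono (by decide) hq))).symm
  have h3 := O.cent_Q (mul_mem (inv_mem hc) (conj_mem_of_mem_normalizer hC hc)) fun q hq => by
    have := (h2 _ (conj_mem_of_mem_normalizer (O.C_norm_Q hc) hq)).map (MulAut.conj c⁻¹)
    simpa [mul_assoc] using (show Commute (c⁻¹ * y * c) q by simpa [mul_assoc] using this).mul_left (h2 q hq).inv_left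
  exact odd_fix hk (mul_inv_cancel_left _ _).symm (h2 _ (O.pat_mono (by decide) h3))
    (isPGroup_iff_mem.1 (O.isPGroup_pat _) _ h3)

section hol

open SemidirectProduct

theorem hol_hyp {f : MulAut O.C} (hf : O.IsA f) :
    let O' := O.map (inl : _ →* O.C ⋊[MonoidHom.id _] MulAut O.C) inl_injective
    (∀ (g : MulAut O.C) (c : O.C), (inr g * inl c * (inr g)⁻¹ : O.C ⋊[MonoidHom.id _] MulAut O.C) = inl (g c)) ∧
      inr f ∈ normalizer (SetLike.coe O'.C) ∧ inr f ∈ normalizer (SetLike.coe O'.U) ∧ ∀ l, Commute (inr f) (O'.h8 l) := by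
  intro O'
  have := Finite.of_equiv _ (equivProd (φ := MonoidHom.id (MulAut O.C))).symm
  have h : ∀ (g : MulAut O.C) (c : O.C), (inr g * inl c * (inr g)⁻¹ : O.C ⋊[MonoidHom.id _] MulAut O.C) = inl (g c) :=
    fun g c => by rw [← map_inv, ← inl_aut]; rfl
  refine ⟨h, mem_normalizer_of_forall ?_, mem_normalizer_of_forall ?_, fun l =>
    mul_inv_eq_iff_eq_mul.1 ((h f _).trans (congrArg inl (hf.h8 l)))⟩
  · rw [O.map_C]
    rintro _ ⟨c, rfl⟩
    exact ⟨_, (h f c).symm⟩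
  · rw [U, O.map_pat]
    rintro _ ⟨c, hc, rfl⟩
    exact ⟨_, hf.U c hc, (h f c).symm⟩

theorem exists_scal {f : MulAut O.C} (hf : O.IsA f) : ∃ a b : Kˣ, O.Scal f a b := by
  have := Finite.of_equiv _ (equivProd (φ := MonoidHom.id (MulAut O.C))).symm
  obtain ⟨h, h1, h2, h3⟩ := O.hol_hyp hf
  obtain ⟨a, b, h4, h5⟩ := scal_el _ h1 h2 h3
  exact ⟨a, b, fun t => congrArg Subtype.val (inl_injective ((h f _).symm.trans (h4 t))), fun t => (h5 t).imp fun s e =>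
    congrArg Subtype.val (inl_injective ((h f _).symm.trans (e.trans (map_mul _ _ _).symm)))⟩

theorem two_of_scal {f : MulAut O.C} (hf : O.IsA f) (h : O.Scal f 1 1) : ∃ k, f ^ 2 ^ k = 1 := by
  have := Finite.of_equiv _ (equivProd (φ := MonoidHom.id (MulAut O.C))).symm
  obtain ⟨h0, h1, h2, h3⟩ := O.hol_hyp hf
  obtain ⟨k, hk⟩ := two_el _ h1 h2 h3 (fun t => (h0 f _).trans (congrArg inl (Subtype.ext (by simpa using h.z t))))
    fun t => (h.v t).imp fun s e => (h0 f _).trans ((congrArg inl (Subtype.ext (by simpa using e))).trans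
      (map_mul inl (O.gC 5 s) (O.gC 8 t)))
  refine ⟨k, MulEquiv.ext fun c => inl_injective ((h0 _ c).symm.trans (mul_inv_eq_iff_eq_mul.2 ?_))⟩
  rw [map_pow]
  exact hk _ (by rw [O.map_C]; exact ⟨c, rfl⟩)

end hol

variable {O}

theorem Hyp.mem_C (H : O.Hyp) {x : G} (hC : x ∈ normalizer (O.C : Set G)) (hU : x ∈ normalizer (O.U : Set G)) (h8 : ∀ l, Commute x (O.h8 l))
    (hz : ∀ t, x * O.g 5 t * x⁻¹ = O.g 5 t) (hv : ∀ t, ∃ s, x * O.g 8 t * x⁻¹ = O.g 5 s * O.g 8 t) :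
    x ∈ O.C := by
  obtain ⟨k, hk⟩ := O.two_el hC hU h8 hz hv
  obtain ⟨j, hj⟩ := exists_odd_pow (x ^ 2 ^ k)
  have h1 : x ∈ centralizer {O.τ} := mem_centralizer_singleton_iff.2 (mul_inv_eq_iff_eq_mul.1 (hz 1))
  exact H.two x h1 ⟨k + j, by
    rw [pow_add, pow_mul]
    exact H.cent _ (pow_mem (pow_mem h1 _) _) hj (pow_mem (mem_centralizer_iff.2 fun c hc => (hk c hc).eq.symm) _)⟩

theorem Hyp.cent_R (H : O.Hyp) {x : G} (h : ∀ r ∈ O.R, Commute x r) : x ∈ O.V := by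
  have key : ∀ y ∈ O.C, (∀ r ∈ O.R, Commute y r) → y ∈ O.V := fun y hy k => O.center_R
    (O.cent_V hy (O.g_mem (by decide) 1) O.z6_not_mem (k _ (O.g_mem (by decide) 1))) k
  have h1 : x ∈ centralizer {O.τ} := mem_centralizer_singleton_iff.2 (h _ (O.g_mem (by decide) 1))
  obtain ⟨k, hk⟩ := exists_odd_pow x
  refine key x (H.two x h1 ⟨k, eq_one_of_odd hk ?_⟩) h
  have h2 := H.norm (pow_mem h1 (2 ^ k))
  have h3 : ∀ r ∈ O.R, Commute (x ^ 2 ^ k) r := fun r hr => (h r hr).pow_left _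
  generalize x ^ 2 ^ k = y at *
  have h4 : ∀ r ∈ O.R, y * r * y⁻¹ = r := fun r hr => mul_inv_eq_iff_eq_mul.2 (h3 r hr)
  refine isPGroup_iff_mem.1 (O.isPGroup_pat _) y (key y (H.mem_C h2 (O.norm_U h2 fun r hr =>
    (h4 r hr).symm ▸ O.pat_le_U _ hr) (fun l => ?_) (fun t => h4 _ (O.g_mem (by decide) t)) fun t =>
    ⟨0, by rw [h4 _ (O.g_mem (by decide) t), O.g_zero, one_mul]⟩) h3)
  have h5 := key _ (mul_mem (inv_mem (O.h8_mem_C l)) (conj_mem_of_mem_normalizer h2 (O.h8_mem_C l))) fun q hq => by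
    have := (h3 _ (conj_mem_of_mem_normalizer (O.h8_norm _ ⟨l, rfl⟩) hq)).map (MulAut.conj (O.h8 l)⁻¹)
    simpa [mul_assoc] using (show Commute ((O.h8 l)⁻¹ * y * O.h8 l) q by simpa [mul_assoc] using this).mul_left
      (h3 q hq).inv_left
  exact odd_fix hk (mul_inv_cancel_left _ _).symm (h3 _ (O.pat_mono (by decide) h5))
    (isPGroup_iff_mem.1 (O.isPGroup_pat _) _ h5)

theorem Hyp.cent_two (H : O.Hyp) (h2 : Two K) {x : G} (h : Commute x O.τ) : x ∈ O.C := by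
  have h1 := H.norm (mem_centralizer_singleton_iff.2 h)
  obtain ⟨c, hc, h3⟩ := O.exists_norm_U h1
  have h4 : ∀ l : Kˣ, l = 1 := fun l => Units.ext ((h2 l).resolve_left l.ne_zero)
  have h5 := mul_mem (le_normalizer hc) h1
  have h6 : ∀ l, Commute (c * x) (O.h8 l) := fun l => by rw [h4 l, map_one]; exact Commute.one_right _
  obtain ⟨a, b, h7, h8⟩ := O.scal_el h5 h3 h6
  simp only [h4 a, h4 b, Units.val_one, one_mul] at h7 h8
  exact (mul_mem_cancel_left hc).1 (H.mem_C h5 h3 h6 h7 h8)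

end OC

end CfsgLib.F42
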