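import Mathlib
import Cfsg.Agent.Lib.F42.Cst2
import Cfsg.Agent.Lib.Tech.SylowIn

/-! # F42: involutions of `C` and their centralisers (package INV) -/

set_option autoImplicit false
set_option Elab.async false
set_option linter.unusedSectionVars false

namespace CfsgLib.F42

open Subgroup
open scoped commutatorElement

variable {K : Type*} [Field K] [Finite K] {G : Type*} [Group G] [Finite G] {σ : K →+* K} {sz : Sz K}

namespace OC

variable (O : OC σ sz G)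

theorem inv_gm0 {S : Subgroup G} {j : Fin 12} {t : K} (h : t = 0) : O.g j t ∈ S := by
  rw [h, O.g_zero]; exact one_mem _

/-- the coordinates of a trivial word -/
theorem inv_co (a0 a1 a2 a3 a4 a5 a6 a7 a8 a9 a10 a11 : K)
    (h : O.g 0 a0 * (O.g 1 a1 * (O.g 2 a2 * (O.g 3 a3 * (O.g 4 a4 * (O.g 5 a5 * (O.g 6 a6 * (O.g 7 a7 *
      (O.g 8 a8 * (O.g 9 a9 * (O.g 10 a10 * O.g 11 a11)))))))))) = 1) :
    a0 = 0 ∧ a1 = 0 ∧ a2 = 0 ∧ a3 = 0 ∧ a4 = 0 ∧ a5 = 0 ∧ a6 = 0 ∧ a7 = 0 ∧ a8 = 0 ∧ a9 = 0 ∧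
      a10 = 0 ∧ a11 = 0 := O.nf_inj (h.trans (by simp only [O.g_zero, mul_one]))

theorem inv_of {P : G → Prop} {c x : G} (hc : c ∈ O.C)
    (h : ∃ d ∈ O.C, P (d * (c * x * c⁻¹) * d⁻¹)) : ∃ d ∈ O.C, P (d * x * d⁻¹) := by
  obtain ⟨d, hd, h⟩ := h
  exact ⟨d * c, mul_mem hd hc, by convert h using 1; group⟩

theorem inv_self {P : G → Prop} {x : G} (h : P x) : ∃ d ∈ O.C, P (d * x * d⁻¹) :=
  ⟨1, one_mem _, by simpa using h⟩

theorem inv_sq {c x : G} (h : x * x = 1) : c * x * c⁻¹ * (c * x * c⁻¹) = 1 := by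
  rw [conj_mul, h]; simp

theorem inv_not {c x : G} {N : Subgroup G} (hc : c ∈ normalizer (N : Set G)) (h : x ∉ N) :
    c * x * c⁻¹ ∉ N := fun e => h ((mem_normalizer_iff.1 hc x).2 e)

include O in
theorem inv_sig (a : K) {t : K} (ht : t ≠ 0) : ∃ u, σ u * t = a ∧ t * σ u = a := by
  obtain ⟨u, hu⟩ := O.sig_surj (a / t)
  exact ⟨u, by rw [hu, div_mul_cancel₀ a ht], by rw [hu, mul_div_cancel₀ a ht]⟩

theorem conj_E2 {x : G} (hx : x ∈ O.E2) (hv : x ∉ O.V) : ∃ c ∈ O.R, ∃ r, r ≠ 0 ∧ c * x * c⁻¹ = O.g 6 r := by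
  obtain ⟨p, hp, rfl⟩ := (O.mem_pat (by decide)).1 hx
  have ht : p 6 ≠ 0 := fun e => hv ((O.nf_mem (by decide)).2 fun j hj =>
    if h : j = 6 then h ▸ e else hp j (by revert j; decide))
  have := O.charP
  obtain ⟨u, hu⟩ : ∃ u, u * p 6 = p 5 := ⟨_, div_mul_cancel₀ _ ht⟩
  obtain ⟨v, hv⟩ : ∃ v, v * p 6 = p 8 := ⟨_, div_mul_cancel₀ _ ht⟩
  refine ⟨O.g 1 u * O.g 10 v, mul_mem (O.g_mem (by decide) _) (O.g_mem (by decide) _), _, ht, ?_⟩
  rw [← inv_mul_eq_one]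
  simp (disch := decide) only [nf, nfg, hp, O.col]
  repeat' first | apply O.z_mul | apply O.z_one
  all_goals grind

theorem inv_k3 {r : K} (hr : r ≠ 0) (a b : K) :
    ∃ c ∈ O.C, ∃ t, t ≠ 0 ∧ c * (O.g 3 r * (O.g 5 a * O.g 8 b)) * c⁻¹ = O.g 6 t := by
  refine O.inv_of (P := fun y => ∃ t, t ≠ 0 ∧ y = O.g 6 t) (O.g_mem_C 11 (b / r))
    (O.inv_of (P := fun y => ∃ t, t ≠ 0 ∧ y = O.g 6 t) O.n8_mem_C ?_)
  rw [show O.g 11 (b / r) * (O.g 3 r * (O.g 5 a * O.g 8 b)) * (O.g 11 (b / r))⁻¹ = O.g 3 r * O.g 5 a by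
    simp only [O.col, mul_div_cancel₀ _ hr], ← conj_mul, O.n8_g 3 (by decide), O.n8_g 5 (by decide)]
  obtain ⟨c, hc, h⟩ := O.conj_E2 (x := O.g 6 r * O.g 5 a) (mul_mem (O.g_mem (by decide) _)
    (O.g_mem (by decide) _)) (by
      rwa [mul_mem_cancel_right (O.g_mem (by decide) _), O.g_mem_iff (by decide) (by decide)])
  exact ⟨c, O.pat_le_C _ hc, h⟩

theorem conj_26 {s t : K} (hs : s ≠ 0) (ht : t ≠ 0) :
    ∃ c ∈ O.C, ∃ r, r ≠ 0 ∧ c * (O.g 2 s * O.g 8 t) * c⁻¹ = O.g 6 r := by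
  obtain ⟨v, -, hv⟩ := O.inv_sig t hs
  have h1 : O.g 11 v * (O.g 2 s * O.g 8 t) * (O.g 11 v)⁻¹ = O.g 2 s * (O.g 5 (σ s * v) * O.g 6 (s * v)) := by
    simp only [O.col, hv]
  refine O.inv_of (P := fun y => ∃ t, t ≠ 0 ∧ y = O.g 6 t) (O.g_mem_C 11 v)
    (O.inv_of (P := fun y => ∃ t, t ≠ 0 ∧ y = O.g 6 t) O.n8_mem_C ?_)
  rw [h1, ← conj_mul, ← conj_mul, O.n8_g 2 (by decide), O.n8_g 5 (by decide), O.n8_g 6 (by decide)]
  convert O.inv_k3 (r := s * v) (mul_ne_zero hs fun e => ht (by rw [← hv, e, map_zero, mul_zero]))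
    (σ s * v) s using 7
  simp only [show p8 2 = 8 from rfl, show p8 5 = 5 from rfl, show p8 6 = 3 from rfl, O.col]

theorem conj_E {x : G} (hx : x ∈ O.E) : ∃ c ∈ O.C, c * x * c⁻¹ ∈ O.V ∨ ∃ t, t ≠ 0 ∧ c * x * c⁻¹ = O.g 6 t := by
  have := O.charP
  let P : G → Prop := fun y => y ∈ O.V ∨ ∃ t, t ≠ 0 ∧ y = O.g 6 t
  have h0 : ∀ x ∈ O.E2, ∃ c ∈ O.C, P (c * x * c⁻¹) := fun x hx => by
    by_cases h : x ∈ O.V
    · exact O.inv_self (.inl h)
    · obtain ⟨c, hc, h⟩ := O.conj_E2 hx h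
      exact ⟨c, O.pat_le_C _ hc, .inr h⟩
  have h1 : ∀ x ∈ O.pat [3, 5, 8], ∃ c ∈ O.C, P (c * x * c⁻¹) := fun x hx => by
    obtain ⟨p, hp, rfl⟩ := (O.mem_pat (by decide)).1 hx
    by_cases h : p 3 = 0
    · exact h0 _ ((O.nf_mem (by decide)).2 fun j hj => if e : j = 3 then e ▸ h else hp j (by revert j; decide))
    · obtain ⟨c, hc, h⟩ := O.inv_k3 h (p 5) (p 8)
      exact ⟨c, hc, .inr (by simpa (disch := decide) only [nf, nfg, hp, O.g_zero, one_mul, mul_one] using h)⟩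
  have h2 : ∀ x ∈ O.E1, ∃ c ∈ O.C, P (c * x * c⁻¹) := fun x hx => by
    obtain ⟨p, hp, rfl⟩ := (O.mem_pat (by decide)).1 hx
    by_cases h : p 3 = 0
    · exact h0 _ ((O.nf_mem (by decide)).2 fun j hj => if e : j = 3 then e ▸ h else hp j (by revert j; decide))
    · obtain ⟨u, -, hu⟩ := O.inv_sig (p 6) h
      refine O.inv_of (O.g_mem_C 10 u) (h1 _ ?_)
      simp (disch := decide) only [nf, nfg, hp, O.col, hu]
      repeat' first | exact O.g_mem (by decide) _ | apply mul_mem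
  have h3 : ∀ x ∈ O.pat [2, 5, 6, 8], ∃ c ∈ O.C, P (c * x * c⁻¹) := fun x hx => by
    obtain ⟨p, hp, rfl⟩ := (O.mem_pat (by decide)).1 hx
    by_cases h : p 2 = 0
    · exact h0 _ ((O.nf_mem (by decide)).2 fun j hj => if e : j = 2 then e ▸ h else hp j (by revert j; decide))
    · obtain ⟨u, -, hu⟩ := O.inv_sig (p 8) h
      refine O.inv_of (O.g_mem_C 11 u) (O.inv_of O.n8_mem_C (h1 _ (O.pat_mono (by decide)
        ((O.n8_conj (S := [2, 5, 6]) (by decide)).1 ?_))))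
      simp (disch := decide) only [nf, nfg, hp, O.col, hu]
      repeat' first | exact O.g_mem (by decide) _ | apply mul_mem
  obtain ⟨p, hp, rfl⟩ := (O.mem_pat (by decide)).1 hx
  by_cases h : p 2 = 0
  · exact h2 _ ((O.nf_mem (by decide)).2 fun j hj => if e : j = 2 then e ▸ h else hp j (by revert j; decide))
  · refine O.inv_of (O.g_mem_C 10 (p 3 / p 2)) (h3 _ ?_)
    simp (disch := decide) only [nf, nfg, hp, O.col, mul_div_cancel₀ _ h]
    repeat' first | exact O.g_mem (by decide) _ | apply mul_mem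

/-- the equations of an involution of `U` -/
theorem inv_eqs {p : Fin 12 → K} (h : O.nf p * O.nf p = 1) : p 10 = 0 ∧ p 0 * p 11 = 0 ∧
    (p 0 = 0 → p 1 = 0) ∧ (p 1 = 0 → p 7 = 0 → p 11 = 0 → σ (p 0) * p 9 = 0) := by
  have := O.charP
  have h10 : p 10 = 0 := by
    simp only [nf, nfg, O.col] at h
    have := (O.inv_co 0 _ _ _ _ _ _ _ _ _ 0 _
      (by simpa only [O.g_zero, one_mul] using h)).2.2.2.2.2.2.2.2.2.2.2
    simpa using this
  simp only [nf, nfg, h10, O.col] at h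
  obtain ⟨-, -, h2, h3, -, -, -, h7, -⟩ := O.inv_co 0 0 _ _ _ _ _ _ _ _ 0 0
    (by simpa only [O.g_zero, one_mul, mul_one] using h)
  refine ⟨h10, by grind, fun e => O.n_inj ?_, fun e1 e7 e11 => ?_⟩
  · simp only [e, O.col] at h2 ⊢; exact h2
  · simp only [e1, e7, e11, O.col] at h3; grind

theorem inv_a7 {t : K} (ht : t ≠ 0) (a b d e : K) : ∃ c ∈ O.C, ∃ s, s ≠ 0 ∧
    c * (O.g 3 a * (O.g 5 b * (O.g 6 d * (O.g 8 e * O.g 9 t)))) * c⁻¹ = O.g 9 s := by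
  have := O.charP
  let P : G → Prop := fun y => ∃ s, s ≠ 0 ∧ y = O.g 9 s
  have h1 : ∀ b e, ∃ c ∈ O.C, P (c * (O.g 5 b * (O.g 8 e * O.g 9 t)) * c⁻¹) := fun b e =>
    ⟨O.g 2 (b / t) * O.g 4 (e / t), mul_mem (O.g_mem_C _ _) (O.g_mem_C _ _), t, ht, by
      simp only [O.col, div_mul_cancel₀ _ ht]
      rw [O.z_one (j := 5) (by grind), one_mul]⟩
  have h2 : ∀ b d e, ∃ c ∈ O.C, P (c * (O.g 5 b * (O.g 6 d * (O.g 8 e * O.g 9 t))) * c⁻¹) := fun b d e => by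
    obtain ⟨u, hu, -⟩ := O.inv_sig d ht
    refine O.inv_of (O.g_mem_C 1 u) ?_
    convert h1 _ _ using 6
    simp only [O.col, hu]
    rfl
  obtain ⟨u, hu, -⟩ := O.inv_sig a ht
  refine O.inv_of (P := P) (O.g_mem_C 0 u) ?_
  convert h2 _ _ _ using 6
  simp only [O.col, hu]
  rfl

theorem inv_D {x : G} (hx : x ∈ O.pat [2, 3, 4, 5, 6, 7, 8, 9]) (h2 : x * x = 1) :
    x ∈ O.E ∨ ∃ c ∈ O.C, ∃ t, t ≠ 0 ∧ c * x * c⁻¹ = O.g 9 t := by
  have := O.charP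
  obtain ⟨p, hp, rfl⟩ := (O.mem_pat (by decide)).1 hx
  simp (disch := decide) only [nf, nfg, hp, O.col] at h2
  obtain ⟨-, -, -, -, -, h5, h6, -, h8, -⟩ := O.inv_co 0 0 0 0 0 _ _ 0 _ 0 0 0
    (by simpa only [O.g_zero, one_mul, mul_one] using h2)
  have h7 : p 7 = 0 := O.n_inj (by
    rw [zero_mul]
    by_cases e : p 7 = 0 <;> grind)
  by_cases h9 : p 9 = 0
  · have h4 : p 4 = 0 := O.n_inj (by grind)
    simp (disch := decide) only [nf, nfg, hp, h4, h7, h9, O.col]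
    left
    repeat' first | exact O.g_mem (by decide) _ | apply mul_mem
  · have h4 : p 4 = 0 := by grind
    have h2 : p 2 = 0 := by simp only [h4, h7, O.col] at h5; grind
    simpa (disch := decide) only [nf, nfg, hp, h2, h4, h7, O.g_zero, one_mul, mul_one] using
      .inr (O.inv_a7 h9 (p 3) (p 5) (p 6) (p 8))

/-- the involutions of `U` outside `R` -/
theorem conj_out_R {x : G} (hx : x ∈ O.U) (hR : x ∉ O.R) (h2 : x * x = 1) :
    ∃ c ∈ O.C, ∃ t, t ≠ 0 ∧ c * x * c⁻¹ = O.g 9 t := by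
  have := O.charP
  have nz : ∀ p, O.nf p ∉ O.R → p 0 ≠ 0 := fun p h e =>
    h ((O.nf_mem (by decide)).2 fun j hj => (show j = 0 by revert j; decide) ▸ e)
  obtain ⟨p, rfl⟩ := O.mem_U.1 hx
  have h0 := nz p hR
  obtain ⟨h10, h11, -⟩ := O.inv_eqs h2
  replace h11 := (mul_eq_zero.1 h11).resolve_left h0
  have h3 : O.g 11 (p 7 / p 0) * O.g 10 (p 1 / p 0) ∈ O.U := mul_mem (O.g_mem_U _ _) (O.g_mem_U _ _)
  refine O.inv_of (P := fun y => ∃ t, t ≠ 0 ∧ y = O.g 9 t) (O.U_le_C h3) ?_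
  have h4 := inv_not (O.pat_norm (by decide) h3) hR
  have h5 := inv_sq (c := O.g 11 (p 7 / p 0) * O.g 10 (p 1 / p 0)) h2
  have h6 : O.g 11 (p 7 / p 0) * O.g 10 (p 1 / p 0) * O.nf p * (O.g 11 (p 7 / p 0) * O.g 10 (p 1 / p 0))⁻¹ ∈
      O.pat [0, 2, 3, 4, 5, 6, 8, 9] := by
    have h6 := mul_div_cancel₀ (p 1) h0
    have h7 := mul_div_cancel₀ (p 7) h0
    generalize p 1 / p 0 = u at *
    generalize p 7 / p 0 = v at *
    simp only [nf, nfg, h10, h11, h6, h7, O.col]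
    repeat' first | exact O.g_mem (by decide) _ | apply mul_mem | apply O.inv_gm0
    all_goals grind
  generalize O.g 11 (p 7 / p 0) * O.g 10 (p 1 / p 0) * O.nf p * _ = y at *
  obtain ⟨q, hq, rfl⟩ := (O.mem_pat (by decide)).1 h6
  have h9 := (O.inv_eqs h5).2.2.2 (hq _ (by decide)) (hq _ (by decide)) (hq _ (by decide))
  have h7 : O.nf q ∈ O.pat [0, 2, 3, 4, 5, 6, 8] := (O.nf_mem (by decide)).2 fun j hj =>
    if e : j = 9 then e ▸ by simpa [nz q h4] using h9 else hq j (by revert j; decide)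
  exact O.inv_of (P := fun y => ∃ t, t ≠ 0 ∧ y = O.g 9 t) O.n8_mem_C
    ((O.inv_D (O.pat_mono (by decide) ((O.n8_conj (by decide)).1 h7)) (inv_sq h5)).resolve_left
      (inv_not (O.C_norm_E O.n8_mem_C) fun e => h4 (O.pat_mono (by decide) e)))

theorem inv_out_Q {x : G} (hx : x ∈ O.U) (hQ : x ∉ O.Q) (h2 : x * x = 1) :
    ∃ c ∈ O.C, ∃ s t, t ≠ 0 ∧ c * x * c⁻¹ = O.g 5 s * O.g 11 t := by
  have := O.charP
  have nz : ∀ p, p 10 = 0 → O.nf p ∉ O.Q → p 11 ≠ 0 := fun p h10 h e =>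
    h ((O.nf_mem (by decide)).2 fun j hj => (show j = 10 ∨ j = 11 by revert j; decide).elim (· ▸ h10) (· ▸ e))
  obtain ⟨p, rfl⟩ := O.mem_U.1 hx
  obtain ⟨h10, h0, h1, -⟩ := O.inv_eqs h2
  have h11 := nz p h10 hQ
  replace h0 := (mul_eq_zero.1 h0).resolve_right h11
  replace h1 := h1 h0
  obtain ⟨u, hu⟩ : ∃ u, u * p 11 = p 7 := ⟨_, div_mul_cancel₀ _ h11⟩
  obtain ⟨v, hv⟩ : ∃ v, v * p 11 = p 9 + u * σ (p 11) := ⟨_, div_mul_cancel₀ _ h11⟩
  have h3 : O.g 1 v * O.g 0 u ∈ O.C := mul_mem (O.g_mem_C _ _) (O.g_mem_C _ _)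
  refine O.inv_of (P := fun y => ∃ s t, t ≠ 0 ∧ y = O.g 5 s * O.g 11 t) h3 ?_
  have h4 := inv_not (O.C_norm_Q h3) hQ
  have h5 := inv_sq (c := O.g 1 v * O.g 0 u) h2
  have h6 : O.g 1 v * O.g 0 u * O.nf p * (O.g 1 v * O.g 0 u)⁻¹ ∈ O.pat [2, 3, 4, 5, 6, 8, 11] := by
    simp only [nf, nfg, h10, h0, h1, O.col]
    repeat' first | exact O.g_mem (by decide) _ | apply mul_mem | apply O.inv_gm0
    all_goals grind
  generalize O.g 1 v * O.g 0 u * O.nf p * _ = y at *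
  obtain ⟨q, hq, rfl⟩ := (O.mem_pat (by decide)).1 h6
  have ht := nz q (hq _ (by decide)) h4
  simp (disch := decide) only [nf, nfg, hq, O.col] at h5
  obtain ⟨-, -, -, -, -, e5, e6, -, e8, -⟩ := O.inv_co 0 0 0 0 0 _ _ 0 _ 0 0 0
    (by simpa only [O.g_zero, one_mul, mul_one] using h5)
  have e2 : q 2 = 0 := by grind
  have e3 : q 3 = 0 := by grind
  have e4 : q 4 = 0 := O.n_inj (by simp only [e2, O.col] at e5 ⊢; grind)
  obtain ⟨a, ha⟩ : ∃ a, a * q 11 = q 6 := ⟨_, div_mul_cancel₀ _ ht⟩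
  obtain ⟨b, hb⟩ : ∃ b, b * q 11 = q 8 + a * σ (q 11) := ⟨_, div_mul_cancel₀ _ ht⟩
  refine ⟨O.g 3 b * O.g 2 a, mul_mem (O.g_mem_C _ _) (O.g_mem_C _ _), q 5 + σ a * q 11, _, ht, ?_⟩
  rw [← inv_mul_eq_one]
  simp (disch := decide) only [nf, nfg, hq, e2, e3, e4, O.col]
  repeat' first | apply O.z_mul | apply O.z_one
  all_goals grind

theorem classes {x : G} (hx : x ∈ O.C) (h2 : x * x = 1) : ∃ c ∈ O.C, c * x * c⁻¹ ∈ O.V ∨
    (∃ t, t ≠ 0 ∧ c * x * c⁻¹ = O.g 6 t) ∨ (∃ t, t ≠ 0 ∧ c * x * c⁻¹ = O.g 9 t) ∨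
    ∃ s t, t ≠ 0 ∧ c * x * c⁻¹ = O.g 5 s * O.g 11 t := by
  obtain ⟨c, hc, h1⟩ := O.exists_conj_U (Tech.isPGroup_zpowers_of_pow (k := 1) (by rwa [pow_one, sq]))
    (zpowers_le.2 hx)
  refine O.inv_of (P := fun y => y ∈ O.V ∨ (∃ t, t ≠ 0 ∧ y = O.g 6 t) ∨ (∃ t, t ≠ 0 ∧ y = O.g 9 t) ∨
    ∃ s t, t ≠ 0 ∧ y = O.g 5 s * O.g 11 t) hc ?_
  replace h1 := h1 x (mem_zpowers x)
  replace h2 := inv_sq (c := c) h2
  generalize c * x * c⁻¹ = y at *
  by_cases hQ : y ∈ O.Q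
  swap
  · exact (O.inv_out_Q h1 hQ h2).imp fun d h => ⟨h.1, .inr (.inr (.inr h.2))⟩
  by_cases hR : y ∈ O.R
  swap
  · exact (O.conj_out_R h1 hR h2).imp fun d h => ⟨h.1, .inr (.inr (.inl h.2))⟩
  obtain ⟨p, hp, rfl⟩ := (O.mem_pat (by decide)).1 hQ
  have h0 := (O.nf_mem (by decide)).1 hR 0 (by decide)
  rcases O.inv_D ((O.nf_mem (by decide)).2 fun j hj => if e : j = 0 then e ▸ h0 else
    if e' : j = 1 then e' ▸ (O.inv_eqs h2).2.2.1 h0 else hp j (by revert j; decide)) h2 with h | h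
  · exact (O.conj_E h).imp fun d h => ⟨h.1, h.2.imp_right .inl⟩
  · exact h.imp fun d h => ⟨h.1, .inr (.inr (.inl h.2))⟩

/-- an element of `B8` fixing a layer coordinate lies in `U` -/
theorem inv_mem_U {k : Fin 12} {S : List (Fin 12)} (h4 : k ≠ 4) (h5 : k ≠ 5) (hk : k ∉ S)
    (h1 : Cl (k :: S) (k :: S) S) (h2 : Cl (k :: S) [0, 1, 2, 3, 4, 5, 6, 7, 8, 9, 10, 11] S)
    (h3 : Cl [0, 1, 2, 3, 4, 5, 6, 7, 8, 9, 10, 11] S S) {t : K} (ht : t ≠ 0) {s x : G} (hs : s ∈ O.pat S)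
    (hx : x ∈ O.B8) (h : Commute x (O.g k t * s)) : x ∈ O.U := by
  obtain ⟨u, hu, l, rfl⟩ := O.mem_B8.1 hx
  by_cases hl : l = 1
  · rwa [hl, map_one, mul_one]
  have h6 : O.g k t * s ∈ O.pat (k :: S) :=
    mul_mem (O.g_mem (by simp) t) (O.pat_mono (fun j hj => List.mem_cons_of_mem _ hj) hs)
  have h7 := O.comm_mem h2 (fun j hj i hi => h1 j hj i (List.mem_cons_of_mem _ hi)) h3 (inv_mem h6)
    (inv_mem hu)
  refine absurd ((mul_eq_right₀ ht).1 (O.layer_inj h1 hk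
    ((mem_normalizer_iff.1 (O.h8_norm S ⟨l, rfl⟩) s).1 hs) (mul_mem hs h7) ?_)) (O.wt8_ne_one hl h4 h5)
  rw [← O.h8_g, conj_mul, ← mul_assoc (O.g k t)]
  calc _ = u⁻¹ * (u * O.h8 l * (O.g k t * s) * (u * O.h8 l)⁻¹) * u := by group
    _ = _ := by rw [h.mul_inv_cancel, commutatorElement_def]; group

theorem cent6 {t : K} (ht : t ≠ 0) {x : G} (hx : x ∈ O.C) : Commute x (O.g 6 t) ↔ x ∈ O.D3 := by
  refine ⟨fun h => ?_, fun h => O.commute_pat (B := [6]) (by decide) h (O.g_mem (by decide) t)⟩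
  have := O.charP
  have h1 : O.g 6 t ∈ O.E2 := O.g_mem (by decide) t
  obtain ⟨p, rfl⟩ := O.mem_U.1 (O.inv_mem_U (k := 6) (S := [5, 8]) (by decide) (by decide) (by decide)
    (by decide) (by decide) (by decide) ht (one_mem _) (O.mem_B8_of_E2 hx h1
      (by rwa [O.g_mem_iff (by decide) (by decide)]) (by rwa [h.mul_inv_cancel])) (by rwa [mul_one]))
  simp only [Commute, SemiconjBy, nf, nfg, O.col] at h
  obtain ⟨-, -, -, -, -, h5, -, -, h8, -⟩ := O.nf_inj h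
  refine (O.nf_mem (by decide)).2 fun j hj => ?_
  rcases (show j = 1 ∨ j = 10 by revert j; decide) with rfl | rfl <;> grind

theorem inv_W {p : Fin 12 → K} (h : p 0 = 0 ∧ p 1 = 0 ∧ p 2 = 0) : O.nf p ∈ O.W :=
  (O.nf_mem (by decide)).2 fun j hj => by
    rcases (show j = 0 ∨ j = 1 ∨ j = 2 by revert j; decide) with rfl | rfl | rfl
    exacts [h.1, h.2.1, h.2.2]

theorem cent9 {t : K} (ht : t ≠ 0) {x : G} (hx : x ∈ O.C) (h : Commute x (O.g 9 t)) : x ∈ O.W := by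
  have := O.charP
  have h1 : x ∈ O.B8 := (O.mem_C.1 hx).resolve_right fun ⟨u, hu, l, s, v, e⟩ => by
    have h1 : O.g 10 s * O.g 11 v * O.g 9 t * (O.g 10 s * O.g 11 v)⁻¹ = O.g 9 t :=
      (O.commute_pat (A := [10, 11]) (B := [9]) (by decide) (mul_mem (O.g_mem (by decide) s)
        (O.g_mem (by decide) v)) (O.g_mem (by decide) t)).mul_inv_cancel
    have h2 : u * O.h8 l * O.g 0 t * (u * O.h8 l)⁻¹ = O.g 9 t := by
      rw [← h.mul_inv_cancel, e, ← show O.n8 * O.g 9 t * O.n8⁻¹ = O.g 0 t from O.n8_g 9 (by decide) t]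
      conv_lhs => rw [← h1]
      group
    refine inv_not (O.B8_norm (S := [1, 2, 3, 4, 5, 6, 7, 8, 9, 10, 11]) (by decide)
      (O.mem_B8.2 ⟨u, hu, l, rfl⟩)) ?_ (h2 ▸ O.g_mem (by decide) t)
    rwa [O.g_mem_iff (by decide) (by decide)]
  obtain ⟨p, rfl⟩ := O.mem_U.1 (O.inv_mem_U (k := 9) (S := [2, 3, 4, 5, 6, 8]) (by decide) (by decide)
    (by decide) (by decide) (by decide) (by decide) ht (one_mem _) h1 (by rwa [mul_one]))
  simp only [Commute, SemiconjBy, nf, nfg, O.col] at h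
  obtain ⟨-, -, -, h3, -, h5, h6, -⟩ := O.nf_inj h
  have h0 : p 0 = 0 := (map_eq_zero σ).1 (by grind)
  have h1 : p 1 = 0 := (map_eq_zero σ).1 (by grind)
  exact O.inv_W ⟨h0, h1, by grind⟩

theorem cent11 {s t : K} (ht : t ≠ 0) {x : G} (hx : x ∈ O.C) (h : Commute x (O.g 5 s * O.g 11 t)) :
    x ∈ O.W := by
  have := O.charP
  have h1 : x ∈ O.B8 := (O.mem_C.1 hx).resolve_right fun ⟨u, hu, l, a, b, e⟩ => by
    have h1 : O.g 10 a * O.g 11 b ∈ O.U := mul_mem (O.g_mem_U _ _) (O.g_mem_U _ _)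
    have h2 : O.g 5 s * O.g 11 t ∈ O.U := mul_mem (O.g_mem_U _ _) (O.g_mem_U _ _)
    have h3 := O.mem_B8.2 ⟨u, hu, l, rfl⟩
    refine inv_not (O.C_norm_Q (O.U_le_C h1)) ?_ (O.inf_n8 (mul_mem (mul_mem h1 h2) (inv_mem h1)) ?_)
    · rwa [mul_mem_cancel_left (O.g_mem (by decide) s), O.g_mem_iff (by decide) (by decide)]
    · have h4 := mul_mem (mul_mem (inv_mem h3) (le_sup_left (a := O.U) h2)) h3
      rw [← h.mul_inv_cancel, e] at h4
      convert h4 using 1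
      group
  obtain ⟨p, rfl⟩ := O.mem_U.1 (O.inv_mem_U (k := 11) (S := [0, 1, 2, 3, 4, 5, 6, 7, 8, 9]) (by decide)
    (by decide) (by decide) (by decide) (by decide) (by decide) ht (O.g_mem (j := 5) (by decide) s) h1
    (by rwa [O.r5_11]))
  simp only [Commute, SemiconjBy, nf, nfg, O.col] at h
  obtain ⟨-, -, -, -, -, -, h6, h7, -, h9, -⟩ := O.nf_inj h
  have h0 : p 0 = 0 := by grind
  exact O.inv_W ⟨h0, by grind, by grind⟩

theorem z2_D3 {w : G} (hw : w ∈ O.D3) (h : ∀ d ∈ O.D3, ⁅w, d⁆ ∈ O.pat [5, 6]) :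
    w ∈ O.E2 ∨ (Two K ∧ ⁅w, O.g 9 1⁆ = O.τ) := by
  have := O.charP
  obtain ⟨p, hp, rfl⟩ := (O.mem_pat (by decide)).1 hw
  have h1 := hp 1 (by decide)
  have h10 := hp 10 (by decide)
  have key : ∀ j ∈ [0, 4, 11], ∀ u, ∃ a b, O.nf p * O.g j u = O.g 5 a * O.g 6 b * O.g j u * O.nf p :=
    fun j hj u => by
      obtain ⟨q, hq, e⟩ := (O.mem_pat (by decide)).1 (h _ (O.g_mem (j := j) (by revert j; decide) u))
      rw [show O.nf q = O.g 5 (q 5) * O.g 6 (q 6) by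
        simp (disch := decide) only [nf, nfg, hq, O.g_zero, one_mul, mul_one]] at e
      exact ⟨_, _, by rw [← e, commutatorElement_def, inv_mul_cancel_right, inv_mul_cancel_right]⟩
  obtain ⟨a, b, e⟩ := key 0 (by decide) 1
  simp only [nf, nfg, O.col] at e
  obtain ⟨-, -, a2, a3, a4, -⟩ := O.nf_inj e
  have h11 : p 11 = 0 := by grind
  obtain ⟨a, b, e⟩ := key 4 (by decide) 1
  simp only [nf, nfg, O.col] at e
  obtain ⟨-, -, b2, -, -, -, -, -, b8, -⟩ := O.nf_inj e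
  have h0 : p 0 = 0 := by grind
  have h9 : p 9 = 0 := by grind
  have h7 : p 7 = 0 := (map_eq_zero σ).1 (by simp only [h11, h10, O.col] at a3; grind)
  have h4 : p 4 = 0 := by grind
  have h8 : ∀ u, p 2 * σ u = p 3 * u := fun u => by
    obtain ⟨a, b, e⟩ := key 11 (by decide) u
    simp only [nf, nfg, O.col] at e
    obtain ⟨-, -, -, -, -, -, -, -, c8, -⟩ := O.nf_inj e
    grind
  have h3 : p 3 = p 2 := by simpa using (h8 1).symm
  by_cases h2 : p 2 = 0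
  · left
    simp only [nf, nfg, h0, h1, h2, h3, h4, h7, h9, h10, h11, O.col]
    repeat' first | exact O.g_mem (by decide) _ | apply mul_mem
  have h5 : Two K := fun u => O.fix_sig (mul_left_cancel₀ h2 (h3 ▸ h8 u))
  refine .inr ⟨h5, ?_⟩
  rw [← inv_mul_eq_one]
  simp only [commutatorElement_def, nf, nfg, h0, h1, (h5 _).resolve_left h2, h3, h4, h7, h9, h10, h11, O.col]
  repeat' first | apply O.z_mul | apply O.z_one
  all_goals grind

theorem center_D3 {w : G} (hw : w ∈ O.D3) (h : ∀ d ∈ O.D3, Commute w d) : w ∈ O.pat [5, 6] := by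
  have := O.charP
  rcases O.z2_D3 hw fun d hd => by rw [(h d hd).commutator_eq]; exact one_mem _ with h1 | ⟨-, h1⟩
  · obtain ⟨p, hp, rfl⟩ := (O.mem_pat (by decide)).1 h1
    have h2 := h _ (O.g_mem (j := 0) (by decide) 1)
    rw [Commute, SemiconjBy, ← inv_mul_eq_one] at h2
    simp (disch := decide) only [nf, nfg, hp, O.col] at h2
    refine (O.nf_mem (by decide)).2 fun j hj => if e : j = 8 then e ▸ ?_ else hp j (by revert j; decide)
    have := O.g_eq_one.1 h2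
    grind
  · exact absurd (h1.symm.trans (h _ (O.g_mem (by decide) 1)).commutator_eq) O.τ_ne

end OC

end CfsgLib.F42
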