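import Mathlib
import Cfsg.Agent.Lib.F42.Inv
import Cfsg.Agent.Lib.Tech.SylowIn

/-! # F42: fusion of `τ` (package FUS1) -/

set_option autoImplicit false
set_option Elab.async false
set_option linter.unusedSectionVars false

namespace CfsgLib.F42

open Subgroup CfsgLib.Tech
open scoped commutatorElement

variable {K : Type*} [Field K] [Finite K] {G : Type*} [Group G] [Finite G] {σ : K →+* K} {sz : Sz K}

theorem fus_two_conj {x : G} (g : G) (h : ∃ k, x ^ 2 ^ k = 1) : ∃ k, (g * x * g⁻¹) ^ 2 ^ k = 1 :=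
  h.imp fun k hk => by rw [conj_pow, hk]; simp

theorem fus_comm {g a b : G} (h : Commute a (g * b * g⁻¹)) : Commute (g⁻¹ * a * g) b := by
  simpa [mul_assoc] using h.conj g⁻¹

theorem OC.fus_two (O : OC σ sz G) {x : G} (h : x ∈ O.U) : ∃ k, x ^ 2 ^ k = 1 :=
  isPGroup_iff_mem.1 (O.isPGroup_pat _) x h

theorem OC.fus_fix (O : OC σ sz G) {c z : G} (hc : c ∈ O.C) (hz : z ∈ O.Z) : c * z * c⁻¹ = z :=
  (O.C_cent_Z hc hz).mul_inv_cancel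

theorem OC.fus_card (O : OC σ sz G) {S T : List (Fin 12)} (hS : Cl S S S) (hT : Cl T T T)
    (nS : S.Nodup) (nT : T.Nodup) (h : S.length < T.length) : Nat.card (O.pat S) < Nat.card (O.pat T) := by
  rw [O.card_pat hS nS, O.card_pat hT nT]
  exact Nat.pow_lt_pow_right Finite.one_lt_card h

namespace OC.Hyp

variable {O : OC σ sz G} (H : O.Hyp)
include H

theorem two' {x : G} (h : Commute x O.τ) (h2 : ∃ k, x ^ 2 ^ k = 1) : x ∈ O.C :=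
  H.two x (mem_centralizer_singleton_iff.2 h) h2

theorem norm_of_mem_Z {x : G} (h : x * O.τ * x⁻¹ ∈ O.Z) : x ∈ normalizer (O.C : Set G) := by
  refine (inv_mem_iff (x := x)).1 (mem_normalizer_of_forall fun c hc => ?_)
  refine O.C_le_of_two (P := O.C.comap (MulAut.conj x⁻¹).toMonoidHom) (fun c hc h2 => ?_) hc
  exact H.two' (by simpa using fus_comm (O.C_cent_Z hc h)) (fus_two_conj _ h2)

theorem exists_conj {P : Subgroup G} (hP : IsPGroup 2 P) {L : Subgroup G} (hL : P ≤ L) (hU : O.U ≤ L) :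
    ∃ l ∈ L, ∀ x ∈ P, l * x * l⁻¹ ∈ O.U := by
  obtain ⟨T, h1, h2⟩ := exists_isSylowIn_ge hP hL
  obtain ⟨T', h3, h4⟩ := exists_isSylowIn_ge (O.isPGroup_pat _) hU
  obtain ⟨l, h5, h6⟩ := h1.exists_cj_eq h3
  exact ⟨l, h5, fun x hx => H.syl T' h3.pgroup h4 ▸ h6 ▸ conj_mem_cj.2 (h2 hx)⟩

theorem two_norm {x : G} (hx : x ∈ normalizer (O.C : Set G)) (h2 : ∃ k, x ^ 2 ^ k = 1) : x ∈ O.C := by
  obtain ⟨k, hk⟩ := h2
  obtain ⟨l, h1, h2⟩ := H.exists_conj (isPGroup_zpowers_of_pow hk) (zpowers_le.2 hx)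
    (O.U_le_C.trans le_normalizer)
  simpa [mul_assoc] using conj_mem_of_mem_normalizer' h1 (O.U_le_C (h2 x (mem_zpowers x)))

theorem conj_mem_C {x : G} (h : x * O.τ * x⁻¹ ∈ O.C) : x⁻¹ * O.τ * x ∈ O.C :=
  H.two' (fus_comm (O.C_cent_Z h O.τ_mem).symm)
    (by simpa using fus_two_conj x⁻¹ (O.fus_two (O.g_mem_U 5 1)))

/-- (T) -/
theorem transfer {x d : G} (hd : d ∈ O.U) (h : Commute d (x * O.τ * x⁻¹)) :
    x⁻¹ * d * x ∈ O.C ∧ Commute (x⁻¹ * d * x) (x⁻¹ * O.τ * x) :=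
  ⟨H.two' (fus_comm h) (by simpa using fus_two_conj x⁻¹ (O.fus_two hd)),
    by simpa using (O.C_cent_Z (O.U_le_C hd) O.τ_mem).conj x⁻¹⟩

theorem not_conj6 {t : K} (ht : t ≠ 0) (x : G) : x * O.τ * x⁻¹ ≠ O.g 6 t := fun h => by
  have c6 := fun {y} hy => (O.cent6 ht (x := y) (O.pat_le_C _ hy)).2 hy
  obtain ⟨T, h1, h2⟩ := exists_isSylowIn_ge (H := centralizer {O.g 6 t}) (O.isPGroup_pat _)
    fun y hy => mem_centralizer_singleton_iff.2 (c6 hy)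
  obtain ⟨T', h3, h4⟩ := exists_isSylowIn_ge (H := centralizer {O.g 6 t})
    (isPGroup_cj x (O.isPGroup_pat [0, 1, 2, 3, 4, 5, 6, 7, 8, 9, 10, 11])) (cj_le_iff.2 fun y hy =>
      mem_centralizer_singleton_iff.2 (h ▸ (O.C_cent_Z (O.U_le_C hy) O.τ_mem).conj x))
  obtain ⟨n, h5, h6, h7⟩ := exists_mem_normalizer_of_lt h1.pgroup (h2.lt_of_ne fun e => by
    have h5 := card_le_of_le h4
    rw [card_cj, ← h1.card_eq h3, ← e] at h5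
    exact h5.not_gt (O.fus_card (by decide) (by decide) (by decide) (by decide) (by decide)))
  have h8 : ∀ d ∈ O.D3, ∃ z ∈ O.Z, ⁅n * O.g 8 1 * n⁻¹, d⁆ = n * z * n⁻¹ := fun d hd =>
    ⟨_, O.comm_mem (A := [8]) (by decide) (by decide) (by decide) (O.g_mem (j := 8) (by decide) 1)
      (conj_mem_of_mem_normalizer' h7 hd), by simp only [commutatorElement_def]; group⟩
  have h9 : n * O.τ * n⁻¹ ∈ O.Z := by
    rcases O.z2_D3 (conj_mem_of_mem_normalizer h7 (O.g_mem (j := 8) (by decide) 1)) fun d hd => by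
      obtain ⟨z, hz, e⟩ := h8 d hd
      refine e ▸ O.center_D3 (conj_mem_of_mem_normalizer h7 (O.pat_mono (by decide) hz)) fun e he => ?_
      simpa [mul_assoc] using
        ((O.C_cent_Z (O.pat_le_C _ (conj_mem_of_mem_normalizer' h7 he)) hz).conj n).symm
      with h9 | ⟨h9, h10⟩
    · have h10 : ⁅n * O.g 8 1 * n⁻¹, n * O.g 0 1 * n⁻¹⁆ ∈ O.Z := O.comm_mem (by decide) (by decide)
        (by decide) h9 (conj_mem_of_mem_normalizer h7 (O.g_mem (by decide) 1))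
      rwa [← conjugate_commutatorElement, show ⁅O.g 8 1, O.g 0 1⁆ = O.τ by
        simp only [commutatorElement_def, O.col]] at h10
    · obtain ⟨z, hz, e⟩ := h8 _ (O.g_mem (j := 9) (by decide) 1)
      obtain ⟨s, rfl⟩ := O.mem_Z.1 hz
      rw [h10] at e
      rcases h9 s with rfl | rfl
      · exact absurd (by simpa [O.g_zero] using e) O.τ_ne
      · exact e ▸ O.τ_mem
  exact h6 ((O.cent6 ht (H.two_norm (H.norm_of_mem_Z h9) (isPGroup_iff_mem.1 h1.pgroup n h5))).1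
    (mem_centralizer_singleton_iff.1 (h1.le h5)))

theorem not_mem_Z {x : G} (h : x * O.τ * x⁻¹ ∉ O.Z) : x⁻¹ * O.τ * x⁻¹⁻¹ ∉ O.Z := fun e =>
  h (conj_mem_of_mem_normalizer (O.norm_QE (inv_mem_iff.1 (H.norm_of_mem_Z e))).2.2.2 O.τ_mem)

/-- standardise `x⁻¹ τ x` -/
theorem exists_std {x : G} (h : x * O.τ * x⁻¹ ∈ O.C) : ∃ c ∈ O.C, x * c * O.τ * (x * c)⁻¹ = x * O.τ * x⁻¹ ∧
    ((x * c)⁻¹ * O.τ * (x * c) ∈ O.V ∨ (∃ t, t ≠ 0 ∧ (x * c)⁻¹ * O.τ * (x * c) = O.g 9 t) ∨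
      ∃ s t, t ≠ 0 ∧ (x * c)⁻¹ * O.τ * (x * c) = O.g 5 s * O.g 11 t) := by
  obtain ⟨c, hc, h1⟩ := O.classes (H.conj_mem_C h) (by
    rw [← inv_inv x, inv_inv x⁻¹, conj_mul, O.τ_sq]; simp)
  rw [show c * (x⁻¹ * O.τ * x) * c⁻¹ = (x * c⁻¹)⁻¹ * O.τ * (x * c⁻¹) by group] at h1
  refine ⟨c⁻¹, inv_mem hc, by rw [← O.fus_fix (inv_mem hc) O.τ_mem, O.fus_fix (inv_mem hc) O.τ_mem,
    mul_inv_rev, ← mul_assoc, mul_assoc x, mul_assoc x, O.fus_fix (inv_mem hc) O.τ_mem], ?_⟩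
  rcases h1 with e | ⟨t, ht, e⟩ | e
  exacts [.inl e, absurd (by rwa [inv_inv]) (H.not_conj6 ht (x * c⁻¹)⁻¹), .inr e]

theorem mem_W {x d : G} (hd : d ∈ O.U) (h : Commute d (x * O.τ * x⁻¹))
    (hx : (∃ t, t ≠ 0 ∧ x⁻¹ * O.τ * x = O.g 9 t) ∨ ∃ s t, t ≠ 0 ∧ x⁻¹ * O.τ * x = O.g 5 s * O.g 11 t) :
    x⁻¹ * d * x ∈ O.W := by
  obtain ⟨h1, h2⟩ := H.transfer hd h
  rcases hx with ⟨t, ht, e⟩ | ⟨s, t, ht, e⟩
  exacts [O.cent9 ht h1 (e ▸ h2), O.cent11 ht h1 (e ▸ h2)]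

theorem norm_R_of_V {x : G} (h : x * O.τ * x⁻¹ ∈ O.V) (h' : x * O.τ * x⁻¹ ∉ O.Z) :
    ∃ c ∈ O.C, x * c ∈ normalizer (O.R : Set G) := by
  obtain ⟨c, hc, h1, h2⟩ := H.exists_std (O.pat_le_C _ h)
  refine ⟨c, hc, ?_⟩
  rw [← h1] at h h'
  generalize x * c = y at *
  rcases h2 with h2 | h2
  · refine (inv_mem_iff (x := y)).1 (mem_normalizer_of_forall fun r hr => ?_)
    obtain ⟨h3, h4⟩ := H.transfer (O.pat_le_U _ hr) (O.R_cent_V hr h)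
    rw [inv_inv]
    exact O.cent_V h3 h2 (by simpa using H.not_mem_Z h') h4
  · have h3 := card_le_of_le (le_cj_iff.2 fun r hr => H.mem_W (O.pat_le_U _ hr) (O.R_cent_V hr h) h2)
    rw [card_cj] at h3
    exact absurd h3 (O.fus_card (by decide) (by decide) (by decide) (by decide) (by decide)).not_ge

theorem exists_V (hB : O.CaseB) : ∃ x ∈ normalizer (O.R : Set G), x * O.τ * x⁻¹ ∉ O.Z := by
  have fin : ∀ y, y * O.τ * y⁻¹ ∈ O.V → y * O.τ * y⁻¹ ∉ O.Z →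
      ∃ x ∈ normalizer (O.R : Set G), x * O.τ * x⁻¹ ∉ O.Z := fun y h1 h2 => by
    obtain ⟨c, hc, h3⟩ := H.norm_R_of_V h1 h2
    refine ⟨_, h3, ?_⟩
    rwa [mul_inv_rev, ← mul_assoc, mul_assoc y, mul_assoc y, O.fus_fix hc O.τ_mem]
  obtain ⟨x, h1, h2⟩ := hB
  obtain ⟨c, -, h3, h4⟩ := H.exists_std (x := x⁻¹) (by simpa using H.conj_mem_C h1)
  have h5 := H.not_mem_Z (h3 ▸ H.not_mem_Z h2)
  obtain ⟨c', -, h6, h7⟩ := H.exists_std (x := (x⁻¹ * c)⁻¹) (by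
    rw [inv_inv]
    rcases h4 with e | ⟨t, -, e⟩ | ⟨s, t, -, e⟩
    exacts [O.pat_le_C _ e, e ▸ O.g_mem_C _ _, e ▸ mul_mem (O.g_mem_C _ _) (O.g_mem_C _ _)])
  rw [← h6] at h5
  rw [inv_inv] at h6
  rw [← h6] at h4
  generalize (x⁻¹ * c)⁻¹ * c' = y at *
  rcases h4 with h4 | h4
  · exact fin y h4 h5
  rcases h7 with h7 | h7
  · exact fin y⁻¹ (by rwa [inv_inv]) (H.not_mem_Z h5)
  obtain ⟨d₁, d₂, d₃, u₁, u₂, u₃, c₁, c₂, c₃, e⟩ : ∃ d₁ d₂ d₃, d₁ ∈ O.U ∧ d₂ ∈ O.U ∧ d₃ ∈ O.U ∧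
      Commute d₁ (y * O.τ * y⁻¹) ∧ Commute d₂ (y * O.τ * y⁻¹) ∧ Commute d₃ (y * O.τ * y⁻¹) ∧
      ⁅⁅d₁, d₂⁆, d₃⁆ = O.g 8 1 := by
    rcases h4 with ⟨t, -, e⟩ | ⟨s, t, -, e⟩ <;> rw [e]
    · refine ⟨O.g 3 1, O.g 10 1, O.g 10 1, O.g_mem_U _ _, O.g_mem_U _ _, O.g_mem_U _ _, ?_, ?_, ?_, ?_⟩ <;>
        simp only [Commute, SemiconjBy, commutatorElement_def, O.col]
    · refine ⟨O.g 4 1, O.g 7 1, O.g 10 1, O.g_mem_U _ _, O.g_mem_U _ _, O.g_mem_U _ _, ?_, ?_, ?_, ?_⟩ <;>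
        simp only [Commute, SemiconjBy, commutatorElement_def, O.col]
  have h8 : ⁅⁅y⁻¹ * d₁ * y, y⁻¹ * d₂ * y⁆, y⁻¹ * d₃ * y⁆ ∈ O.Z6 :=
    O.comm_mem (A := [5, 6, 8, 9, 11]) (by decide) (by decide) (by decide) (O.comm_mem (by decide)
      (by decide) (by decide) (H.mem_W u₁ c₁ h7) (H.mem_W u₂ c₂ h7)) (H.mem_W u₃ c₃ h7)
  rw [show ⁅⁅y⁻¹ * d₁ * y, y⁻¹ * d₂ * y⁆, y⁻¹ * d₃ * y⁆ = y⁻¹ * ⁅⁅d₁, d₂⁆, d₃⁆ * y by
    simp only [commutatorElement_def]; group, e] at h8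
  obtain ⟨r, hr⟩ := O.mem_Z6.1 h8
  obtain ⟨k, hk⟩ : ∃ k, k * (y⁻¹ * O.τ * y) * k⁻¹ = y⁻¹ * O.τ * y * O.g 8 r := by
    rcases h7 with ⟨t, ht, e⟩ | ⟨s, t, ht, e⟩ <;> rw [e]
    · exact ⟨O.g 4 (r / t), by simp only [O.col, div_mul_cancel₀ r ht]⟩
    · exact ⟨O.g 3 (r / t), by simp only [O.col, div_mul_cancel₀ r ht]⟩
  have h9 : y * k * y⁻¹ * O.τ * (y * k * y⁻¹)⁻¹ = O.τ * O.g 8 1 := by
    calc _ = y * (k * (y⁻¹ * O.τ * y) * k⁻¹) * y⁻¹ := by group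
      _ = _ := by rw [hk, ← hr]; group
  refine fin (y * k * y⁻¹) (h9 ▸ mul_mem (O.g_mem (by decide) 1) (O.g_mem (by decide) 1)) fun h => ?_
  rw [h9, mul_mem_cancel_left O.τ_mem, O.g_mem_iff (by decide) (by decide)] at h
  exact one_ne_zero h

end OC.Hyp

end CfsgLib.F42
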