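import Mathlib
import Cfsg.Agent.Lib.F42.Fus1
import Cfsg.Agent.Lib.F42.Aut
import Cfsg.Agent.S0215
import Cfsg.Agent.S1173
import Cfsg.Agent.Lib.Invol.Dihedral
import Cfsg.Agent.Lib.Core.Cores

/-! # F42: the action of `N(R)` on `V`, and the weakly closed case (package FUS2) -/

set_option autoImplicit false
set_option Elab.async false
set_option linter.unusedSectionVars false

namespace CfsgLib.F42

open Subgroup CfsgLib.Tech
open scoped commutatorElement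

variable {K : Type*} [Field K] [Finite K] {G : Type*} [Group G] [Finite G] {σ : K →+* K} {sz : Sz K}

theorem OC.fus_a1 (O : OC σ sz G) (r s t : K) :
    O.g 0 r * (O.g 5 s * O.g 8 t) * (O.g 0 r)⁻¹ = O.g 5 (s + r * t) * O.g 8 t := by
  simp only [O.col]

theorem OC.fus_a1_R (O : OC σ sz G) (r : K) : O.g 0 r ∈ normalizer (O.R : Set G) :=
  O.pat_norm (A := [0]) (by decide) (O.g_mem (by decide) r)

namespace OC.Hyp

variable {O : OC σ sz G} (H : O.Hyp)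
include H

theorem ti {x : G} (hx : x ∈ normalizer (O.R : Set G)) (hC : x ∉ normalizer (O.C : Set G)) {z : G} (hz : z ∈ O.Z) (h : x * z * x⁻¹ ∈ O.Z) :
    z = 1 := by
  obtain ⟨s, t, h1⟩ := O.mem_V.1 (conj_mem_of_mem_normalizer (O.norm_V hx) (O.g_mem (by decide) 1 : O.τ ∈ _))
  have ht : t ≠ 0 := fun e => hC (H.norm_of_mem_Z (by
    rw [h1, e, O.g_zero, mul_one]; exact O.g_mem (by decide) s))
  obtain ⟨r, h2⟩ := O.mem_Z.1 h
  have h3 : x⁻¹ * O.g 0 (r / t) * x * O.τ * (x⁻¹ * O.g 0 (r / t) * x)⁻¹ = z * O.τ := by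
    calc _ = x⁻¹ * (O.g 0 (r / t) * (x * O.τ * x⁻¹) * (O.g 0 (r / t))⁻¹) * x := by group
      _ = x⁻¹ * (x * z * x⁻¹ * (x * O.τ * x⁻¹)) * x := by
        rw [h1, h2, O.fus_a1, div_mul_cancel₀ r ht, ← mul_assoc (O.g 5 r), O.a5, add_comm]
      _ = _ := by group
  have h4 := H.two_norm (H.norm_of_mem_Z (h3 ▸ mul_mem hz O.τ_mem))
    (by simpa using fus_two_conj x⁻¹ (O.fus_two (O.g_mem_U 0 (r / t))))
  rw [O.fus_fix h4 O.τ_mem] at h3
  exact (mul_eq_right.1 h3.symm)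

/-- the conjugates of `Z` under `N(R)` are `Z` and the conjugates of `Z6` under `U1` -/
theorem part {x : G} (hx : x ∈ normalizer (O.R : Set G)) (hC : x ∉ normalizer (O.C : Set G)) :
    ∃ s, ∀ z ∈ O.Z, O.g 0 s * x * z * (O.g 0 s * x)⁻¹ ∈ O.Z6 := by
  have := O.charP
  let P : K → K → Prop := fun a t => ∃ z ∈ O.Z, x * z * x⁻¹ = O.g 5 a * O.g 8 t
  have hV : ∀ z ∈ O.Z, ∃ a t, x * z * x⁻¹ = O.g 5 a * O.g 8 t := fun z hz =>
    O.mem_V.1 (conj_mem_of_mem_normalizer (O.norm_V hx) (O.pat_mono (by decide) hz))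
  have add : ∀ a t a' t', P a t → P a' t' → P (a + a') (t + t') := by
    rintro a t a' t' ⟨z, hz, e⟩ ⟨z', hz', e'⟩
    exact ⟨_, mul_mem hz hz', by rw [← conj_mul, e, e']; simp only [O.col]⟩
  have zero : ∀ a z, z ∈ O.Z → x * z * x⁻¹ = O.g 5 a * O.g 8 0 → z = 1 := fun a z hz e =>
    H.ti hx hC hz (by rw [e, O.g_zero, mul_one]; exact O.g_mem (by decide) a)
  have uniq : ∀ a a' t, P a t → P a' t → a = a' := fun a a' t h1 h2 => by
    obtain ⟨z, hz, e⟩ := add _ _ _ _ h1 h2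
    rw [O.add_self] at e
    rw [zero _ z hz e, O.g_zero, mul_one, mul_one, mul_inv_cancel, eq_comm, O.g_eq_one] at e
    exact O.add_eq_zero.1 e
  have tot : ∀ t, ∃ a, P a t := fun t => by
    choose α β h using fun u => hV _ (O.g_mem (by decide) u : O.g 5 u ∈ _)
    obtain ⟨u, rfl⟩ := Finite.surjective_of_injective (f := β) (fun u v e => by
      refine O.add_eq_zero.1 (O.g_eq_one.1 (zero (α u + α v) _ (O.g_mem (by decide) _ : O.g 5 _ ∈ _) ?_))
      rw [← O.a5, ← conj_mul, h, h, e]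
      simp only [O.col]) t
    exact ⟨_, _, O.g_mem (by decide) u, h u⟩
  choose f hf using tot
  have mul : ∀ μ, μ ≠ 0 → ∃ c, ∀ t, f (μ * t) = f t + c * t := fun μ hμ => by
    obtain ⟨l, hl⟩ := O.wt8_surj (j := 8) (by decide) (by decide) hμ
    have h1 : ∀ a t, O.h8 l * (O.g 5 a * O.g 8 t) * (O.h8 l)⁻¹ = O.g 5 a * O.g 8 (μ * t) := fun a t => by
      rw [← conj_mul, O.fus_fix (O.h8_mem_C l) (O.g_mem (by decide) a), O.h8_g, hl]
    set s := (f 1 + f μ) / μ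
    have h2 : ∀ z a t, x * z * x⁻¹ = O.g 5 a * O.g 8 t → x * (x⁻¹ * (O.g 0 s * O.h8 l) * x * z *
        (x⁻¹ * (O.g 0 s * O.h8 l) * x)⁻¹) * x⁻¹ = O.g 5 (a + s * μ * t) * O.g 8 (μ * t) :=
      fun z a t e => by
        rw [mul_assoc s, ← O.fus_a1, ← h1, ← e]; group
    obtain ⟨z₁, h3, h4⟩ := hf 1
    obtain ⟨z₂, h5, h6⟩ := hf μ
    have h7 := h2 _ _ _ h4
    rw [div_mul_cancel₀ _ hμ, mul_one, mul_one, ← add_assoc, O.add_self, zero_add, ← h6,
      mul_left_inj, mul_right_inj] at h7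
    have h8 : x⁻¹ * (O.g 0 s * O.h8 l) * x ∈ normalizer (O.C : Set G) := by
      by_contra h8
      rw [H.ti (mul_mem (mul_mem (inv_mem hx) (mul_mem (O.fus_a1_R s) (O.h8_norm _ ⟨l, rfl⟩))) hx) h8 h3
        (h7 ▸ h5), mul_one, mul_inv_cancel, eq_comm, mul_eq_one_iff_inv_eq] at h4
      exact one_ne_zero ((O.g_mem_iff (S := [5]) (by decide) (by decide)).1
        (h4 ▸ inv_mem (O.g_mem (by decide) _)))
    refine ⟨s * μ, fun t => ?_⟩
    obtain ⟨z, h9, h10⟩ := hf t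
    exact uniq _ _ _ (hf _) ⟨_, conj_mem_of_mem_normalizer (O.norm_QE h8).2.2.2 h9, h2 _ _ _ h10⟩
  have fadd : ∀ t u, f (t + u) = f t + f u := fun t u => uniq _ _ _ (hf _) (add _ _ _ _ (hf t) (hf u))
  have lin : ∀ t, f t = f 1 * t := fun t => by
    by_cases h0 : t = 0
    · have := fadd 0 0
      grind
    by_cases h1 : t = 1
    · rw [h1, mul_one]
    obtain ⟨c, hc⟩ := mul t h0
    obtain ⟨c', hc'⟩ := mul (t + 1) fun e => h1 (O.add_eq_zero.1 e)
    have h2 := hc 1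
    have h3 := hc t
    have h4 := hc' 1
    have h5 := hc' t
    rw [add_mul, one_mul, fadd] at h5
    rw [mul_one, fadd] at h4
    rw [mul_one] at h2
    grind
  refine ⟨f 1, fun z hz => ?_⟩
  obtain ⟨a, t, e⟩ := hV z hz
  rw [show O.g 0 (f 1) * x * z * (O.g 0 (f 1) * x)⁻¹ = O.g 0 (f 1) * (x * z * x⁻¹) * (O.g 0 (f 1))⁻¹ by
    group, e, O.fus_a1, uniq _ _ _ ⟨z, hz, e⟩ (hf t), ← lin, O.add_self, O.g_zero, one_mul]
  exact O.g_mem (by decide) t

theorem exists_sw (hB : O.CaseB) : ∃ w, O.Sw w := by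
  obtain ⟨x, hx, h1⟩ := H.exists_V hB
  have hC : x ∉ normalizer (O.C : Set G) := fun e =>
    h1 (conj_mem_of_mem_normalizer (O.norm_QE e).2.2.2 O.τ_mem)
  obtain ⟨s, hs⟩ := H.part hx hC
  have h2 := mul_mem (O.fus_a1_R s) hx
  obtain ⟨r, hr⟩ := H.part (inv_mem h2) fun e =>
    hC ((mul_mem_cancel_left (le_normalizer (O.g_mem_C 0 s))).1 (inv_mem_iff.1 e))
  generalize O.g 0 s * x = w at *
  refine ⟨(O.g 0 r * w⁻¹)⁻¹, inv_mem (mul_mem (O.fus_a1_R r) (inv_mem h2)), fun z hz => ?_,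
    fun z hz => ?_⟩
  · have := hs z hz
    rw [← O.fus_fix (inv_mem (O.g_mem_C 0 r)) hz] at this
    convert this using 1
    group
  · rw [inv_inv, ← mem_cj, eq_of_le_of_card_ge (cj_le_iff.2 hr) ?_]
    · exact hz
    · rw [card_cj, O.card_pat (by decide) (by decide), O.card_pat (by decide) (by decide)]; rfl

theorem closedA (hA : ¬ O.CaseB) {z : G} (hz : z ∈ O.Z) (x : G) (h : x * z * x⁻¹ ∈ O.U) :
    x * z * x⁻¹ ∈ O.Z := by
  obtain ⟨n, hn⟩ := fus_two_conj x⁻¹ (O.fus_two (O.g_mem_U 5 1))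
  obtain ⟨k, h1, h2⟩ := H.exists_conj (L := centralizer {z}) (isPGroup_zpowers_of_pow hn)
    (zpowers_le.2 (mem_centralizer_singleton_iff.2 (by
      rw [inv_inv]; exact fus_comm (O.C_cent_Z (O.U_le_C h) O.τ_mem).symm)))
    fun u hu => mem_centralizer_singleton_iff.2 (O.C_cent_Z (O.U_le_C hu) hz)
  have h3 := h2 _ (mem_zpowers _)
  rw [show k * (x⁻¹ * O.g 5 1 * x⁻¹⁻¹) * k⁻¹ = k * x⁻¹ * O.τ * (k * x⁻¹)⁻¹ by group] at h3
  have h4 := conj_mem_of_mem_normalizer' (O.norm_QE (H.norm_of_mem_Z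
    (by_contra fun e => hA ⟨_, O.U_le_C h3, e⟩))).2.2.2 hz
  rw [← Commute.mul_inv_cancel (mem_centralizer_singleton_iff.1 h1)] at h4
  convert h4 using 1
  group

/-- `U` as a Sylow subgroup -/
def sylU : Sylow 2 G := ⟨O.U, O.isPGroup_pat _, fun hQ h => H.syl _ hQ h⟩

theorem caseA_big (hq : Big K) (hA : ¬ O.CaseB) (hO : Cfsg.oddCore G = ⊥) : O.Z.Normal := by
  have h1 := Cfsg.Agent.S1173.result hO H.sylU O.Z ⟨O.pat_le_U _, fun z hz x h => H.closedA hA hz x h⟩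
  have h2 : O.C ≤ centralizer (O.Z : Set G) := fun c hc z hz => (O.C_cent_Z hc hz).symm
  have h3 : ∀ n, O.C ≤ (derivedSeries (centralizer (O.Z : Set G)) n).map (Subgroup.subtype _) := fun n => by
    induction n with
    | zero => rwa [derivedSeries_zero, ← MonoidHom.range_eq_map, range_subtype]
    | succ n ih => rw [derivedSeries_succ, map_commutator, ← O.perfect hq]; exact commutator_mono ih ih
  refine normalizer_eq_top_iff.1 (eq_top_iff.2 fun g _ => (O.norm_QE (mem_normalizer_of_forall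
    fun c hc => O.C_le_of_two (P := O.C.comap (MulAut.conj g).toMonoidHom) (fun c hc h4 => ?_) hc)).2.2.2)
  have h5 := map_subtype_le _ (h1.conj_mem c ⟨⟨c, h2 hc⟩, mem_iInf.2 fun n => by
    obtain ⟨d, h5, h6⟩ := h3 n hc
    exact (Subtype.ext h6 : d = ⟨c, h2 hc⟩) ▸ h5, rfl⟩ g)
  exact H.two' (h5 _ O.τ_mem).symm (fus_two_conj g h4)

theorem caseA_two (h2 : Two K) (hA : ¬ O.CaseB) : Cfsg.oddCore G ⊔ O.C = ⊤ := by
  obtain ⟨N, hN, h1, h3⟩ := Cfsg.Agent.S0215.result H.sylU O.τ (Invol.orderOf_eq_two O.τ_ne O.τ_sq)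
    (O.g_mem_U 5 1) fun g hg => by
      obtain ⟨t, ht⟩ := O.mem_Z.1 (H.closedA hA O.τ_mem g hg)
      rcases h2 t with rfl | rfl
      · rw [O.g_zero, conj_eq_one_iff] at ht
        exact absurd ht O.τ_ne
      · exact ht
  refine eq_top_iff.2 fun g _ => ?_
  have h4 : O.τ * (g * O.τ * g⁻¹) ∈ N := by
    have := h3 g
    rwa [inv_eq_of_mul_eq_one_right O.τ_sq, mul_assoc, mul_assoc, ← mul_assoc g] at this
  obtain ⟨k, hk⟩ := Invol.exists_pow_conj_of_odd O.τ_sq (by rw [conj_mul, O.τ_sq]; simp)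
    (h1.of_dvd_nat (N.orderOf_dvd_natCard h4))
  have h5 : N ≤ Cfsg.oddCore G := Core.le_pPrimeCore (Nat.coprime_two_right.2 h1)
  have h6 := pow_mem h4 k
  generalize (O.τ * (g * O.τ * g⁻¹)) ^ k = m at *
  rw [← mul_inv_cancel_left m g]
  refine mul_mem_sup (h5 h6) (H.cent_two h2 (mul_inv_eq_iff_eq_mul.1 ?_))
  calc _ = m⁻¹ * (g * O.τ * g⁻¹) * m := by group
    _ = _ := by rw [← hk]; group

end OC.Hyp

end CfsgLib.F42
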