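import Mathlib
import Cfsg.Agent.Lib.F42.Fus2

/-! # F42: an involution interchanging `Z` and `Z6` and normalising a torus (package PIN1) -/

set_option autoImplicit false
set_option Elab.async false
set_option linter.unusedSectionVars false

namespace CfsgLib.F42

open Subgroup
open scoped commutatorElement Pointwise

variable {K : Type*} [Field K] [Finite K] {G : Type*} [Group G] [Finite G] {σ : K →+* K} {sz : Sz K}

namespace OC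

variable {O : OC σ sz G}

theorem pin_nm {S : Subgroup G} {x y : G} (hx : x ∈ normalizer (S : Set G)) (hy : y ∈ S) : x * y * x⁻¹ ∈ S :=
  (mem_normalizer_iff.1 hx y).1 hy

theorem pin_nm' {S : Subgroup G} {x y : G} (hx : x ∈ normalizer (S : Set G)) (hy : y ∈ S) : x⁻¹ * y * x ∈ S := by
  simpa using pin_nm (inv_mem hx) hy

/-- the common normaliser of `R`, `Z`, `Z6` -/
abbrev P0 (O : OC σ sz G) : Subgroup G :=
  normalizer (O.R : Set G) ⊓ (normalizer (O.Z : Set G) ⊓ normalizer (O.Z6 : Set G))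

theorem Sw.mul {w w' : G} (h : O.Sw w) (h' : O.Sw w') : w * w' ∈ O.P0 :=
  ⟨mul_mem h.norm h'.norm, mem_normalizer_fintype fun n hn => by
    have := h.z6 _ (h'.z n hn); rwa [show w * (w' * n * w'⁻¹) * w⁻¹ = w * w' * n * (w * w')⁻¹ by group] at this,
   mem_normalizer_fintype fun n hn => by
    have := h.z _ (h'.z6 n hn); rwa [show w * (w' * n * w'⁻¹) * w⁻¹ = w * w' * n * (w * w')⁻¹ by group] at this⟩

theorem Sw.mul_P0 {w x : G} (h : O.Sw w) (hx : x ∈ O.P0) : O.Sw (w * x) :=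
  ⟨mul_mem h.norm hx.1, fun n hn => by
    have := h.z _ (pin_nm hx.2.1 hn); rwa [show w * (x * n * x⁻¹) * w⁻¹ = w * x * n * (w * x)⁻¹ by group] at this,
   fun n hn => by
    have := h.z6 _ (pin_nm hx.2.2 hn); rwa [show w * (x * n * x⁻¹) * w⁻¹ = w * x * n * (w * x)⁻¹ by group] at this⟩

theorem Sw.P0_mul {w x : G} (h : O.Sw w) (hx : x ∈ O.P0) : O.Sw (x * w) :=
  ⟨mul_mem hx.1 h.norm, fun n hn => by
    have := pin_nm hx.2.2 (h.z _ hn); rwa [show x * (w * n * w⁻¹) * x⁻¹ = x * w * n * (x * w)⁻¹ by group] at this,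
   fun n hn => by
    have := pin_nm hx.2.1 (h.z6 _ hn); rwa [show x * (w * n * w⁻¹) * x⁻¹ = x * w * n * (x * w)⁻¹ by group] at this⟩

theorem Sw.inv {w : G} (h : O.Sw w) : O.Sw w⁻¹ := by
  have := h.mul_P0 (inv_mem (h.mul h))
  rwa [show w * (w * w)⁻¹ = w⁻¹ by group] at this

theorem Sw.conj {w x : G} (h : O.Sw w) (hx : x ∈ O.P0) : w * x * w⁻¹ ∈ O.P0 := (h.mul_P0 hx).mul h.inv

theorem R_le_P0 (O : OC σ sz G) : O.R ≤ O.P0 :=
  le_inf le_normalizer (le_inf (O.pat_norm (by decide)) (O.pat_norm (by decide)))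

theorem H8_le_P0 (O : OC σ sz G) : O.H8 ≤ O.P0 := le_inf (O.h8_norm _) (le_inf (O.h8_norm _) (O.h8_norm _))

theorem Z_inf_Z6 {x : G} (h : x ∈ O.Z) (h' : x ∈ O.Z6) : x = 1 := by
  obtain ⟨t, rfl⟩ := O.mem_Z.1 h
  exact O.z_one ((O.g_mem_iff (by decide) (by decide)).1 h')

theorem R_of_norm_Z6 {x : G} (hx : x ∈ O.U) (h : x ∈ normalizer (O.Z6 : Set G)) : x ∈ O.R := by
  obtain ⟨r, s, hs, rfl⟩ := (O.mem_cons (k := 0) (S := [1, 2, 3, 4, 5, 6, 7, 8, 9, 10, 11]) (by decide)).1 hx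
  have h1 : O.g 0 r ∈ normalizer (O.Z6 : Set G) := by
    simpa using mul_mem h (inv_mem (O.R_le_P0 hs).2.2)
  have h2 := mul_mem (pin_nm' h1 (O.g_mem (S := [8]) (j := 8) (by decide) 1))
    (inv_mem (O.g_mem (S := [8]) (j := 8) (by decide) 1))
  rw [mul_assoc (O.g 0 r)⁻¹, O.r0_8, inv_mul_cancel_left, mul_inv_cancel_right, mul_one] at h2
  rw [(O.g_mem_iff (by decide) (by decide)).1 h2, O.g_zero, one_mul]
  exact hs

theorem U4_sq {x : G} (hx : x ∈ O.U4) : x * x ∈ O.Z ∧ (x * x = 1 → x ∈ O.Z) := by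
  obtain ⟨s, z, hz, rfl⟩ := (O.mem_cons (k := 4) (S := [5]) (by decide)).1 hx
  obtain ⟨t, rfl⟩ := O.mem_Z.1 hz
  have e : O.g 4 s * O.g 5 t * (O.g 4 s * O.g 5 t) = O.g 5 (s * σ s) := by
    simp only [O.col]
  rw [e]
  refine ⟨O.g_mem (by decide) _, fun h => ?_⟩
  have h0 : s = 0 := by simpa using O.g_eq_one.1 h
  rw [h0, O.g_zero, one_mul]
  exact hz

theorem pin_two_el {S : List (Fin 12)} {x : G} (hx : x ∈ O.pat S) : ∃ k, x ^ 2 ^ k = 1 := by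
  obtain ⟨k, hk⟩ := O.isPGroup_pat S ⟨x, hx⟩
  exact ⟨k, congrArg Subtype.val hk⟩

theorem pin_eq_one {x : G} (h : Odd (orderOf x)) (h2 : ∃ k, x ^ 2 ^ k = 1) : x = 1 := by
  obtain ⟨k, hk⟩ := h2
  exact orderOf_eq_one_iff.1 (Nat.eq_one_of_dvd_coprimes
    ((Nat.coprime_two_right.2 h).pow_right k) dvd_rfl (orderOf_dvd_of_pow_eq_one hk))

theorem pin_coprime {J : Subgroup G} (h : Odd (Nat.card J)) (S : List (Fin 12)) :
    (Nat.card J).Coprime (Nat.card (O.pat S)) := by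
  obtain ⟨n, hn⟩ := IsPGroup.iff_card.1 (O.isPGroup_pat S)
  rw [hn]
  exact (Nat.coprime_two_right.2 h).pow_right n

end OC


namespace OC.Hyp

variable {O : OC σ sz G} (H : O.Hyp)
include H

theorem P0_le_C {x : G} (hx : x ∈ O.P0) : x ∈ normalizer (O.C : Set G) :=
  H.norm_of_mem_Z (pin_nm hx.2.1 O.τ_mem)

theorem P0_le_U {x : G} (hx : x ∈ O.P0) : x ∈ normalizer (O.U : Set G) :=
  O.norm_U (H.P0_le_C hx) fun _ hr => O.pat_le_U _ (pin_nm hx.1 hr)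

omit H in
theorem P0_B8 {x : G} (hx : x ∈ O.P0) (hC : x ∈ O.C) : x ∈ O.B8 :=
  O.mem_B8_of_R hC fun _ hr => O.pat_le_U _ (pin_nm hx.1 hr)

theorem P0_two {x : G} (hx : x ∈ O.P0) (h2 : ∃ k, x ^ 2 ^ k = 1) : x ∈ O.R :=
  R_of_norm_Z6 (O.two_B8 (P0_B8 hx (H.two_norm (H.P0_le_C hx) h2)) h2) hx.2.2

theorem odd_relIndex_P0 : Odd (O.R.relIndex O.P0) := by
  have hp : IsPGroup 2 (O.R.subgroupOf O.P0) := (O.isPGroup_pat _).of_equiv (subgroupOfEquivOfLe O.R_le_P0).symm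
  obtain ⟨S, hS⟩ := hp.exists_le_sylow
  have e : O.R.subgroupOf O.P0 = S := le_antisymm hS fun x hx => by
    obtain ⟨k, hk⟩ := S.isPGroup' ⟨x, hx⟩
    exact H.P0_two x.2 ⟨k, congrArg (fun y : S => ((y : O.P0) : G)) hk⟩
  rw [relIndex, e, ← Nat.not_even_iff_odd, even_iff_two_dvd]
  exact S.not_dvd_index

theorem exists_J : ∃ J : Subgroup G, J ≤ O.P0 ∧ O.H8 ≤ J ∧ Odd (Nat.card J) ∧ O.P0 ≤ O.R ⊔ J := by
  have hn : O.P0 ≤ normalizer (O.R : Set G) := inf_le_left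
  obtain ⟨n, hn2⟩ := IsPGroup.iff_card.1 (O.isPGroup_pat [1, 2, 3, 4, 5, 6, 7, 8, 9, 10, 11])
  obtain ⟨J, hJ, -, hs, hc⟩ := Coprime.exists_complement_of_le_normalizer O.R_le_P0 hn
    (by rw [hn2]; exact ((Nat.coprime_two_right.2 H.odd_relIndex_P0).pow_right n).symm)
  obtain ⟨k, hk, h⟩ := Coprime.exists_conj_smul_le_of_le_sup (A := O.H8) (hJ.trans hn) (hs ▸ O.H8_le_P0)
    (pin_coprime (O.card_H8 ▸ O.odd_units) _) (.inr (Coprime.isSolvable_of_isPGroup (O.isPGroup_pat _)))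
  have hk0 := O.R_le_P0 hk
  refine ⟨MulAut.conj k⁻¹ • J, Coprime.conj_smul_le_iff.2 fun x hx => mul_mem (mul_mem (inv_mem hk0) (hJ hx))
    (inv_mem (inv_mem hk0)), fun x hx => Coprime.mem_conj_smul_iff.2 ?_, ?_, fun x hx => ?_⟩
  · simpa using Coprime.conj_smul_le_iff.1 h x hx
  · rw [Coprime.card_conj_smul, hc]; exact H.odd_relIndex_P0
  · obtain ⟨r, hr, j, hj, e⟩ := (Coprime.mem_sup_iff_of_le_normalizer (hJ.trans hn)).1
      (hs.ge (mul_mem (mul_mem hk0 hx) (inv_mem hk0)))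
    rw [show x = (k⁻¹ * r * k) * (k⁻¹ * j * k⁻¹⁻¹) by
      rw [show k⁻¹ * r * k * (k⁻¹ * j * k⁻¹⁻¹) = k⁻¹ * (r * j) * k by group, e]; group]
    exact mul_mem (mem_sup_left (mul_mem (mul_mem (inv_mem hk) hr) hk)) (mem_sup_right (Coprime.conj_mem_conj_smul hj))


theorem pin1 (hq : Big K) (hB : O.CaseB) : ∃ w, O.Sw w ∧ w * w = 1 ∧ ∀ l, w * O.h8 l * w⁻¹ ∈ normalizer (O.C : Set G) ∧
    w * O.h8 l * w⁻¹ ∈ normalizer (O.U : Set G) ∧ ∀ l', Commute (w * O.h8 l * w⁻¹) (O.h8 l') := by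
  obtain ⟨w0, hw0⟩ := H.exists_sw hB
  obtain ⟨J, hJ, h8J, hodd, hs⟩ := H.exists_J
  have hn : J ≤ normalizer (O.R : Set G) := hJ.trans inf_le_left
  have oddJ : ∀ x ∈ J, Odd (orderOf x) := fun x hx => hodd.of_dvd_nat (by
    simpa using orderOf_dvd_natCard (⟨x, hx⟩ : J))
  have JU : ∀ x ∈ J, x ∈ O.U → x = 1 := fun x hx hu => pin_eq_one (oddJ x hx) (pin_two_el hu)
  obtain ⟨r0, hr0, h⟩ := Coprime.exists_conj_smul_le_of_le_sup (A := MulAut.conj w0 • J) hn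
    (le_trans (Coprime.conj_smul_le_iff.2 fun x hx => hw0.conj (hJ hx)) hs)
    (pin_coprime (by rwa [Coprime.card_conj_smul]) _) (.inr (Coprime.isSolvable_of_isPGroup (O.isPGroup_pat _)))
  have hw : O.Sw (r0 * w0) := hw0.P0_mul (O.R_le_P0 hr0)
  have hwJ : r0 * w0 ∈ normalizer (J : Set G) := mem_normalizer_fintype fun x hx => by
    have := Coprime.conj_smul_le_iff.1 h _ (Coprime.conj_mem_conj_smul (g := w0) hx)
    rwa [show r0 * (w0 * x * w0⁻¹) * r0⁻¹ = r0 * w0 * x * (r0 * w0)⁻¹ by group] at this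
  generalize r0 * w0 = w at hw hwJ
  have JC : ∀ x ∈ J, x ∈ O.C → x ∈ O.H8 := fun x hx hC => by
    obtain ⟨u, hu, l, rfl⟩ := O.mem_B8.1 (P0_B8 (hJ hx) hC)
    rw [JU u (by simpa using mul_mem hx (inv_mem (h8J ⟨l, rfl⟩))) hu, one_mul]
    exact ⟨l, rfl⟩
  have JH : ∀ j ∈ J, ∀ l, ∃ l', O.h8 l' = j * O.h8 l * j⁻¹ := fun j hj l =>
    JC _ (mul_mem (mul_mem hj (h8J ⟨l, rfl⟩)) (inv_mem hj)) (pin_nm (H.P0_le_C (hJ hj)) (O.h8_mem_C l))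
  have h86 : ∀ l l', O.h8 l = w * O.h8 l' * w⁻¹ → l = 1 := fun l l' e => by
    have h1 := O.C_cent_Z (O.h8_mem_C l') (hw.inv.z6 _ (O.g_mem (S := [8]) (j := 8) (by decide) 1))
    have h2 : O.h8 l * O.g 8 1 * (O.h8 l)⁻¹ = O.g 8 1 := by
      rw [e, show w * O.h8 l' * w⁻¹ * O.g 8 1 * (w * O.h8 l' * w⁻¹)⁻¹ =
        w * (O.h8 l' * (w⁻¹ * O.g 8 1 * w⁻¹⁻¹)) * (O.h8 l')⁻¹ * w⁻¹ by group, h1.eq]
      group
    rw [O.h8_g, mul_one] at h2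
    by_contra hl
    exact O.wt8_ne_one hl (j := 8) (by decide) (by decide) (O.g_inj 8 h2)
  have hc : ∀ l l', Commute (w * O.h8 l * w⁻¹) (O.h8 l') := fun l l' => by
    have m : w * O.h8 l * w⁻¹ ∈ J := pin_nm hwJ (h8J ⟨l, rfl⟩)
    obtain ⟨a, ha⟩ := JH _ m l'
    obtain ⟨b, hb⟩ := JH _ (pin_nm' hwJ (h8J ⟨l', rfl⟩)) l⁻¹
    have e := h86 (a * l'⁻¹) (l * b) (by
      simp only [map_mul, map_inv] at hb ⊢
      rw [ha, hb]; group)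
    rw [mul_inv_eq_one] at e
    rw [e] at ha
    rw [Commute, SemiconjBy, ← mul_inv_eq_iff_eq_mul, ← ha]
  obtain ⟨r, hr, j, hj, e⟩ := (Coprime.mem_sup_iff_of_le_normalizer hn).1 (hs (hw.mul hw))
  have hrJ : r ∈ normalizer (J : Set G) := by
    rw [show r = w * w * j⁻¹ by rw [← e]; group]
    exact mul_mem (mul_mem hwJ hwJ) (inv_mem (le_normalizer hj))
  have hcr : ∀ x ∈ J, Commute r x := fun x hx => by
    rw [← commutatorElement_eq_one_iff_commute]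
    have := mul_mem hr (pin_nm (hn hx) (inv_mem hr))
    rw [show r * (x * r⁻¹ * x⁻¹) = ⁅r, x⁆ by rw [commutatorElement_def]; group] at this
    exact JU _ (mul_mem (pin_nm hrJ hx) (inv_mem hx)) (O.pat_le_U _ this)
  obtain ⟨t, ht0, ht1⟩ := hq
  have hl : Units.mk0 t ht0 ≠ 1 := fun h => ht1 (congrArg Units.val h)
  have r1 := U4_sq (O.cent_h8 hl (O.pat_le_U _ hr) (hcr _ (h8J ⟨_, rfl⟩)))
  have r2 := U4_sq (O.cent_h8 hl (O.pat_le_U _ (pin_nm' hw.norm hr)) (by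
    have := (hcr _ (pin_nm hwJ (h8J ⟨Units.mk0 t ht0, rfl⟩))).map (MulAut.conj w⁻¹)
    simpa [mul_assoc] using this))
  have r3 : r * r = 1 := Z_inf_Z6 r1.1 (by simpa [mul_assoc] using hw.z _ r2.1)
  have r4 : r = 1 := Z_inf_Z6 (r1.2 r3) (by
    simpa [mul_assoc] using hw.z _ (r2.2 (by
      rw [show w⁻¹ * r * w * (w⁻¹ * r * w) = w⁻¹ * (r * r) * w by group, r3]; group)))
  rw [r4, one_mul] at e
  obtain ⟨m, hm⟩ := oddJ j hj
  have hjm : j ^ m ∈ J := pow_mem hj m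
  refine ⟨w * j ^ m, hw.mul_P0 (hJ hjm), ?_, fun l => ?_⟩
  · rw [show w * j ^ m * (w * j ^ m) = j ^ (2 * m + 1) by
      rw [e, ← sq w, ← pow_mul, ← pow_mul, ← pow_succ', ← pow_add]; congr 1; ring, ← hm, pow_orderOf_eq_one]
  · obtain ⟨a, ha⟩ := JH _ hjm l
    rw [show w * j ^ m * O.h8 l * (w * j ^ m)⁻¹ = w * O.h8 a * w⁻¹ by rw [ha]; group]
    have m := hJ (pin_nm hwJ (h8J ⟨a, rfl⟩))
    exact ⟨H.P0_le_C m, H.P0_le_U m, hc a⟩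

theorem pin1_two (h2 : Two K) (hB : O.CaseB) : ∃ w, O.Sw w ∧ w * w = 1 ∧ (O.g 0 1 * w) ^ 3 = 1 := by
  obtain ⟨w, hw⟩ := H.exists_sw hB
  have hζ : O.g 8 1 ∈ O.Z6 := O.g_mem (by decide) 1
  have z1 : ∀ z ∈ O.Z, z = 1 ∨ z = O.τ := fun z hz => by
    obtain ⟨t, rfl⟩ := O.mem_Z.1 hz
    rcases h2 t with rfl | rfl
    exacts [.inl (O.g_zero _), .inr rfl]
  have z2 : ∀ z ∈ O.Z6, z = 1 ∨ z = O.g 8 1 := fun z hz => by
    obtain ⟨t, rfl⟩ := O.mem_Z6.1 hz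
    rcases h2 t with rfl | rfl
    exacts [.inl (O.g_zero _), .inr rfl]
  have w1 : w * O.τ * w⁻¹ = O.g 8 1 := (z2 _ (hw.z _ O.τ_mem)).resolve_left fun h => O.τ_ne (by simpa using h)
  have w2 : w * O.g 8 1 * w⁻¹ = O.τ := (z1 _ (hw.z6 _ hζ)).resolve_left fun h =>
    one_ne_zero (O.g_eq_one.1 (show O.g 8 1 = 1 by simpa using h))
  have aa : O.g 0 1 * O.g 0 1 = 1 := by simp only [O.col]
  have a1 : O.g 0 1 * O.τ * (O.g 0 1)⁻¹ = O.τ := by simp only [O.col]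
  have a2 : O.g 0 1 * O.g 8 1 * (O.g 0 1)⁻¹ = O.τ * O.g 8 1 := by simp only [O.col]
  have zt : O.g 8 1 * O.τ = O.τ * O.g 8 1 := O.r5_8 1 1
  have zz : O.g 8 1 * O.g 8 1 = 1 := by simp only [O.col]
  have aR : O.g 0 1 ∈ normalizer (O.R : Set G) := O.pat_norm (A := [0]) (by decide) (O.g_mem (by decide) 1)
  have hζV : O.g 8 1 ∈ O.V := O.g_mem (by decide) 1
  have hζZ : O.g 8 1 ∉ O.Z := fun h => one_ne_zero ((O.g_mem_iff (by decide) (by decide)).1 h)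
  have tt := O.τ_sq
  generalize O.g 0 1 = a at *
  generalize hτ : O.τ = τ at *
  generalize O.g 8 1 = ζ at *
  obtain ⟨c, hc⟩ : ∃ c, c = a * (w * a * w⁻¹) := ⟨_, rfl⟩
  have cR : c ∈ normalizer (O.R : Set G) := hc ▸ mul_mem aR (mul_mem (mul_mem hw.norm aR) (inv_mem hw.norm))
  have ai : a⁻¹ = a := inv_eq_of_mul_eq_one_right aa
  have ac : a * c * a⁻¹ = c⁻¹ := by
    rw [hc, ← mul_assoc a a, aa, one_mul, mul_inv_rev, mul_inv_rev, mul_inv_rev, inv_inv, ai, mul_assoc w]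
  have c1 : c * τ * c⁻¹ = ζ := by
    rw [hc, show a * (w * a * w⁻¹) * τ * (a * (w * a * w⁻¹))⁻¹ = a * (w * (a * (w⁻¹ * τ * w) * a⁻¹) * w⁻¹) * a⁻¹ by
      group, show w⁻¹ * τ * w = ζ by rw [← w2]; group, a2, ← conj_mul (a := τ), w1, w2, ← conj_mul, a1, a2, mul_assoc, zt,
      ← mul_assoc, tt, one_mul]
  have c2 : c * ζ * c⁻¹ = τ * ζ := by
    rw [hc, show a * (w * a * w⁻¹) * ζ * (a * (w * a * w⁻¹))⁻¹ = a * (w * (a * (w⁻¹ * ζ * w) * a⁻¹) * w⁻¹) * a⁻¹ by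
      group, show w⁻¹ * ζ * w = τ by rw [← w1]; group, a1, w1, a2]
  have c3 : c * (τ * ζ) * c⁻¹ = τ := by
    rw [← conj_mul, c1, c2, ← mul_assoc, zt, mul_assoc, zz, mul_one]
  have e3 : ∀ x : G, c ^ 3 * x * (c ^ 3)⁻¹ = c * (c * (c * x * c⁻¹) * c⁻¹) * c⁻¹ := fun x => by
    simp only [pow_succ, pow_zero, one_mul, mul_inv_rev, mul_assoc]
  have d1 : Commute (c ^ 3) τ := by rw [Commute, SemiconjBy, ← mul_inv_eq_iff_eq_mul, e3, c1, c2, c3]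
  have d2 : Commute (c ^ 3) ζ := by rw [Commute, SemiconjBy, ← mul_inv_eq_iff_eq_mul, e3, c2, c3, c1]
  obtain ⟨N, hN⟩ := pin_two_el (O.cent_V (H.cent_two h2 (hτ ▸ d1)) hζV hζZ d2)
  obtain ⟨m, hm⟩ : ∃ m, 2 ^ N * 2 ^ N = 3 * m + 1 := ⟨2 ^ N * 2 ^ N / 3, by
    have : (2 ^ N * 2 ^ N) % 3 = 1 := by rw [← mul_pow, Nat.pow_mod]; simp
    omega⟩
  obtain ⟨ρ, hρ⟩ : ∃ ρ, ρ = c ^ (3 * m + 1) := ⟨_, rfl⟩
  have ρ3 : ρ ^ 3 = 1 := by rw [hρ, ← hm, ← pow_mul, mul_comm _ 3, ← mul_assoc, pow_mul, pow_mul, hN, one_pow]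
  have aρ : a * ρ * a⁻¹ = ρ⁻¹ := by rw [hρ, ← conj_pow, ac, inv_pow]
  have hx : ∀ x, Commute (c ^ 3) x → ρ * x * ρ⁻¹ = c * x * c⁻¹ := fun x hx => by
    rw [hρ, pow_succ', pow_mul, mul_assoc c, (hx.pow_left m).eq]; group
  have v1 : ρ * a * τ * (ρ * a)⁻¹ = ζ := by
    rw [show ρ * a * τ * (ρ * a)⁻¹ = ρ * (a * τ * a⁻¹) * ρ⁻¹ by group, a1, hx _ d1, c1]
  have v2 : ρ * a * ζ * (ρ * a)⁻¹ = τ := by
    rw [show ρ * a * ζ * (ρ * a)⁻¹ = ρ * (a * ζ * a⁻¹) * ρ⁻¹ by group, a2, hx _ (d1.mul_right d2), c3]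
  refine ⟨ρ * a, ⟨mul_mem (hρ ▸ pow_mem cR _) aR, fun z hz => ?_, fun z hz => ?_⟩, ?_, ?_⟩
  · rcases z1 z hz with rfl | rfl
    · simp
    · rwa [v1]
  · rcases z2 z hz with rfl | rfl
    · simp
    · rw [v2, ← hτ]; exact O.τ_mem
  · rw [mul_assoc, ← mul_assoc a, ← ai, show a⁻¹ * ρ * a⁻¹ = a * ρ * a⁻¹ by rw [ai], aρ, mul_inv_cancel]
  · rw [← mul_assoc, show a * ρ * a = a * ρ * a⁻¹ by rw [ai], aρ, inv_pow, ρ3, inv_one]

end OC.Hyp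

end CfsgLib.F42
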