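import Mathlib
import Cfsg.Agent.Lib.F42.Pin1

/-! # F42: adjusting the coordinates to the torus (package PIN2) -/

set_option autoImplicit false
set_option Elab.async false
set_option linter.unusedSectionVars false

namespace CfsgLib.F42

open Subgroup
open scoped commutatorElement

variable {K : Type*} [Field K] [Finite K] {G : Type*} [Group G] [Finite G] {σ : K →+* K} {sz : Sz K}

theorem OC.chi_bij (O : OC σ sz G) : Function.Bijective fun x : Kˣ × Kˣ =>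
    ((Units.mk0 _ (chi_ne (σ := σ) 5 x.1 x.2), Units.mk0 _ (chi_ne (σ := σ) 8 x.1 x.2)) : Kˣ × Kˣ) := by
  refine Finite.injective_iff_bijective.1 fun ⟨α, β⟩ ⟨α', β'⟩ e => ?_
  have e5 : chi σ 5 α β = chi σ 5 α' β' := congrArg (fun x : Kˣ × Kˣ => (x.1 : K)) e
  have e8 : chi σ 8 α β = chi σ 8 α' β' := congrArg (fun x : Kˣ × Kˣ => (x.2 : K)) e
  have c : ∀ α β : Kˣ, chi σ 5 α β = α * chi σ 8 α β := fun α β => by simp [chi, mon, chiT]; ring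
  rw [c, c, e8] at e5
  obtain rfl : α = α' := Units.ext (mul_right_cancel₀ (chi_ne _ _ _) e5)
  have d : ∀ β : Kˣ, chi σ 8 α β = α * σ α * (β * σ β * σ (β * σ β)) := fun β => by
    simp [chi, mon, chiT, O.ss]; ring
  rw [d, d] at e8
  rw [Units.ext (O.n_inj (O.n_inj (mul_left_cancel₀ (by simp) e8)))]

theorem pin_kap {Y D : Type*} [Group Y] [Group D] (φ : Y →* G) (hφ : Function.Injective φ) (η : D →* G)
    (h : ∀ x, η x ∈ normalizer (φ.range : Set G)) :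
    ∃ κ : D →* MulAut Y, ∀ x c, φ (κ x c) = η x * φ c * (η x)⁻¹ :=
  ⟨(MulAut.congr (φ.ofInjective hφ).symm).toMonoidHom.comp (φ.range.normalizerMonoidHom.comp (η.codRestrict _ h)),
    fun x c => by
      change φ ((φ.ofInjective hφ).symm _) = _
      rw [MonoidHom.apply_ofInjective_symm]
      rfl⟩

theorem pin_sz {A D : Type*} [Group A] [Finite A] [Group D] [Finite D] (ρ : A →* D) (S T : D →* A)
    (hT : Function.Injective (ρ.comp T)) (h2 : IsPGroup 2 ρ.ker) (hD : Odd (Nat.card D)) :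
    ∃ k ∈ ρ.ker, ∀ x y, ρ (S x) = ρ (T y) → k * S x * k⁻¹ = T y := by
  obtain ⟨n, hn⟩ := IsPGroup.iff_card.1 h2
  obtain ⟨k, hk, h⟩ := Coprime.exists_conj_smul_le_of_le_sup (K := ρ.ker) (A := S.range) (S := T.range)
    le_normalizer_of_normal (fun a _ => by
      obtain ⟨y, hy⟩ := Finite.surjective_of_injective hT (ρ a)
      rw [show a = a * (T y)⁻¹ * T y by group]
      exact mul_mem (mem_sup_left (by simpa [MonoidHom.mem_ker, mul_inv_eq_one] using hy.symm)) (mem_sup_right ⟨y, rfl⟩))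
    (by rw [hn]; exact (Nat.coprime_two_right.2 (hD.of_dvd_nat (card_range_dvd S))).pow_right n)
    (.inr (Coprime.isSolvable_of_isPGroup h2))
  refine ⟨k, hk, fun x y e => ?_⟩
  obtain ⟨y', hy⟩ := Coprime.conj_smul_le_iff.1 h _ ⟨x, rfl⟩
  rw [← hy, hT (show ρ (T y') = ρ (T y) by rw [hy, ← e, map_mul, map_mul, map_inv, MonoidHom.mem_ker.1 hk]; simp)]

namespace OC

variable (O : OC σ sz G)

theorem V_inj {s t s' t' : K} (h : O.g 5 s * O.g 8 t = O.g 5 s' * O.g 8 t') : s = s' ∧ t = t' := by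
  obtain rfl : s = s' := O.layer_inj (k := 5) (S := [8]) (by decide) (by decide) (O.g_mem (by decide) t)
    (O.g_mem (by decide) t') h
  exact ⟨rfl, O.g_inj 8 (mul_left_cancel h)⟩

/-- the monoid of the automorphisms with `IsA` -/
def autM : Submonoid (MulAut O.C) where
  carrier := {f | O.IsA f}
  one_mem' := ⟨fun _ h => h, fun _ => rfl⟩
  mul_mem' h h' := ⟨fun x hx => h.U _ (h'.U x hx), fun l => by rw [MulAut.mul_apply, h'.h8, h.h8]⟩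

/-- the group of the automorphisms with `IsA` -/
def autA : Subgroup (MulAut O.C) where
  toSubmonoid := O.autM
  inv_mem' {f} h := (Submonoid.powers_le (P := O.autM)).2 h (mem_powers_iff_mem_zpowers.2 (inv_mem (mem_zpowers f)))

theorem exists_rho : ∃ ρ : O.autA →* Kˣ × Kˣ, ∀ f x, ρ f = x ↔ O.Scal f x.1 x.2 := by
  choose a b hab using fun f : O.autA => O.exists_scal f.2
  have uniq : ∀ (f : O.autA) (x : Kˣ × Kˣ), O.Scal f x.1 x.2 → (a f, b f) = x := fun f x h => by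
    obtain ⟨s, hs⟩ := h.v 1
    obtain ⟨s', hs'⟩ := (hab f).v 1
    exact Prod.ext (Units.ext (by simpa using O.g_inj 5 (((hab f).z 1).symm.trans (h.z 1))))
      (Units.ext (by simpa using (O.V_inj (hs'.symm.trans hs)).2))
  refine ⟨MonoidHom.mk' (fun f => (a f, b f)) fun f f' => uniq _ _ ⟨fun t => ?_, fun t => ?_⟩,
    fun f x => ⟨fun e => e ▸ hab f, uniq f x⟩⟩
  · rw [coe_mul, MulAut.mul_apply, show f'.1 (O.gC 5 t) = O.gC 5 (a f' * t) from Subtype.ext ((hab f').z t), (hab f).z]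
    simp [mul_assoc]
  · obtain ⟨s, hs⟩ := (hab f').v t
    obtain ⟨s', hs'⟩ := (hab f).v (b f' * t)
    refine ⟨a f * s + s', ?_⟩
    rw [coe_mul, MulAut.mul_apply, show f'.1 (O.gC 8 t) = O.gC 5 s * O.gC 8 (b f' * t) from Subtype.ext hs, map_mul,
      coe_mul, (hab f).z, hs', ← mul_assoc, O.a5]
    simp [mul_assoc]

variable {O}

theorem IsA.fix8 (hq : Big K) {f : MulAut O.C} (h : O.IsA f) (hs : O.Scal f 1 1) (t : K) :
    f (O.gC 8 t) = O.gC 8 t := by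
  obtain ⟨l, hl0, hl1⟩ := hq
  have hm := O.wt8_ne_one (l := Units.mk0 l hl0) (fun e => hl1 (congrArg Units.val e)) (j := 8) (by decide) (by decide)
  generalize Units.mk0 l hl0 = l at hm
  have h0 : wt8 σ 8 l + 1 ≠ 0 := fun e => hm (O.add_eq_zero.1 e)
  obtain ⟨u, rfl⟩ : ∃ u, t = wt8 σ 8 l * u + u := ⟨t / (wt8 σ 8 l + 1), by field_simp⟩
  obtain ⟨s, e⟩ := hs.v u
  have e1 : O.gC 8 (wt8 σ 8 l * u + u) = O.h8C l * O.gC 8 u * (O.h8C l)⁻¹ * O.gC 8 u :=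
    Subtype.ext (show O.g 8 _ = _ by rw [← O.a8, ← O.h8_g]; rfl)
  refine Subtype.ext ?_
  conv_lhs => rw [e1]
  simp only [map_mul, map_inv, h.h8, coe_mul, coe_inv, e]
  rw [← conj_mul, O.h8_g, O.h8_g, show wt8 σ 5 l = 1 by simp [wt8, mon, w8T]]
  simp only [O.col]

theorem IsA.pat (hq : Big K) {f : MulAut O.C} (h : O.IsA f) (hs : O.Scal f 1 1) (x : O.C) :
    ((x : G) ∈ O.R → (f x : G) ∈ O.R) ∧ ((x : G) ∈ O.Z → (f x : G) ∈ O.Z) ∧ ((x : G) ∈ O.Z6 → (f x : G) ∈ O.Z6) := by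
  refine ⟨fun hx => ?_, fun hx => ?_, fun hx => ?_⟩
  · have hv : O.g 8 1 ∈ O.V := O.g_mem (by decide) 1
    have : Commute x (O.gC 8 1) := Subtype.ext (O.R_cent_V hx hv)
    have := this.map f
    rw [h.fix8 hq hs] at this
    exact O.cent_V (f x).2 hv (fun e => one_ne_zero ((O.g_mem_iff (by decide) (by decide)).1 e))
      (congrArg Subtype.val this)
  · obtain ⟨t, e⟩ := O.mem_Z.1 hx
    rw [show x = O.gC 5 t from Subtype.ext e, hs.z]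
    exact O.g_mem (by decide) _
  · obtain ⟨t, e⟩ := O.mem_Z6.1 hx
    rw [show x = O.gC 8 t from Subtype.ext e, h.fix8 hq hs]
    exact O.g_mem (by decide) _

theorem Hyp.congr {O' : OC σ sz G} (H : O.Hyp) (hτ : O'.τ = O.τ) (hC : O'.C = O.C) (hU : O'.U = O.U) : O'.Hyp :=
  ⟨hτ ▸ hC ▸ H.two, hτ ▸ hC ▸ H.norm, hU ▸ H.syl, hτ ▸ hC ▸ H.cent⟩

theorem Sw.congr {O' : OC σ sz G} {w : G} (h : O.Sw w) (hR : O'.R = O.R) (hZ : O'.Z = O.Z) (h6 : O'.Z6 = O.Z6) :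
    O'.Sw w := ⟨hR ▸ h.norm, hZ ▸ h6 ▸ h.z, hZ ▸ h6 ▸ h.z6⟩

section map

variable (O) {G' : Type*} [Group G'] (φ : O.C →* G') (hφ : Function.Injective φ)

theorem mem_map_pat {S : List (Fin 12)} {x : O.C} : φ x ∈ (O.map φ hφ).pat S ↔ (x : G) ∈ O.pat S := by
  rw [O.map_pat, mem_map_iff_mem hφ, mem_subgroupOf]

theorem map_pat_comp (k : MulAut O.C) (hk : Function.Injective (φ.comp k.toMonoidHom)) {S : List (Fin 12)}
    (h : ∀ x : O.C, (x : G) ∈ O.pat S → (k x : G) ∈ O.pat S) (h' : ∀ x : O.C, (x : G) ∈ O.pat S → (k⁻¹ x : G) ∈ O.pat S) :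
    (O.map _ hk).pat S = (O.map φ hφ).pat S := by
  rw [O.map_pat, O.map_pat]
  exact le_antisymm (by rintro _ ⟨x, hx, rfl⟩; exact ⟨k x, h x hx, rfl⟩)
    (by rintro _ ⟨x, hx, rfl⟩; exact ⟨k⁻¹ x, h' x hx, by simp⟩)

end map

end OC

theorem OT.h_n8 (O : OT σ sz G) (α β : Kˣ) : O.h (α, β) * O.n8 * (O.h (α, β))⁻¹ = O.h8 (su σ β)⁻¹ * O.n8 := by
  have e : ((su σ β)⁻¹ * su σ (su σ β)⁻¹, (su σ (su σ β)⁻¹)⁻¹) = (α, β) * (α * β ^ 2 * su σ β, β⁻¹)⁻¹ := by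
    ext
    · simp [O.ss]; field_simp
    · simp [O.ss, sq]
  rw [← O.h_h8, e, map_mul, map_inv, ← O.n8_h]
  group

theorem OT.h_comm_h8 (O : OT σ sz G) (x : Kˣ × Kˣ) (l : Kˣ) : Commute (O.h x) (O.h8 l) := by
  rw [← O.h_h8]; exact (Commute.all _ _).map O.h

theorem OT.h_norm_C (O : OT σ sz G) (x : Kˣ × Kˣ) : O.h x ∈ normalizer (O.C : Set G) :=
  mem_normalizer_fintype fun _ hc => (sup_le (sup_le (O.pat_le.2 fun j _ t => by
      change O.h x * O.g j t * (O.h x)⁻¹ ∈ O.C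
      rw [O.h_g]; exact O.g_mem_C _ _) (by
      rintro _ ⟨l, rfl⟩
      change O.h x * O.h8 l * (O.h x)⁻¹ ∈ O.C
      rw [(O.h_comm_h8 x l).eq, mul_inv_cancel_right]; exact O.h8_mem_C l)) (zpowers_le.2 (by
      change O.h x * O.n8 * (O.h x)⁻¹ ∈ O.C
      rw [O.h_n8]; exact mul_mem (O.h8_mem_C _) O.n8_mem_C)) : O.C ≤ O.C.comap (MulAut.conj (O.h x)).toMonoidHom) hc


theorem pin2 {X : Type*} [Group X] [Finite X] (O₀ : OP σ sz X) (φ : O₀.C →* G) (hφ : Function.Injective φ)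
    (H : (O₀.map φ hφ).Hyp) (hq : Big K) (hB : (O₀.map φ hφ).CaseB) :
    ∃ (T : OT σ sz G) (w : G), T.C = φ.range ∧ T.τ = (O₀.map φ hφ).τ ∧ T.Hyp ∧ T.Sym ∧ T.Sw w ∧ w * w = 1 ∧
      w ∈ normalizer (T.H : Set G) := by
  obtain ⟨w, hw, w2, hh⟩ := H.pin1 hq hB
  obtain ⟨O, hO⟩ : ∃ O, O = O₀.map φ hφ := ⟨_, rfl⟩
  have og : ∀ j t, O.g j t = φ (O₀.gC j t) := fun j t => hO ▸ rfl
  have oh : ∀ l, O.h8 l = φ (O₀.h8C l) := fun l => hO ▸ rfl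
  have oC : O.C = φ.range := hO ▸ O₀.map_C φ hφ
  have op : ∀ S (x : O₀.C), φ x ∈ O.pat S ↔ (x : X) ∈ O₀.pat S := fun S x => hO ▸ O₀.mem_map_pat φ hφ
  rw [← hO] at H hw hh ⊢
  let η : Kˣ × Kˣ →* G := O.h8.noncommCoprod ((MulAut.conj w).toMonoidHom.comp O.h8) fun l l' => ((hh l').2.2 l).symm
  have hη : ∀ l l', η (l, l') = O.h8 l * (w * O.h8 l' * w⁻¹) := fun _ _ => rfl
  obtain ⟨κ, hκ⟩ := pin_kap φ hφ η fun x => oC ▸ mul_mem (le_normalizer (O.h8_mem_C x.1)) (hh x.2).1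
  obtain ⟨T0, hT0⟩ := pin_kap O₀.C.subtype O₀.C.subtype_injective O₀.h fun x => by
    rw [range_subtype]; exact O₀.h_norm_C x
  have κA : ∀ x, κ x ∈ O₀.autA := fun x => ⟨fun c hc => (op _ _).1 (by
      rw [hκ]; exact OC.pin_nm (mul_mem (O.h8_norm _ ⟨x.1, rfl⟩) (hh x.2).2.1) ((op _ _).2 hc)), fun l => hφ (by
      rw [hκ, ← oh, mul_inv_eq_iff_eq_mul]
      exact (((Commute.all _ _).map O.h8).mul_left ((hh x.2).2.2 l)).eq)⟩
  have TA : ∀ x, T0 x ∈ O₀.autA := fun x => ⟨fun c hc => by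
      rw [show (T0 x c : X) = _ from hT0 x c]; exact OC.pin_nm (O₀.h_norm _ ⟨x, rfl⟩) hc, fun l => Subtype.ext (by
      rw [show (T0 x _ : X) = _ from hT0 x _, mul_inv_eq_iff_eq_mul]; exact (O₀.h_comm_h8 x l).eq)⟩
  obtain ⟨ρ, hρ⟩ := O₀.exists_rho
  have inj : Function.Injective (ρ.comp (κ.codRestrict _ κA)) := (injective_iff_map_eq_one _).2 fun ⟨l, l'⟩ e => by
    have hs : O₀.Scal (κ (l, l')) 1 1 := (hρ _ _).1 e
    have hζ : O.g 8 1 ∈ O.Z6 := O.g_mem (by decide) 1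
    have key : ∀ m, O.h8 m * O.g 8 1 * (O.h8 m)⁻¹ = O.g 8 1 → m = 1 := fun m e => by
      rw [O.h8_g, mul_one] at e
      by_contra hm
      exact O.wt8_ne_one hm (j := 8) (by decide) (by decide) (O.g_inj 8 e)
    refine Prod.ext (key l ?_) (key l' ?_)
    · have e1 := hκ (l, l') (O₀.gC 8 1)
      rw [OC.IsA.fix8 hq (κA _) hs, ← og, hη] at e1
      have e2 := O.C_cent_Z (O.h8_mem_C l') (hw.inv.z6 _ hζ)
      rw [show O.h8 l * (w * O.h8 l' * w⁻¹) * O.g 8 1 * (O.h8 l * (w * O.h8 l' * w⁻¹))⁻¹ =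
        O.h8 l * (w * (O.h8 l' * (w⁻¹ * O.g 8 1 * w⁻¹⁻¹)) * (O.h8 l')⁻¹ * w⁻¹) * (O.h8 l)⁻¹ by group, e2.eq] at e1
      exact Eq.trans (by group) e1.symm
    · obtain ⟨t, ht⟩ := O.mem_Z.1 (hw.z6 _ hζ)
      have e1 := hκ (l, l') (O₀.gC 5 t)
      rw [show κ (l, l') (O₀.gC 5 t) = O₀.gC 5 t from Subtype.ext (by simpa using hs.z t), ← og, hη,
        ← ((hh l').2.2 l).eq, mul_inv_rev, mul_assoc _ (O.h8 l), (O.C_cent_Z (O.h8_mem_C l) (O.g_mem (by decide) t)).eq,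
        ← ht] at e1
      rw [show O.g 8 1 = w⁻¹ * (w * O.g 8 1 * w⁻¹) * w by group]
      conv_rhs => rw [e1]
      group
  obtain ⟨k, hk, hc⟩ := pin_sz ρ (T0.codRestrict _ TA) _ inj (fun f => by
    obtain ⟨n, hn⟩ := O₀.two_of_scal f.1.2 ((hρ _ _).1 f.2)
    exact ⟨n, Subtype.ext (Subtype.ext hn)⟩) (by rw [Nat.card_prod]; exact O.odd_units.mul O.odd_units)
  let ε := MulEquiv.ofBijective _ (Finite.injective_iff_bijective.1 inj)
  let ψ : Kˣ × Kˣ →* Kˣ × Kˣ := ε.symm.toMonoidHom.comp (ρ.comp (T0.codRestrict _ TA))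
  have hψ : ∀ x, ρ ⟨T0 x, TA x⟩ = ρ ⟨κ (ψ x), κA _⟩ := fun x => (ε.apply_symm_apply _).symm
  have ψs : Function.Surjective ψ := ε.symm.surjective.comp (by
    have : ⇑(ρ.comp (T0.codRestrict _ TA)) = fun x : Kˣ × Kˣ => ((Units.mk0 _ (chi_ne (σ := σ) 5 x.1 x.2),
        Units.mk0 _ (chi_ne (σ := σ) 8 x.1 x.2)) : Kˣ × Kˣ) := funext fun x => (hρ _ _).2
      ⟨fun t => (hT0 x _).trans (O₀.h_g _ _ _ _), fun t => ⟨0, by
        rw [O₀.g_zero, one_mul]; exact (hT0 x _).trans (O₀.h_g _ _ _ _)⟩⟩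
    rw [this]; exact O.chi_bij.2)
  have hk' : Function.Injective (φ.comp k.1.toMonoidHom) := hφ.comp k.1.injective
  have act : ∀ x c, η (ψ x) * φ (k.1 c) * (η (ψ x))⁻¹ = φ (k.1 (T0 x c)) := fun x c => by
    have : k.1 * T0 x * k.1⁻¹ = κ (ψ x) := congrArg Subtype.val (hc x _ (hψ x))
    rw [← hκ, ← this]; simp
  have h8e : ∀ l, η (ψ (l * su σ l, (su σ l)⁻¹)) = φ (k.1 (O₀.h8C l)) := fun l => by
    have : T0 (l * su σ l, (su σ l)⁻¹) = κ (l, 1) := MulEquiv.ext fun c => hφ (by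
      rw [hκ, hη, map_one, mul_one, mul_inv_cancel, mul_one, oh, ← map_inv φ, ← map_mul, ← map_mul]
      exact congrArg φ (Subtype.ext ((hT0 _ c).trans (by rw [O₀.h_h8]; rfl))))
    rw [inj (show ρ ⟨κ (ψ _), κA _⟩ = ρ ⟨κ (l, 1), κA _⟩ by rw [← hψ]; exact congrArg ρ (Subtype.ext this)), hη,
      k.2.h8, ← oh]
    simp
  have s1 : O₀.Scal k.1 1 1 := (hρ _ _).1 hk
  have s2 : O₀.Scal k.1⁻¹ 1 1 := (hρ k⁻¹ _).1 (inv_mem hk)
  have p1 := OC.IsA.pat hq k.2 s1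
  have p2 := OC.IsA.pat hq (inv_mem k.2) s2
  have eτ : (O₀.map _ hk').τ = O.τ := (congrArg φ (Subtype.ext ((s1.z 1).trans (by rw [one_mul])))).trans (og 5 1).symm
  have eC : (O₀.map _ hk').C = φ.range := by
    rw [O₀.map_C, MonoidHom.range_comp, MonoidHom.range_eq_top.2 k.1.surjective, ← MonoidHom.range_eq_map]
  refine ⟨{ toOC := O₀.map _ hk', h := η.comp ψ, h_g := fun α β j t => ?_, h_h8 := h8e, n8_h := fun α β => ?_ }, w,
    eC, eτ, H.congr eτ (eC.trans oC.symm) (hO ▸ O₀.map_pat_comp φ hφ _ hk' k.2.U (inv_mem k.2).U),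
    O₀.sym_map _ hk', hw.congr (hO ▸ O₀.map_pat_comp φ hφ _ hk' (fun x => (p1 x).1) fun x => (p2 x).1)
      (hO ▸ O₀.map_pat_comp φ hφ _ hk' (fun x => (p1 x).2.1) fun x => (p2 x).2.1)
      (hO ▸ O₀.map_pat_comp φ hφ _ hk' (fun x => (p1 x).2.2) fun x => (p2 x).2.2), w2,
    mem_normalizer_fintype ?_⟩
  · exact (act _ _).trans (congrArg (fun c => φ (k.1 c)) (Subtype.ext ((hT0 _ _).trans (O₀.h_g _ _ _ _))))
  · have e1 := act (α, β) ⟨O₀.n8, O₀.n8_mem_C⟩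
    rw [show T0 (α, β) ⟨O₀.n8, O₀.n8_mem_C⟩ = O₀.h8C (su σ β)⁻¹ * ⟨O₀.n8, O₀.n8_mem_C⟩ from
      Subtype.ext ((hT0 _ _).trans (O₀.h_n8 α β)), map_mul, map_mul, ← h8e] at e1
    have e : (α * β ^ 2 * su σ β, β⁻¹) = ((su σ β)⁻¹ * su σ (su σ β)⁻¹, (su σ (su σ β)⁻¹)⁻¹)⁻¹ * (α, β) := by
      ext
      · simp [O.ss]; field_simp
      · simp [O.ss, sq]
    change φ (k.1 ⟨O₀.n8, O₀.n8_mem_C⟩) * η (ψ (α, β)) * (φ (k.1 ⟨O₀.n8, O₀.n8_mem_C⟩))⁻¹ = η (ψ _)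
    have n2 : φ (k.1 ⟨O₀.n8, O₀.n8_mem_C⟩) * φ (k.1 ⟨O₀.n8, O₀.n8_mem_C⟩) = 1 := (O₀.map _ hk').n8_sq
    rw [e, map_mul, map_mul, map_inv, map_inv, eq_mul_inv_of_mul_eq e1.symm, inv_eq_of_mul_eq_one_right n2]
    simp only [mul_inv_rev, inv_inv, inv_eq_of_mul_eq_one_right n2]
    group
  · rintro _ ⟨⟨x, y⟩, rfl⟩
    obtain ⟨z, hz⟩ := ψs ((ψ (x, y)).2, (ψ (x, y)).1)
    refine ⟨z, ?_⟩
    change η (ψ z) = w * η ((ψ (x, y)).1, (ψ (x, y)).2) * w⁻¹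
    rw [hz, hη, hη, ← ((hh _).2.2 _).eq, ← conj_mul, ← mul_assoc w, ← mul_assoc w, w2, one_mul, mul_assoc (O.h8 _),
      ← mul_inv_rev, w2, inv_one, mul_one]

end CfsgLib.F42
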