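import Mathlib
import Cfsg.Agent.Lib.F42.Pat

/-! # F42: the points `zz i` of the standard path -/

set_option autoImplicit false
set_option Elab.async false
set_option linter.unusedSectionVars false

namespace CfsgLib.F42

open Subgroup
open scoped commutatorElement

variable {K : Type*} [Field K] [Finite K] {G : Type*} [Group G] [Finite G] {σ : K →+* K} {sz : Sz K}

namespace OP

variable (O : OP σ sz G)

theorem n1_c : O.n1 * (O.n1 * O.n8) * O.n1⁻¹ = (O.n1 * O.n8)⁻¹ := by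
  rw [mul_inv_rev, O.n8_inv, ← mul_assoc, O.n1_sq, one_mul]

theorem n8_c : O.n8 * (O.n1 * O.n8) * O.n8⁻¹ = (O.n1 * O.n8)⁻¹ := by
  rw [mul_inv_rev, O.n1_inv, O.n8_inv, mul_assoc, mul_assoc, O.n8_sq, mul_one]

theorem n1_cz (i : ℤ) : O.n1 * (O.n1 * O.n8) ^ i * O.n1⁻¹ = (O.n1 * O.n8) ^ (-i) := by
  rw [← conj_zpow, O.n1_c, inv_zpow']

theorem n8_cz (i : ℤ) : O.n8 * (O.n1 * O.n8) ^ i * O.n8⁻¹ = (O.n1 * O.n8) ^ (-i) := by
  rw [← conj_zpow, O.n8_c, inv_zpow']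

theorem n8_τ : O.n8 * O.τ * O.n8⁻¹ = O.τ := O.n8_g 5 (by decide) 1

theorem zz_zero : O.zz 0 = O.g 5 1 := by simp [zz]

theorem c_zz (k i : ℤ) : (O.n1 * O.n8) ^ k * O.zz i * ((O.n1 * O.n8) ^ k)⁻¹ = O.zz (k + i) := by
  simp only [zz, zpow_add]; group

theorem n8_zz (i : ℤ) : O.n8 * O.zz i * O.n8⁻¹ = O.zz (-i) := by
  unfold zz
  conv_rhs => rw [← O.n8_cz, ← O.n8_τ]
  group

theorem c1_zz (i : ℤ) : O.n1 * (O.n8 * O.zz i * O.n8⁻¹) * O.n1⁻¹ = O.zz (1 + i) := by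
  rw [← O.c_zz 1 i]; group

theorem n1_zz (i : ℤ) : O.n1 * O.zz i * O.n1⁻¹ = O.zz (1 - i) := by
  have := O.c1_zz (-i)
  rwa [O.n8_zz, neg_neg, ← sub_eq_add_neg] at this

theorem zz_one : O.zz 1 = O.g 8 1 := by
  have := O.n1_zz 0
  rw [O.zz_zero, O.n1_g 5 (by decide)] at this
  exact this.symm

theorem zz_neg_one : O.zz (-1) = O.g 2 1 := by
  rw [← O.n8_zz, O.zz_one, O.n8_g 8 (by decide)]; rfl

theorem zz_two : O.zz 2 = O.g 11 1 := by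
  have := O.n1_zz (-1)
  rw [O.zz_neg_one, O.n1_g 2 (by decide)] at this
  exact this.symm

theorem zz_neg_two : O.zz (-2) = O.n8 * O.g 11 1 * O.n8⁻¹ := by
  rw [← O.n8_zz, O.zz_two]

theorem dk_zz (i : ℤ) (k : ℕ) : O.Dk k (O.zz i) (O.zz (i + k)) :=
  ⟨(O.n1 * O.n8) ^ i, by rw [O.c_zz, add_zero], O.c_zz i k⟩

theorem zz_sq (i : ℤ) : O.zz i * O.zz i = 1 := by
  calc O.zz i * O.zz i = (O.n1 * O.n8) ^ i * (O.τ * O.τ) * ((O.n1 * O.n8) ^ i)⁻¹ := by unfold zz; group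
    _ = 1 := by rw [O.τ_sq]; group

theorem zz_inv (i : ℤ) : (O.zz i)⁻¹ = O.zz i := inv_eq_of_mul_eq_one_right (O.zz_sq i)

theorem n1_a : O.n1 * O.g 0 1 * O.n1 = O.g 0 1 * O.n1 * O.g 0 1 := by
  have h := O.tri
  have h1 : O.g 0 1 * O.n1 * O.g 0 1 * (O.n1 * O.g 0 1 * O.n1) = 1 := by rw [← h]; simp [pow_succ, mul_assoc]
  rw [← inv_eq_of_mul_eq_one_right h1]
  simp only [mul_inv_rev, O.i0, O.n1_inv, mul_assoc]

variable {O}

theorem Dk.conj {k : ℕ} {p q : G} (h : O.Dk k p q) (x : G) : O.Dk k (x * p * x⁻¹) (x * q * x⁻¹) := by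
  obtain ⟨y, rfl, rfl⟩ := h
  exact ⟨x * y, by group, by group⟩

theorem Dk.symm {k : ℕ} {p q : G} (h : O.Dk k p q) : O.Dk k q p := by
  obtain ⟨y, rfl, rfl⟩ := h
  refine Dk.conj ⟨(O.n1 * O.n8) ^ (k : ℤ) * O.n8, ?_, ?_⟩ y
  · have h := O.c_zz k (-0)
    rw [← O.n8_zz, neg_zero, add_zero] at h
    rw [← h]; group
  · rw [← add_neg_cancel (k : ℤ), ← O.c_zz, ← O.n8_zz]; group

theorem Dk.left {k : ℕ} {p q : G} (h : O.Dk k p q) : O.Dk 0 p p := by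
  obtain ⟨y, h1, -⟩ := h
  exact ⟨y, h1, h1⟩

theorem Dk.eq {p q : G} (h : O.Dk 0 p q) : p = q := by
  obtain ⟨y, h1, h2⟩ := h
  exact h1.symm.trans h2

theorem Dk.sq {k : ℕ} {p q : G} (h : O.Dk k p q) : p * p = 1 := by
  obtain ⟨y, rfl, -⟩ := h
  calc y * O.zz 0 * y⁻¹ * (y * O.zz 0 * y⁻¹) = y * (O.zz 0 * O.zz 0) * y⁻¹ := by group
    _ = 1 := by rw [O.zz_sq]; group

theorem Dk.commute {k : ℕ} {p q : G} (h : O.Dk k p q) (hk : k ≤ 2) : Commute p q := by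
  obtain ⟨y, rfl, rfl⟩ := h
  have : Commute (O.zz 0) (O.zz k) := by
    interval_cases k
    · exact Commute.refl _
    · rw [Nat.cast_one, O.zz_zero, O.zz_one]; exact (O.r5_8 1 1).symm
    · rw [Nat.cast_ofNat, O.zz_zero, O.zz_two]; exact (O.r5_11 1 1).symm
  exact this.conj y

theorem Dk.third {p q : G} (h : O.Dk 1 p q) : O.Dk 1 p (p * q) := by
  obtain ⟨y, rfl, rfl⟩ := h
  have e : y * O.zz 0 * y⁻¹ * (y * O.zz (1 : ℕ) * y⁻¹) = y * (O.zz 0 * O.zz (1 : ℕ)) * y⁻¹ := by group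
  rw [e]
  refine Dk.conj ⟨O.g 0 1, ?_, ?_⟩ y
  · simp only [O.zz_zero, O.col]
  · simp only [Nat.cast_one, O.zz_zero, O.zz_one, O.col]

theorem NB.symm {p q r : G} (h : O.NB p q r) : O.NB r q p := by
  refine ⟨h.right.symm, h.left.symm, h.ne.symm, fun e => h.ne' ?_⟩
  rw [e, mul_assoc, h.right.sq, mul_one]

theorem NB.conj {p q r : G} (h : O.NB p q r) (x : G) : O.NB (x * p * x⁻¹) (x * q * x⁻¹) (x * r * x⁻¹) := by
  refine ⟨h.left.conj x, h.right.conj x, fun e => h.ne ?_, fun e => h.ne' ?_⟩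
  · exact mul_left_cancel (mul_right_cancel e)
  · have : x * p * x⁻¹ * (x * q * x⁻¹) = x * (p * q) * x⁻¹ := by group
    rw [this] at e
    exact mul_left_cancel (mul_right_cancel e)

end OP

end CfsgLib.F42
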