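import Mathlib
import Cfsg.Agent.Lib.F42.Pin2
import Cfsg.Agent.Lib.F42.ZZ
import Cfsg.Agent.Lib.Tech.Invol

/-! # F42: the Bruhat decomposition and the uniqueness of `G0` (package TITS) -/

set_option autoImplicit false
set_option Elab.async false
set_option linter.unusedSectionVars false

namespace CfsgLib.F42

open Subgroup
open scoped commutatorElement

variable {K : Type*} [Field K] [Finite K] {G : Type*} [Group G] [Finite G] {σ : K →+* K} {sz : Sz K}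

namespace Ti

/-- right multiplication by the generator `s` (`false : n1`, `true : n8`) -/
def rm (s : Bool) (w : ZMod 8 × Bool) : ZMod 8 × Bool :=
  if s then (if w.2 then (w.1 + 1, false) else (w.1 - 1, true)) else (w.1, !w.2)

/-- left multiplication by the generator `s` -/
def lm (s : Bool) (w : ZMod 8 × Bool) : ZMod 8 × Bool := if s then (-w.1 - 1, !w.2) else (-w.1, !w.2)

/-- the generator used in step `l` of the alternating word not ending in `s` -/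
def st (s : Bool) (l : ℕ) : Bool := if l % 2 = 0 then !s else s

def altW (s : Bool) : ℕ → ZMod 8 × Bool
  | 0 => (0, false)
  | l + 1 => lm (st s l) (altW s l)

def altT (s : Bool) : ℕ → List (Fin 12)
  | 0 => if s then [10, 11] else [0]
  | l + 1 => (altT s l).map (if st s l then p8 else p1)

theorem alt_ok : ∀ s, ∀ l < 7, ∀ j ∈ altT s l, if st s l then j < 10 else 0 < j := by decide

theorem alt_cover : ∀ s w, ∃ l < 8, w = altW s l ∨ w = rm s (altW s l) := by decide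

theorem alt_desc : ∀ w : ZMod 8 × Bool, w = (0, false) ∨ ∃ s, ∃ l < 8, w = rm s (altW s l) := by decide

end Ti

namespace OP

open Ti

variable (O : OP σ sz G)

/-- the elements of the Weyl group -/
def wd (w : ZMod 8 × Bool) : G := (O.n1 * O.n8) ^ w.1.val * (if w.2 then O.n1 else 1)

/-- the simple reflections -/
def ns (s : Bool) : G := if s then O.n8 else O.n1

theorem cz_add (hb : O.Braid) (k l : ZMod 8) :
    (O.n1 * O.n8) ^ (k + l).val = (O.n1 * O.n8) ^ k.val * (O.n1 * O.n8) ^ l.val := by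
  rw [ZMod.val_add, ← pow_add, ← pow_eq_pow_mod _ hb]

theorem cz_neg (hb : O.Braid) (k : ZMod 8) : (O.n1 * O.n8) ^ (-k).val = ((O.n1 * O.n8) ^ k.val)⁻¹ := by
  rw [eq_inv_iff_mul_eq_one, ← O.cz_add hb, neg_add_cancel, ZMod.val_zero, pow_zero]

theorem cz_one : (O.n1 * O.n8) ^ (1 : ZMod 8).val = O.n1 * O.n8 := pow_one _

theorem zz_n1_mul_c (k : ℕ) : O.n1 * (O.n1 * O.n8) ^ k = ((O.n1 * O.n8) ^ k)⁻¹ * O.n1 := by
  rw [← inv_pow, ← O.n1_c, conj_pow]; group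

theorem wd_rm (hb : O.Braid) (s : Bool) (w : ZMod 8 × Bool) : O.wd (rm s w) = O.wd w * O.ns s := by
  obtain ⟨k, e⟩ := w
  cases s <;> cases e <;> simp only [wd, rm, ns, Bool.not_true, Bool.not_false, if_true, if_false,
    Bool.false_eq_true, mul_one]
  · rw [mul_assoc, O.n1_sq, mul_one]
  · rw [sub_eq_add_neg, O.cz_add hb, O.cz_neg hb, O.cz_one, mul_inv_rev, O.n1_inv, O.n8_inv, mul_assoc, mul_assoc,
      O.n1_sq, mul_one]
  · rw [O.cz_add hb, O.cz_one, mul_assoc]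

theorem wd_lm (hb : O.Braid) (s : Bool) (w : ZMod 8 × Bool) : O.wd (lm s w) = O.ns s * O.wd w := by
  obtain ⟨k, e⟩ := w
  have h1 : ∀ e : Bool, (if (!e) = true then O.n1 else 1) = O.n1 * (if e = true then O.n1 else 1) := by
    intro e; cases e <;> simp [O.n1_sq]
  cases s <;> simp only [wd, lm, ns, if_true, if_false, Bool.false_eq_true, h1]
  · rw [O.cz_neg hb, ← mul_assoc, ← mul_assoc, O.zz_n1_mul_c]
  · have e8 : O.n8 = (O.n1 * O.n8)⁻¹ * O.n1 := by
      rw [mul_inv_rev, O.n8_inv, inv_mul_cancel_right]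
    rw [sub_eq_neg_add, O.cz_add hb, O.cz_neg hb, O.cz_neg hb, O.cz_one]
    conv_rhs => rw [e8, mul_assoc, ← mul_assoc O.n1, ← e8, O.zz_n1_mul_c]
    group

theorem alt_mv (hb : O.Braid) (s : Bool) (l : ℕ) (hl : l < 8) {x : G} (hx : x ∈ O.pat (altT s 0)) :
    O.wd (altW s l) * x * (O.wd (altW s l))⁻¹ ∈ O.pat (altT s l) := by
  induction l with
  | zero => simpa [wd, altW] using hx
  | succ l ih =>
    have h := ih (by omega)
    have ok := alt_ok s l (by omega)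
    have e : O.ns (st s l) * O.wd (altW s l) * x * (O.ns (st s l) * O.wd (altW s l))⁻¹ =
        O.ns (st s l) * (O.wd (altW s l) * x * (O.wd (altW s l))⁻¹) * (O.ns (st s l))⁻¹ := by group
    rw [altW, altT, O.wd_lm hb, e]
    cases hs : st s l
    · simp only [hs, Bool.false_eq_true, if_false] at ok ⊢
      exact (O.n1_conj ok).1 h
    · simp only [hs, if_true] at ok ⊢
      exact (O.n8_conj ok).1 h

theorem ns_sq (s : Bool) : O.ns s * O.ns s = 1 := by cases s; exacts [O.n1_sq, O.n8_sq]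

theorem ns_H (s : Bool) : O.ns s ∈ normalizer (O.H : Set G) := by
  refine Tech.mem_normalizer_of_forall ?_
  rintro _ ⟨⟨α, β⟩, rfl⟩
  cases s
  exacts [⟨_, (O.n1_h α β).symm⟩, ⟨_, (O.n8_h α β).symm⟩]

theorem wd_H (w : ZMod 8 × Bool) : O.wd w ∈ normalizer (O.H : Set G) := by
  refine mul_mem (pow_mem (mul_mem (O.ns_H false) (O.ns_H true)) _) ?_
  split_ifs
  exacts [O.ns_H false, one_mem _]

/-- the radical of the parabolic subgroup of type `s` -/
def rad (s : Bool) : Subgroup G := if s then O.Q else O.R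

theorem ns_rad (s : Bool) {x : G} (hx : x ∈ O.rad s) : (O.ns s)⁻¹ * x * O.ns s ∈ O.U := by
  cases s
  · have := (O.n1_conj (by decide)).1 hx
    rw [show (O.ns false)⁻¹ = O.n1 from O.n1_inv, show O.ns false = O.n1⁻¹ from O.n1_inv.symm]
    exact O.pat_le_U _ this
  · have := (O.n8_conj (by decide)).1 hx
    rw [show (O.ns true)⁻¹ = O.n8 from O.n8_inv, show O.ns true = O.n8⁻¹ from O.n8_inv.symm]
    exact O.pat_le_U _ this

theorem ti_H_rad (s : Bool) : O.H ≤ normalizer (O.rad s : Set G) := by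
  cases s <;> exact O.h_norm _

theorem ti_dec_U (s : Bool) {u : G} (hu : u ∈ O.U) : ∃ x ∈ O.pat (altT s 0), ∃ r ∈ O.rad s, u = x * r := by
  cases s
  · obtain ⟨t, r, hr, rfl⟩ := (O.mem_cons (by decide)).1 hu
    exact ⟨_, O.g_mem (by decide) t, r, hr, rfl⟩
  · obtain ⟨p, rfl⟩ := O.mem_U.1 hu
    have hb : O.g 10 (p 10) * O.g 11 (p 11) ∈ O.pat (altT true 0) :=
      mul_mem (O.g_mem (by decide) _) (O.g_mem (by decide) _)
    have hq : O.nf p * (O.g 10 (p 10) * O.g 11 (p 11))⁻¹ ∈ O.Q := by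
      simp only [OC.nf, nfg, ← mul_assoc, mul_inv_rev, mul_inv_cancel_right]
      repeat first | exact O.g_mem (by decide) _ | apply mul_mem
    refine ⟨_, hb, _, Tech.conj_mem_of_mem_normalizer' (O.pat_norm (A := [10, 11]) (by decide) hb) hq, by group⟩

theorem ti_h8_mem (l : Kˣ) : O.h8 l ∈ O.H := ⟨_, O.h_h8 l⟩

theorem ti_rank_one (s : Bool) {x : G} (hx : x ∈ O.pat (altT s 0)) (h1 : x ≠ 1) :
    ∃ u ∈ O.U, ∃ y ∈ O.H, ∃ u' ∈ O.U, O.ns s * x * O.ns s = u * y * O.ns s * u' := by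
  cases s
  · obtain ⟨t, r, hr, rfl⟩ := (O.mem_cons (k := 0) (S := []) (by decide)).1 hx
    rw [O.pat_nil, mem_bot] at hr
    subst hr
    rw [mul_one] at h1 ⊢
    have ht : t ≠ 0 := fun h => h1 (O.g_eq_one.2 h)
    have e : O.g 0 t = O.h (Units.mk0 t ht, 1) * O.g 0 1 * (O.h (Units.mk0 t ht, 1))⁻¹ := by
      rw [O.h_g]; simp [chi, chiT, mon]
    have hy : O.h (Units.mk0 t ht, 1) ∈ O.H := ⟨_, rfl⟩
    generalize O.h (Units.mk0 t ht, 1) = y at e hy
    have hy' : O.n1 * y * O.n1⁻¹ ∈ O.H := Tech.conj_mem_of_mem_normalizer (O.ns_H false) hy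
    have hu := Tech.conj_mem_of_mem_normalizer (O.h_norm _ hy') (O.g_mem_U 0 1)
    refine ⟨_, hu, O.n1 * y * O.n1⁻¹ * y⁻¹ , mul_mem hy' (inv_mem hy), _, hu, ?_⟩
    change O.n1 * O.g 0 t * O.n1 = _ * _ * O.n1 * _
    have h11 : ∀ x, O.n1 * (O.n1 * x) = x := fun x => by rw [← mul_assoc, O.n1_sq, one_mul]
    calc O.n1 * O.g 0 t * O.n1 = O.n1 * y * O.n1⁻¹ * (O.n1 * O.g 0 1 * O.n1) * (O.n1⁻¹ * y⁻¹ * O.n1) := by
          rw [e]; group
      _ = _ := by
          rw [O.n1_a]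
          simp only [mul_inv_rev, inv_inv, O.n1_inv, mul_assoc, h11, inv_mul_cancel_left]
  · obtain ⟨p, hp, rfl⟩ := (O.mem_pat (by decide)).1 hx
    have e : O.nf p = O.g 10 (p 10) * O.g 11 (p 11) := by
      simp only [OC.nf, nfg, hp 0 (by decide), hp 1 (by decide), hp 2 (by decide), hp 3 (by decide),
        hp 4 (by decide), hp 5 (by decide), hp 6 (by decide), hp 7 (by decide), hp 8 (by decide),
        hp 9 (by decide), O.g_zero, one_mul]
    rw [e] at h1 ⊢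
    exact ⟨_, O.mem_U.2 ⟨_, rfl⟩, _, O.ti_h8_mem _, _, O.mem_U.2 ⟨_, rfl⟩,
      O.suz _ _ fun h => h1 (by rw [h.1, h.2, O.g_zero, O.g_zero, one_mul])⟩

/-- the double coset `U H n U` -/
def Cell (n x : G) : Prop := ∃ u ∈ O.U, ∃ y ∈ O.H, ∃ u' ∈ O.U, x = u * y * n * u'

theorem cell_asc (s : Bool) {n : G} (ha : ∀ x ∈ O.pat (altT s 0), n * x * n⁻¹ ∈ O.U) {u y u' : G} (hu : u ∈ O.U)
    (hy : y ∈ O.H) (hu' : u' ∈ O.U) : O.Cell (n * O.ns s) (u * y * n * u' * O.ns s) := by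
  obtain ⟨x, hx, r, hr, rfl⟩ := O.ti_dec_U s hu'
  exact ⟨_, mul_mem hu (Tech.conj_mem_of_mem_normalizer (O.h_norm _ hy) (ha x hx)), y, hy, _, O.ns_rad s hr,
    by group⟩

theorem cell_desc (s : Bool) {n : G} (hn : n ∈ normalizer (O.H : Set G))
    (ha : ∀ x ∈ O.pat (altT s 0), n * x * n⁻¹ ∈ O.U) {g : G} (hg : O.Cell (n * O.ns s) g) :
    O.Cell n (g * O.ns s) ∨ O.Cell (n * O.ns s) (g * O.ns s) := by
  obtain ⟨u, hu, y, hy, u', hu', rfl⟩ := hg
  obtain ⟨x, hx, r, hr, rfl⟩ := O.ti_dec_U s hu'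
  by_cases h1 : x = 1
  · left
    refine ⟨u, hu, y, hy, _, O.ns_rad s hr, ?_⟩
    rw [h1, inv_eq_of_mul_eq_one_right (O.ns_sq s)]; group
  right
  obtain ⟨u1, hu1, y1, hy1, u2, hu2, e⟩ := O.ti_rank_one s hx h1
  obtain ⟨x1, hx1, r1, hr1, rfl⟩ := O.ti_dec_U s hu1
  refine ⟨_, mul_mem hu (Tech.conj_mem_of_mem_normalizer (O.h_norm _ hy) (ha x1 hx1)), _,
    mul_mem hy (Tech.conj_mem_of_mem_normalizer hn hy1), _,
    mul_mem (mul_mem (O.ns_rad s (Tech.conj_mem_of_mem_normalizer' (O.ti_H_rad s hy1) hr1)) hu2) (O.ns_rad s hr), ?_⟩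
  calc u * y * (n * O.ns s) * (x * r) * O.ns s = u * y * n * (O.ns s * x * O.ns s) * ((O.ns s)⁻¹ * r * O.ns s) := by
        group
    _ = _ := by rw [e]; group

theorem cell_ns (hb : O.Braid) (s : Bool) {g : G} (h : ∃ w, O.Cell (O.wd w) g) :
    ∃ w, O.Cell (O.wd w) (g * O.ns s) := by
  obtain ⟨w, h⟩ := h
  obtain ⟨l, hl, rfl | rfl⟩ := alt_cover s w
  · obtain ⟨u, hu, y, hy, u', hu', rfl⟩ := h
    refine ⟨rm s (altW s l), ?_⟩
    rw [O.wd_rm hb]
    exact O.cell_asc s (fun x hx => O.pat_le_U _ (O.alt_mv hb s l hl hx)) hu hy hu'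
  · rw [O.wd_rm hb] at h
    rcases O.cell_desc s (O.wd_H _) (fun x hx => O.pat_le_U _ (O.alt_mv hb s l hl hx)) h with h | h
    · exact ⟨_, h⟩
    · exact ⟨rm s (altW s l), by rwa [O.wd_rm hb]⟩

theorem cell_of_mem (hb : O.Braid) {x : G} (hx : x ∈ O.G0) : ∃ w, O.Cell (O.wd w) x := by
  let N : Subgroup G :=
    { carrier := {g | ∀ x, (∃ w, O.Cell (O.wd w) x) ↔ ∃ w, O.Cell (O.wd w) (x * g)}
      one_mem' := fun x => by rw [mul_one]
      mul_mem' := fun {a b} ha hb x => by rw [← mul_assoc, ← hb, ← ha]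
      inv_mem' := fun {a} ha x => by rw [ha (x * a⁻¹), inv_mul_cancel_right] }
  have mk : ∀ P : Subgroup G, (∀ g ∈ P, ∀ x, (∃ w, O.Cell (O.wd w) x) → ∃ w, O.Cell (O.wd w) (x * g)) → P ≤ N :=
    fun P h g hg x => ⟨h g hg x, fun hx => by simpa using h g⁻¹ (inv_mem hg) _ hx⟩
  have hU : O.U ≤ N := mk _ (by
    rintro g hg _ ⟨w, u, hu, y, hy, u', hu', rfl⟩
    exact ⟨w, u, hu, y, hy, _, mul_mem hu' hg, by group⟩)
  have hH : O.H ≤ N := mk _ (by
    rintro g hg _ ⟨w, u, hu, y, hy, u', hu', rfl⟩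
    exact ⟨w, u, hu, _, mul_mem hy (Tech.conj_mem_of_mem_normalizer (O.wd_H w) hg), _,
      Tech.conj_mem_of_mem_normalizer' (O.h_norm _ hg) hu', by group⟩)
  have hs : ∀ s, O.ns s ∈ N := fun s x =>
    ⟨O.cell_ns hb s, fun h => by simpa [mul_assoc, O.ns_sq] using O.cell_ns hb s h⟩
  have h0 : O.G0 ≤ N := sup_le (sup_le (sup_le (sup_le hU (by rintro _ ⟨l, rfl⟩; exact hH (O.ti_h8_mem l)))
    (zpowers_le.2 (hs true))) hH) (zpowers_le.2 (hs false))
  simpa using (h0 hx 1).1 ⟨(0, false), 1, one_mem _, 1, one_mem _, 1, one_mem _, by simp [wd]⟩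

theorem bruhat (hb : O.Braid) {x : G} (hx : x ∈ O.G0) : ∃ u ∈ O.U, ∃ y ∈ O.H, ∃ (k : ℕ) (e : Bool), k < 8 ∧
    ∃ u' ∈ O.U, x = u * y * ((O.n1 * O.n8) ^ k * (if e then O.n1 else 1)) * u' := by
  obtain ⟨w, u, hu, y, hy, u', hu', e⟩ := O.cell_of_mem hb hx
  exact ⟨u, hu, y, hy, w.1.val, w.2, ZMod.val_lt _, u', hu', e⟩

theorem ti_n8_11 : O.n8 * O.g 11 1 * O.n8⁻¹ ∉ O.U := fun h =>
  one_ne_zero ((O.g_mem_iff (by decide) (by decide)).1 (O.inf_n8 (O.g_mem_U 11 1) (mem_sup_left h)))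

theorem ti_n1_not_mem : O.n1 ∉ O.C := fun h => by
  have h1 := (O.C_cent_Z h O.τ_mem).eq
  have h2 := O.n1_g 5 (by decide) 1
  rw [h1, mul_inv_cancel_right] at h2
  exact one_ne_zero ((O.g_mem_iff (S := [5]) (j := 8) (by decide) (by decide)).1 (h2 ▸ O.τ_mem))

theorem wd_eq_of_norm (hb : O.Braid) {w : ZMod 8 × Bool} (h : O.wd w ∈ normalizer (O.U : Set G)) : w = (0, false) := by
  rcases alt_desc w with h0 | ⟨s, l, hl, rfl⟩
  · exact h0
  exfalso
  rw [O.wd_rm hb] at h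
  have key : ∀ x ∈ O.pat (altT s 0), (O.ns s)⁻¹ * x * O.ns s ∈ O.U := fun x hx => by
    have := Tech.conj_mem_of_mem_normalizer' h (O.pat_le_U _ (O.alt_mv hb s l hl hx))
    convert this using 1; group
  cases s
  · have := key _ (O.g_mem (by decide : (0 : Fin 12) ∈ altT false 0) 1)
    change O.n1⁻¹ * O.g 0 1 * O.n1 ∈ _ at this
    rw [O.n1_inv, O.n1_a] at this
    exact O.ti_n1_not_mem (O.U_le_C ((mul_mem_cancel_left (O.g_mem_U 0 1)).1
      ((mul_mem_cancel_right (O.g_mem_U 0 1)).1 this)))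
  · have := key _ (O.g_mem (by decide : (11 : Fin 12) ∈ altT true 0) 1)
    change O.n8⁻¹ * O.g 11 1 * O.n8 ∈ _ at this
    apply O.ti_n8_11
    rwa [O.n8_inv] at this ⊢

theorem ti_h_eq_one {x : Kˣ × Kˣ} (h : O.h x ∈ O.U) : x = 1 := by
  obtain ⟨k, hk⟩ := Tech.isPGroup_iff_mem.1 (O.isPGroup_pat _) _ h
  have ho : Odd (Nat.card (Kˣ × Kˣ)) := by rw [Nat.card_prod]; exact O.odd_units.mul O.odd_units
  have h1 : O.h x ^ Nat.card (Kˣ × Kˣ) = 1 := by rw [← map_pow, pow_card_eq_one', map_one]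
  have h2 : O.h x = 1 := by
    have := Nat.dvd_gcd (orderOf_dvd_of_pow_eq_one hk) (orderOf_dvd_of_pow_eq_one h1)
    rwa [((Nat.coprime_two_left.2 ho).pow_left k).gcd_eq_one, Nat.dvd_one, orderOf_eq_one_iff] at this
  have h3 : ∀ j, chi σ j x.1 x.2 = 1 := fun j => by
    have := O.h_g x.1 x.2 j 1
    rw [show O.h (x.1, x.2) = 1 from h2, one_mul, inv_one, mul_one, mul_one] at this
    exact (O.g_inj j this).symm
  apply O.chi_bij.1
  ext <;> simp only [Units.val_mk0, h3] <;> simp [chi, mon]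

theorem ti_equiv_of {Γ : Type*} [Group Γ] [Finite Γ] (D : OP σ sz Γ) (f : Γ →* G) (hD : D.Braid) (hb : O.Braid)
    (fg : ∀ j t, f (D.g j t) = O.g j t) (f8 : f D.n8 = O.n8) (f1 : f D.n1 = O.n1) (fh : ∀ x, f (D.h x) = O.h x) :
    Nonempty (D.G0 ≃* O.G0) := by
  have fp : ∀ S, (D.pat S).map f = O.pat S := fun S => by
    rw [OC.pat, OC.pat, MonoidHom.map_closure]
    congr 1
    ext x
    constructor
    · rintro ⟨_, ⟨j, hj, t, rfl⟩, rfl⟩; exact ⟨j, hj, t, (fg j t).symm⟩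
    · rintro ⟨j, hj, t, rfl⟩; exact ⟨_, ⟨j, hj, t, rfl⟩, fg j t⟩
  have fH : D.H.map f = O.H := by
    rw [OT.H, MonoidHom.map_range]; congr 1; exact MonoidHom.ext fh
  have fH8 : D.H8.map f = O.H8 := by
    rw [OC.H8, MonoidHom.map_range]; congr 1
    exact MonoidHom.ext fun l => by rw [MonoidHom.comp_apply, ← D.h_h8, fh, O.h_h8]
  have f0 : D.G0.map f = O.G0 := by
    simp only [G0, OC.C, Subgroup.map_sup, fp, fH, fH8, MonoidHom.map_zpowers, f8, f1]
  have fU : ∀ u ∈ D.U, f u ∈ O.U := fun u hu => (fp _).le (mem_map_of_mem f hu)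
  have ker : ∀ x ∈ D.G0, f x = 1 → x = 1 := by
    intro x hx h1
    obtain ⟨w, u, hu, _, ⟨y, rfl⟩, u', hu', rfl⟩ := D.cell_of_mem hD hx
    have fw : f (D.wd w) = O.wd w := by
      simp only [wd, map_mul, map_pow, f1, f8]; split_ifs <;> simp [f1]
    simp only [map_mul, fw, fh] at h1
    have e : O.wd w = (O.h y)⁻¹ * ((f u)⁻¹ * (f u')⁻¹) := by
      calc O.wd w = (O.h y)⁻¹ * (f u)⁻¹ * (f u * O.h y * O.wd w * f u') * (f u')⁻¹ := by group
        _ = _ := by rw [h1]; group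
    have hw : w = (0, false) := O.wd_eq_of_norm hb (e ▸ mul_mem (inv_mem (O.h_norm _ ⟨y, rfl⟩))
      (le_normalizer (mul_mem (inv_mem (fU u hu)) (inv_mem (fU u' hu')))))
    subst hw
    have w1 : O.wd (0, false) = 1 := by simp [wd]
    have w2 : D.wd (0, false) = 1 := by simp [wd]
    rw [w1, eq_comm, inv_mul_eq_one] at e
    have hy : y = 1 := O.ti_h_eq_one (e ▸ mul_mem (inv_mem (fU u hu)) (inv_mem (fU u' hu')))
    subst hy
    rw [w1, map_one, mul_one, mul_one, ← map_mul] at h1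
    rw [w2, map_one, mul_one, mul_one]
    obtain ⟨p, hp⟩ := D.mem_U.1 (mul_mem hu hu')
    have e2 : O.nf p = O.nf 0 := by
      have : f (D.nf p) = O.nf p := by simp only [OC.nf, nfg, map_mul, fg]
      rw [← this, ← hp, h1]; simp [OC.nf, nfg, O.g_zero]
    rw [hp, O.inj e2]; simp [OC.nf, nfg, D.g_zero]
  refine ⟨MulEquiv.ofBijective ((f.comp D.G0.subtype).codRestrict O.G0 fun x => f0.le (mem_map_of_mem f x.2)) ⟨?_, ?_⟩⟩
  · rw [injective_iff_map_eq_one]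
    exact fun x hx => Subtype.ext (ker x x.2 (congrArg Subtype.val hx))
  · rintro ⟨x, hx⟩
    rw [← f0] at hx
    obtain ⟨y, hy, rfl⟩ := hx
    exact ⟨⟨y, hy⟩, rfl⟩

theorem ti_ev_prod {G' : Type*} [Group G'] (g : Fin 12 → K → G) (g' : Fin 12 → K → G') (L : List (Fin 12 × K)) :
    ev (fun j t => (g j t, g' j t)) L = (ev g L, ev g' L) := by
  induction L with
  | nil => rfl
  | cons a L ih => exact (congrArg (fun x => (g a.1 a.2, g' a.1 a.2) * x) ih).trans rfl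

/-- the diagonal coordinates -/
def diag {G' : Type*} [Group G'] (O' : OP σ sz G') : OP σ sz (G × G') where
  g j t := (O.g j t, O'.g j t)
  n8 := (O.n8, O'.n8)
  h8 := O.h8.prod O'.h8
  ss := O.ss
  add j t u := by rw [ti_ev_prod]; exact Prod.ext (O.add j t u) (O'.add j t u)
  rel j k h t u := by rw [ti_ev_prod]; exact Prod.ext (O.rel j k h t u) (O'.rel j k h t u)
  inj p p' e := O.inj (congrArg Prod.fst e)
  n8_sq := Prod.ext O.n8_sq O'.n8_sq
  n8_g j h t := Prod.ext (O.n8_g j h t) (O'.n8_g j h t)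
  h8_g l j t := Prod.ext (O.h8_g l j t) (O'.h8_g l j t)
  n8_h8 l := Prod.ext (O.n8_h8 l) (O'.n8_h8 l)
  suz s u h := Prod.ext (O.suz s u h) (O'.suz s u h)
  h := O.h.prod O'.h
  h_g α β j t := Prod.ext (O.h_g α β j t) (O'.h_g α β j t)
  h_h8 l := Prod.ext (O.h_h8 l) (O'.h_h8 l)
  n8_h α β := Prod.ext (O.n8_h α β) (O'.n8_h α β)
  n1 := (O.n1, O'.n1)
  n1_sq := Prod.ext O.n1_sq O'.n1_sq
  n1_g j h t := Prod.ext (O.n1_g j h t) (O'.n1_g j h t)
  tri := Prod.ext O.tri O'.tri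
  n1_h α β := Prod.ext (O.n1_h α β) (O'.n1_h α β)

theorem equiv {G' : Type*} [Group G'] [Finite G'] (O' : OP σ sz G') (hb : O.Braid) (hb' : O'.Braid) :
    Nonempty (O.G0 ≃* O'.G0) := by
  have hD : (O.diag O').Braid := Prod.ext hb hb'
  obtain ⟨e⟩ := O.ti_equiv_of (O.diag O') (MonoidHom.fst _ _) hD hb (fun _ _ => rfl) rfl rfl fun _ => rfl
  obtain ⟨e'⟩ := O'.ti_equiv_of (O.diag O') (MonoidHom.snd _ _) hD hb' (fun _ _ => rfl) rfl rfl fun _ => rfl
  exact ⟨e.symm.trans e'⟩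

theorem zz_s1 {i j : ℤ} {S T : List (Fin 12)} (h : O.zz i ∈ O.pat S) (hS : ∀ j ∈ S, 0 < j) (hT : S.map p1 = T)
    (e : 1 - i = j) : O.zz j ∈ O.pat T := by
  rw [← e, ← hT, ← O.n1_zz]; exact (O.n1_conj hS).1 h

theorem zz_s8 {i j : ℤ} {S T : List (Fin 12)} (h : O.zz i ∈ O.pat S) (hS : ∀ j ∈ S, j < 10) (hT : S.map p8 = T)
    (e : -i = j) : O.zz j ∈ O.pat T := by
  rw [← e, ← hT, ← O.n8_zz]; exact (O.n8_conj hS).1 h

theorem zz_not_mem (i : ℤ) (h1 : 1 ≤ i) (h4 : i ≤ 4) : O.zz i ∉ O.Z ∧ O.zz (-i) ∉ O.Z := by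
  have main : O.zz i ∉ O.Z := by
    intro h
    interval_cases i
    · rw [O.zz_one, O.g_mem_iff (by decide) (by decide)] at h; exact one_ne_zero h
    · rw [O.zz_two, O.g_mem_iff (by decide) (by decide)] at h; exact one_ne_zero h
    · have a := O.zz_s1 (j := -2) (T := [8]) h (by decide) (by decide) (by decide)
      have b := O.zz_s8 (j := 2) (T := [2]) a (by decide) (by decide) (by decide)
      rw [O.zz_two, O.g_mem_iff (by decide) (by decide)] at b; exact one_ne_zero b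
    · have a := O.zz_s1 (j := -3) (T := [8]) h (by decide) (by decide) (by decide)
      have b := O.zz_s8 (j := 3) (T := [2]) a (by decide) (by decide) (by decide)
      have c := O.zz_s1 (j := -2) (T := [11]) b (by decide) (by decide) (by decide)
      rw [O.zz_neg_two] at c
      exact O.ti_n8_11 (O.pat_le_U _ c)
  exact ⟨main, fun h => main (O.zz_s8 h (by decide) (by decide) (neg_neg i))⟩

theorem zz_mem (hb : O.Braid) {k : ℕ} (hk : k ≤ 8) (h : O.zz k ∈ O.Z) : k = 0 ∨ k = 8 := by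
  have e : ∀ i, O.zz (i + 8) = O.zz i := fun i => by
    rw [add_comm, ← O.c_zz, show (O.n1 * O.n8) ^ (8 : ℤ) = 1 from (zpow_natCast _ 8).trans hb]; group
  by_contra hc
  by_cases h4 : k ≤ 4
  · exact (O.zz_not_mem k (by omega) (by omega)).1 h
  · refine (O.zz_not_mem (8 - k) (by omega) (by omega)).2 ?_
    rw [← e, show -(8 - (k : ℤ)) + 8 = k by ring]; exact h

theorem ti_C_le_G0 : O.C ≤ O.G0 := le_sup_left.trans le_sup_left

theorem ti_H_le_G0 : O.H ≤ O.G0 := le_sup_right.trans le_sup_left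

theorem ti_h_mem_H8 {α β : Kˣ} (h : chi σ 5 α β = 1) : O.h (α, β) ∈ O.H8 := by
  have := O.charP
  have h1 : σ α * β * σ β = 1 := O.n_eq_one (by
    refine Eq.trans ?_ h; simp only [chi, chiT, mon, map_mul, O.ss]; simp; ring)
  obtain ⟨l, hl⟩ := O.sig_surj (β : K)⁻¹
  have l0 : l ≠ 0 := by
    rintro rfl
    exact inv_ne_zero β.ne_zero (hl.symm.trans (map_zero σ))
  refine ⟨Units.mk0 l l0, ?_⟩
  rw [← O.h_h8]
  congr 2
  · ext
    apply σ.injective
    have hb : (β : K) = (σ l)⁻¹ := by rw [hl, inv_inv]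
    have l1 : σ l ≠ 0 := by simpa using l0
    rw [hb, map_inv₀, O.ss] at h1
    simp only [Units.val_mul, Units.val_mk0, su_val, map_mul, O.ss]
    field_simp at h1
    rw [h1]
  · ext; simp [hl]

theorem cent_τ (hb : O.Braid) : O.G0 ⊓ centralizer ({O.τ} : Set G) = O.C := by
  refine le_antisymm (fun x ⟨hx, hc⟩ => ?_) fun x hx =>
    ⟨O.ti_C_le_G0 hx, mem_centralizer_singleton_iff.2 (O.C_cent_Z hx O.τ_mem).eq⟩
  obtain ⟨⟨k, e⟩, u, hu, y, ⟨⟨α, β⟩, rfl⟩, u', hu', rfl⟩ := O.cell_of_mem hb hx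
  have c0 := mem_centralizer_singleton_iff.1 hc
  have c1 := (O.C_cent_Z (O.U_le_C hu) O.τ_mem).eq
  have c2 := (O.C_cent_Z (O.U_le_C hu') O.τ_mem).eq
  have e1 : O.h (α, β) * (O.wd (k, e) * O.τ * (O.wd (k, e))⁻¹) * (O.h (α, β))⁻¹ = O.τ := by
    calc _ = u⁻¹ * (u * O.h (α, β) * O.wd (k, e) * (O.τ * u')) * (u * O.h (α, β) * O.wd (k, e) * u')⁻¹ * u := by group
      _ = u⁻¹ * (O.τ * u) := by rw [← c2, ← mul_assoc _ u', c0]; group
      _ = _ := by rw [← c1]; group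
  have hz : O.wd (k, e) * O.τ * (O.wd (k, e))⁻¹ ∈ O.Z := by
    have := Tech.conj_mem_of_mem_normalizer' (O.h_norm [5] ⟨(α, β), rfl⟩) O.τ_mem
    rw [← e1] at this
    convert this using 1; group
  have hn : O.wd (k, e) ∈ O.C := by
    have hk := ZMod.val_lt k
    cases e
    · have : O.zz k.val ∈ O.Z := by simpa only [wd, zz, zpow_natCast, Bool.false_eq_true, if_false, mul_one] using hz
      rcases O.zz_mem hb hk.le this with h | h
      · simp [wd, h]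
      · omega
    · have : O.zz (k.val + 1 : ℕ) ∈ O.Z := by
        rw [Nat.cast_succ, ← O.c_zz, ← sub_zero 1, ← O.n1_zz, O.zz_zero]
        convert hz using 1
        simp only [wd, if_true, zpow_natCast]; group
      rcases O.zz_mem hb hk this with h | h
      · omega
      · have h7 : k.val = 7 := by omega
        have : O.wd (k, true) = O.n8 := by
          have h8 : (O.n1 * O.n8) ^ 7 * O.n1 * O.n8 = 1 := by rw [mul_assoc, ← pow_succ]; exact hb
          simp only [wd, if_true, h7]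
          rw [eq_inv_of_mul_eq_one_left h8, O.n8_inv]
        rw [this]; exact O.n8_mem_C
  rw [(O.C_cent_Z hn O.τ_mem).eq, mul_inv_cancel_right, O.h_g, mul_one] at e1
  obtain ⟨l, hl⟩ := O.ti_h_mem_H8 (O.g_inj 5 e1)
  exact mul_mem (mul_mem (mul_mem (O.U_le_C hu) (hl ▸ O.h8_mem_C l)) hn) (O.U_le_C hu')

theorem ti_conj_Z {z : G} (hz : z ∈ O.Z) (h1 : z ≠ 1) : ∃ y ∈ O.H, y * O.τ * y⁻¹ = z := by
  obtain ⟨t, rfl⟩ := O.mem_Z.1 hz
  have ht : t ≠ 0 := fun h => h1 (O.g_eq_one.2 h)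
  obtain ⟨⟨α, β⟩, h⟩ := O.chi_bij.2 (Units.mk0 t ht, 1)
  refine ⟨_, ⟨(α, β), rfl⟩, ?_⟩
  rw [O.h_g, mul_one]
  exact congrArg _ (congrArg Units.val (congrArg Prod.fst h))

theorem ti_cent_U_mem {z : G} (hz : z ∈ O.Z) {u : G} (hu : u ∈ O.U) : Commute z u :=
  (O.C_cent_Z (O.U_le_C hu) hz).symm

theorem syl_G0 (hb : O.Braid) {P : Subgroup G} (hP : IsPGroup 2 P) (h0 : P ≤ O.G0) (hU : O.U ≤ P) :
    P = O.U := by
  by_contra hne
  obtain ⟨n, hn, hnU, hnn⟩ := Tech.exists_mem_normalizer_of_lt hP (lt_of_le_of_ne hU (Ne.symm hne))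
  have hZ : P ⊓ normalizer (O.U : Set G) ≤ normalizer (O.Z : Set G) := fun x hx =>
    Tech.mem_normalizer_of_forall fun z hz =>
      O.center_U (Tech.conj_mem_of_mem_normalizer hx.2 (O.pat_le_U _ hz)) fun y hy => by
        have := (O.ti_cent_U_mem hz (Tech.conj_mem_of_mem_normalizer' hx.2 hy)).conj x
        convert this using 1; group
  obtain ⟨z, hz, ho, hc⟩ := Tech.exists_mem_center_of_normalized (hP.to_le inf_le_left)
    (le_inf ((O.pat_le_U _).trans hU) ((O.pat_le_U _).trans le_normalizer)) hZ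
    (fun h => O.τ_ne (mem_bot.1 (h ▸ O.τ_mem)))
  obtain ⟨y, hy, rfl⟩ := O.ti_conj_Z hz (by rintro rfl; simp at ho)
  have h1 : y⁻¹ * n * y ∈ O.C := by
    rw [← O.cent_τ hb]
    refine ⟨O.G0.mul_mem (O.G0.mul_mem (O.G0.inv_mem (O.ti_H_le_G0 hy)) (h0 hn)) (O.ti_H_le_G0 hy), mem_centralizer_singleton_iff.2 ?_⟩
    calc y⁻¹ * n * y * O.τ = y⁻¹ * (n * (y * O.τ * y⁻¹)) * y := by group
      _ = _ := by rw [hc n ⟨hn, hnn⟩]; group
  have h2 : n ∈ O.C := by
    rw [← O.cent_τ hb]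
    refine ⟨h0 hn, mem_centralizer_singleton_iff.2 ?_⟩
    have := ((O.C_cent_Z h1 (Tech.conj_mem_of_mem_normalizer' (O.h_norm [5] hy) O.τ_mem)).conj y).eq
    convert this using 1 <;> group
  exact hnU (O.syl_C (hP.to_le (inf_le_left : P ⊓ O.C ≤ P)) inf_le_right (le_inf hU O.U_le_C) ▸ ⟨hn, h2⟩)

theorem two_central (hb : O.Braid) (hG : O.G0 = ⊤) (S : Sylow 2 G) {z : G} (hz : orderOf z = 2)
    (hS : z ∈ (S : Subgroup G)) (hc : ∀ u ∈ (S : Subgroup G), u * z = z * u) : ∃ x, x * O.τ * x⁻¹ = z := by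
  obtain ⟨S', hS'⟩ := (O.isPGroup_pat [0, 1, 2, 3, 4, 5, 6, 7, 8, 9, 10, 11]).exists_le_sylow
  have e : (S' : Subgroup G) = O.U := O.syl_G0 hb S'.isPGroup' (hG ▸ le_top) hS'
  obtain ⟨g, rfl⟩ := MulAction.exists_smul_eq G S' S
  rw [Tech.coe_smul_sylow, e] at hS hc
  have hz' : g⁻¹ * z * g ∈ O.Z := O.center_U (Tech.mem_cj.1 hS) fun y hy => by
    have := (show Commute z (g * y * g⁻¹) from (hc _ (Tech.conj_mem_cj.2 hy)).symm).conj g⁻¹
    convert this using 1 <;> group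
  obtain ⟨y, -, hy⟩ := O.ti_conj_Z hz' fun h => by
    have : z = 1 := by
      calc z = g * (g⁻¹ * z * g) * g⁻¹ := by group
        _ = 1 := by rw [h]; group
    simp [this] at hz
  refine ⟨g * y, ?_⟩
  calc g * y * O.τ * (g * y)⁻¹ = g * (y * O.τ * y⁻¹) * g⁻¹ := by group
    _ = z := by rw [hy]; group

end OP

end CfsgLib.F42
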