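import Mathlib
import Cfsg.Agent.Lib.F42.Inv
import Cfsg.Agent.Lib.F42.Pin2

/-! # F42: the two classes of involutions -/

set_option autoImplicit false
set_option Elab.async false
set_option linter.unusedSectionVars false

namespace CfsgLib.F42

open Subgroup CfsgLib.Tech
open scoped commutatorElement

variable {K : Type*} [Field K] [Finite K] {G : Type*} [Group G] [Finite G] {σ : K →+* K} {sz : Sz K}

namespace OP

variable (O : OP σ sz G)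

theorem C_le_G0 : O.C ≤ O.G0 := le_sup_left.trans le_sup_left

theorem H_le_G0 : O.H ≤ O.G0 := le_sup_right.trans le_sup_left

theorem n1_mem_G0 : O.n1 ∈ O.G0 := mem_sup_right (mem_zpowers _)

/-- conjugacy in `G0` -/
def CG (a b : G) : Prop := ∃ y ∈ O.G0, y * a * y⁻¹ = b

theorem CG.symm {O : OP σ sz G} {a b : G} (h : O.CG a b) : O.CG b a := by
  obtain ⟨y, hy, rfl⟩ := h
  exact ⟨y⁻¹, inv_mem hy, by group⟩

theorem CG.trans {O : OP σ sz G} {a b c : G} (h : O.CG a b) (k : O.CG b c) : O.CG a c := by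
  obtain ⟨y, hy, rfl⟩ := h
  obtain ⟨x, hx, rfl⟩ := k
  exact ⟨x * y, mul_mem hx hy, by group⟩

theorem cls_Z {t : K} (ht : t ≠ 0) : O.CG O.τ (O.g 5 t) := by
  obtain ⟨⟨α, β⟩, e⟩ := O.chi_bij.2 (Units.mk0 t ht, 1)
  have e1 : chi σ 5 α β = t := congrArg (fun x => (x.1 : K)) e
  exact ⟨_, O.H_le_G0 ⟨(α, β), rfl⟩, by rw [O.h_g, e1, mul_one]⟩

theorem cls_6 {t : K} (ht : t ≠ 0) : O.CG (O.g 6 1) (O.g 6 t) := by
  obtain ⟨u, rfl⟩ := O.n_surj t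
  exact ⟨_, O.H_le_G0 ⟨(Units.mk0 u (left_ne_zero_of_mul ht), 1), rfl⟩, by
    rw [O.h_g]; simp [chi, mon, chiT]⟩

theorem cls_9 {t : K} (ht : t ≠ 0) : O.CG (O.g 6 1) (O.g 9 t) :=
  ((O.cls_6 ht).trans ⟨_, O.C_le_G0 O.n8_mem_C, O.n8_g 6 (by decide) t⟩).trans
    ⟨_, O.n1_mem_G0, O.n1_g 3 (by decide) t⟩

theorem cls_511 {s t : K} (hs : s ≠ 0) (ht : t ≠ 0) : O.CG (O.g 6 1) (O.g 5 s * O.g 11 t) := by
  obtain ⟨c, hc, r, hr, e⟩ := O.conj_26 hs ht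
  refine (((O.cls_6 hr).trans (CG.symm ⟨c, O.C_le_G0 hc, e⟩)).trans
    ⟨_, O.C_le_G0 O.n8_mem_C, rfl⟩).trans ⟨_, O.n1_mem_G0, ?_⟩
  rw [← conj_mul (a := O.g 2 s), O.n8_g 2 (by decide), O.n8_g 8 (by decide), ← conj_mul,
    O.n1_g _ (by decide), O.n1_g _ (by decide)]
  rfl

theorem conj_V {v : G} (hv : v ∈ O.V) (h1 : v ≠ 1) : ∃ y ∈ O.G0, y * O.τ * y⁻¹ = v := by
  obtain ⟨s, t, rfl⟩ := O.mem_V.1 hv
  by_cases ht : t = 0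
  · rw [ht, O.g_zero, mul_one] at h1 ⊢
    exact O.cls_Z fun e => h1 (O.g_eq_one.2 e)
  · refine ((O.cls_Z ht).trans ⟨_, O.n1_mem_G0, O.n1_g 5 (by decide) t⟩).trans
      ⟨O.g 0 (s / t), O.C_le_G0 (O.g_mem_C _ _), ?_⟩
    have := O.fus_a1 (s / t) 0 t
    rwa [O.g_zero, one_mul, zero_add, div_mul_cancel₀ s ht] at this

/-- the involutions of `C` up to conjugacy in `G0` -/
theorem inv_C {t : G} (ht : t ∈ O.C) (h2 : t * t = 1) (h1 : t ≠ 1) :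
    (∃ y ∈ O.G0, y * O.τ * y⁻¹ = t) ∨ ∃ y ∈ O.G0, y * O.g 6 1 * y⁻¹ = t := by
  obtain ⟨c, hc, h⟩ := O.classes ht h2
  have hc' : O.CG (c * t * c⁻¹) t := CG.symm ⟨c, O.C_le_G0 hc, rfl⟩
  rcases h with e | ⟨r, hr, e⟩ | ⟨r, hr, e⟩ | ⟨s, r, hr, e⟩
  · exact .inl (CG.trans (O.conj_V e (by simpa using h1)) hc')
  · exact .inr (CG.trans (O.cls_6 hr) (e ▸ hc'))
  · exact .inr (CG.trans (O.cls_9 hr) (e ▸ hc'))
  · by_cases hs : s = 0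
    · rw [hs, O.g_zero, one_mul] at e
      exact .inl (((CG.trans (O.conj_V (O.g_mem (by decide) r) fun k => hr (O.g_eq_one.1 k))
        ⟨_, O.C_le_G0 O.n8_mem_C, O.n8_g 8 (by decide) r⟩).trans
        ⟨_, O.n1_mem_G0, O.n1_g 2 (by decide) r⟩).trans (e ▸ hc'))
    · exact .inr (CG.trans (O.cls_511 hs hr) (e ▸ hc'))

theorem conj9 {t : K} (ht : t ≠ 0) : ∃ y ∈ O.G0, y * O.g 6 1 * y⁻¹ = O.g 9 t := by
  exact O.cls_9 ht

theorem conj511 {s t : K} (hs : s ≠ 0) (ht : t ≠ 0) : ∃ y ∈ O.G0, y * O.g 6 1 * y⁻¹ = O.g 5 s * O.g 11 t := by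
  exact O.cls_511 hs ht

theorem inv_G0 (H : O.Hyp) {L : Subgroup G} (hL : O.G0 ≤ L) {t : G} (ht : t ∈ L) (h2 : t * t = 1) (h1 : t ≠ 1) :
    (∃ y ∈ L, y * O.τ * y⁻¹ = t) ∨ ∃ y ∈ L, y * O.g 6 1 * y⁻¹ = t := by
  obtain ⟨l, hl, e⟩ := H.exists_conj (P := zpowers t)
    (isPGroup_zpowers_of_pow (k := 1) (by rw [pow_one, sq, h2])) (zpowers_le.2 ht)
    (O.U_le_C.trans (O.C_le_G0.trans hL))
  refine (O.inv_C (O.U_le_C (e t (mem_zpowers t))) (by rw [conj_mul, h2]; simp)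
    (by simpa using h1)).imp ?_ ?_ <;>
  exact fun ⟨y, hy, k⟩ => ⟨l⁻¹ * y, mul_mem (inv_mem hl) (hL hy), by
    rw [mul_inv_rev, mul_assoc l⁻¹, mul_assoc l⁻¹, ← mul_assoc _ y⁻¹, k]; group⟩

theorem fus_G0 (H : O.Hyp) {x : G} (h : x * O.τ * x⁻¹ ∈ O.G0) : ∃ y ∈ O.G0, y * O.τ * y⁻¹ = x * O.τ * x⁻¹ := by
  refine (O.inv_G0 H le_rfl h (by rw [conj_mul, O.τ_sq]; simp) (by simpa using O.τ_ne)).resolve_right ?_
  rintro ⟨y, -, e⟩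
  exact H.not_conj6 one_ne_zero (y⁻¹ * x) (by
    rw [mul_inv_rev, mul_assoc y⁻¹, mul_assoc y⁻¹, ← mul_assoc _ x⁻¹, ← e]; group)

end OP

end CfsgLib.F42
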