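import Mathlib
import Cfsg.Agent.Lib.F42.Cls
import Cfsg.Agent.Lib.F42.ZZ

/-! # F42: points and paths for `q = 2` (package GEO1) -/

set_option autoImplicit false
set_option Elab.async false
set_option linter.unusedSectionVars false

namespace CfsgLib.F42

open Subgroup
open scoped commutatorElement

variable {K : Type*} [Field K] [Finite K] {G : Type*} [Group G] [Finite G] {σ : K →+* K} {sz : Sz K}

theorem geo_cj {a b x : G} (h : x * a * x⁻¹ = x * b * x⁻¹) : a = b := mul_left_cancel (mul_right_cancel h)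

theorem geo_fix {a x : G} (h : Commute x a) : x * a * x⁻¹ = a := by rw [h.eq, mul_inv_cancel_right]

theorem geo_comm {a x : G} (h : x * a * x⁻¹ = a) : Commute x a := mul_inv_eq_iff_eq_mul.1 h

theorem geo_norm {P : Subgroup G} {x a : G} (h : x ∈ normalizer (P : Set G)) (ha : a ∈ P) : x * a * x⁻¹ ∈ P :=
  (mem_normalizer_iff.1 h a).1 ha

theorem geo_norm' {P : Subgroup G} {x a : G} (h : x ∈ normalizer (P : Set G)) (ha : a ∈ P) : x⁻¹ * a * x ∈ P := by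
  simpa using geo_norm (inv_mem h) ha

namespace OP

section
variable (O : OP σ sz G)

/-- the pattern subgroup `S` centralises `zz i` -/
def CZ (S : List (Fin 12)) (i : ℤ) : Prop := ∀ x ∈ O.pat S, Commute x (O.zz i)

variable {O}

theorem CZ.of1 {S T : List (Fin 12)} {i j : ℤ} (h : O.CZ T j) (hS : ∀ j ∈ S, 0 < j) (hT : S.map p1 = T)
    (e : 1 - i = j) : O.CZ S i := fun x hx => by
  have := h _ (hT ▸ (O.n1_conj hS).1 hx)
  rw [← e, ← O.n1_zz] at this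
  exact (Commute.conj_iff _).1 this

theorem CZ.of8 {S T : List (Fin 12)} {i j : ℤ} (h : O.CZ T j) (hS : ∀ j ∈ S, j < 10) (hT : S.map p8 = T)
    (e : -i = j) : O.CZ S i := fun x hx => by
  have := h _ (hT ▸ (O.n8_conj hS).1 hx)
  rw [← e, ← O.n8_zz] at this
  exact (Commute.conj_iff _).1 this

theorem cz0 {S : List (Fin 12)} (h : Cl S [5] []) : O.CZ S 0 := fun _ hx =>
  O.zz_zero ▸ O.commute_pat h hx (O.g_mem (by decide) 1)

theorem cz1 {S : List (Fin 12)} (h : Cl S [8] []) : O.CZ S 1 := fun _ hx =>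
  O.zz_one ▸ O.commute_pat h hx (O.g_mem (by decide) 1)

theorem cz2 {S : List (Fin 12)} (h : Cl S [11] []) : O.CZ S 2 := fun _ hx =>
  O.zz_two ▸ O.commute_pat h hx (O.g_mem (by decide) 1)

theorem czm {S : List (Fin 12)} (h : Cl S [2] []) : O.CZ S (-1) := fun _ hx =>
  O.zz_neg_one ▸ O.commute_pat h hx (O.g_mem (by decide) 1)

theorem cz_a7 (i : ℤ) (h0 : 0 ≤ i) (h3 : i ≤ 3) : O.CZ [9] i := by
  interval_cases i
  · exact cz0 (by decide)
  · exact cz1 (by decide)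
  · exact cz2 (by decide)
  · exact (((cz2 (S := [6]) (by decide)).of8 (S := [3]) (i := -2) (by decide) (by decide) (by decide)).of1
      (by decide) (by decide) (by decide))

theorem cz_u8 (i : ℤ) (h0 : 0 ≤ i) (h4 : i ≤ 4) : O.CZ [10, 11] i := by
  interval_cases i
  · exact cz0 (by decide)
  · exact cz1 (by decide)
  · exact cz2 (by decide)
  · exact (((cz2 (S := [7, 8]) (by decide)).of8 (S := [1, 2]) (i := -2) (by decide) (by decide) (by decide)).of1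
      (by decide) (by decide) (by decide))
  · exact (((((cz2 (S := [4, 5]) (by decide)).of8 (S := [4, 5]) (i := -2) (by decide) (by decide) (by decide)).of1
      (S := [7, 8]) (i := 3) (by decide) (by decide) (by decide)).of8 (S := [1, 2]) (i := -3) (by decide) (by decide)
      (by decide)).of1 (by decide) (by decide) (by decide))

theorem pt_iff {p : G} : O.Dk 0 p p ↔ ∃ g, g * O.τ * g⁻¹ = p := by
  simp only [Dk, Nat.cast_zero, O.zz_zero, and_self]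

theorem Dk.right {k : ℕ} {p q : G} (h : O.Dk k p q) : O.Dk 0 q q := h.symm.left

theorem Dk.ne_one {k : ℕ} {p q : G} (h : O.Dk k p q) : p ≠ 1 := by
  obtain ⟨g, rfl⟩ := pt_iff.1 h.left
  intro e
  exact O.τ_ne (geo_cj (x := g) (by rw [e]; group))

theorem Dk.third' {p q : G} (h : O.Dk 1 p q) : O.Dk 1 (p * q) q := by
  rw [(h.commute (by decide)).eq]; exact h.symm.third.symm

theorem Dk.at {k : ℕ} {p q : G} (h : O.Dk k p q) (i : ℤ) :
    ∃ x : G, x * O.zz i * x⁻¹ = p ∧ x * O.zz (i + k) * x⁻¹ = q := by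
  obtain ⟨x, rfl, rfl⟩ := h
  refine ⟨x * (O.n1 * O.n8) ^ (-i), ?_, ?_⟩
  · rw [← neg_add_cancel i, ← O.c_zz]; group
  · conv_rhs => rw [← neg_add_cancel_left i k, ← O.c_zz]
    group

theorem Dk.of_conj {k : ℕ} {p q : G} (x : G) (h : O.Dk k (x * p * x⁻¹) (x * q * x⁻¹)) : O.Dk k p q := by
  have := h.conj x⁻¹
  simpa [mul_assoc] using this

theorem NB.of_conj {p q r : G} (x : G) (h : O.NB (x * p * x⁻¹) (x * q * x⁻¹) (x * r * x⁻¹)) : O.NB p q r := by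
  have := h.conj x⁻¹
  simpa [mul_assoc] using this

variable (O)

theorem dk_zz' (i j : ℤ) (k : ℕ) (e : i + k = j) : O.Dk k (O.zz i) (O.zz j) := e ▸ O.dk_zz i k

/-- the reflection `zz j ↦ zz (i - j)` -/
theorem refl_zz (i j : ℤ) :
    (O.n1 * O.n8) ^ i * O.n8 * O.zz j * ((O.n1 * O.n8) ^ i * O.n8)⁻¹ = O.zz (i - j) := by
  rw [sub_eq_add_neg, ← O.c_zz, ← O.n8_zz]; group

theorem exists_a (i : ℤ) : ∃ a : G, (∀ l, i - 3 ≤ l → l ≤ i → Commute a (O.zz l)) ∧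
    a * O.zz (i + 1) * a⁻¹ = O.zz i * O.zz (i + 1) := by
  have e : O.g 9 1 * O.zz (-1) * (O.g 9 1)⁻¹ = O.zz 0 * O.zz (-1) := by
    simp only [O.zz_neg_one, O.zz_zero, O.col]
  set m := (O.n1 * O.n8) ^ i * O.n8 with hm
  refine ⟨m * O.g 9 1 * m⁻¹, fun l h1 h2 => ?_, ?_⟩
  · rw [← sub_sub_cancel i l, ← O.refl_zz]
    exact (cz_a7 _ (by omega) (by omega) _ (O.g_mem (by decide) 1)).conj m
  · have e0 : m * O.zz 0 * m⁻¹ = O.zz i := by rw [O.refl_zz, sub_zero]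
    have e1 : m * O.zz (-1) * m⁻¹ = O.zz (i + 1) := by rw [O.refl_zz, sub_neg_eq_add]
    rw [← e0, ← e1]
    calc _ = m * (O.g 9 1 * O.zz (-1) * (O.g 9 1)⁻¹) * m⁻¹ := by group
      _ = _ := by rw [e]; group

end

variable {O : OP σ (sz2 K) G} (H : O.Hyp) (h2 : Two K)

section
include h2

theorem eq1 {t : K} (h : t ≠ 0) : t = 1 := (h2 t).resolve_left h

theorem mem_V2 {v : G} (h : v ∈ O.V) : v = 1 ∨ v = O.zz 0 ∨ v = O.zz 1 ∨ v = O.zz 0 * O.zz 1 := by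
  obtain ⟨s, t, rfl⟩ := O.mem_V.1 h
  rcases h2 s with rfl | rfl <;> rcases h2 t with rfl | rfl <;> simp [O.g_zero, O.zz_zero, O.zz_one]

theorem mem_Z2 {v : G} (h : v ∈ O.Z) : v = 1 ∨ v = O.zz 0 := by
  obtain ⟨s, rfl⟩ := O.mem_Z.1 h
  rcases h2 s with rfl | rfl <;> simp [O.g_zero, O.zz_zero]

theorem h8_one (l : Kˣ) : O.h8 l = 1 := by
  rw [show l = 1 from Units.ext (eq1 h2 l.ne_zero), map_one]

theorem mem_B2 {x : G} (h : x ∈ O.B8) : x ∈ O.U := by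
  obtain ⟨u, hu, l, rfl⟩ := O.mem_B8.1 h
  rwa [h8_one h2, mul_one]

end

theorem sz_y (O : OP σ (sz2 K) G) : O.n8 * O.g 10 1 * O.n8 = O.g 10 1 * O.n8 * O.g 11 1 := by
  simpa [sz2, nfg, O.g_zero] using O.suz 1 0 (by simp)

theorem sz_z (O : OP σ (sz2 K) G) : O.n8 * O.g 11 1 * O.n8 = (O.g 10 1)⁻¹ * O.n8 * O.g 10 1 := by
  have := O.suz 0 1 (by simp)
  simp only [O.i10]
  simpa [sz2, nfg, O.g_zero] using this

theorem five (O : OP σ (sz2 K) G) : (O.n8 * O.g 11 1) ^ 5 = 1 := by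
  have h1 := sz_z O
  have hy : O.g 10 1 * O.g 11 1 = (O.g 10 1)⁻¹ := by simp only [O.col]
  have hc : O.g 10 1 * O.g 11 1 * (O.g 10 1)⁻¹ = O.g 11 1 := by simp only [O.col]
  have h3 : (O.g 10 1)⁻¹ * (O.g 10 1)⁻¹ * O.g 11 1 = 1 := by simp only [O.col]
  calc (O.n8 * O.g 11 1) ^ 5 = (O.n8 * O.g 11 1 * O.n8) * O.g 11 1 * (O.n8 * O.g 11 1 * O.n8) * O.g 11 1 * O.n8 *
        O.g 11 1 := by simp only [pow_succ, pow_zero, one_mul, mul_assoc]
    _ = (O.g 10 1)⁻¹ * (O.n8 * (O.g 10 1 * O.g 11 1 * (O.g 10 1)⁻¹) * O.n8) * (O.g 10 1 * O.g 11 1) * O.n8 *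
        O.g 11 1 := by rw [h1]; group
    _ = (O.g 10 1)⁻¹ * (O.g 10 1)⁻¹ * (O.n8 * O.n8) * O.g 11 1 := by rw [hc, hy, h1]; group
    _ = 1 := by rw [O.n8_sq, mul_one, h3]

include H h2

theorem n8_eq : O.n8 = (O.n8 * O.g 10 1 * O.n8⁻¹) * O.g 11 1 * (O.n8 * O.g 10 1 * O.n8⁻¹)⁻¹ := by
  have h1 := sz_y O
  have h3 := sz_z O
  rw [O.n8_inv, h1]
  calc O.n8 = O.g 10 1 * ((O.g 10 1)⁻¹ * O.n8 * O.g 10 1) * (O.g 10 1)⁻¹ := by group
    _ = O.g 10 1 * (O.n8 * O.g 11 1 * O.n8⁻¹) * (O.g 10 1)⁻¹ := by rw [← h3, O.n8_inv]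
    _ = _ := by group

omit h2 in
theorem not_pt {p y : G} (hp : O.Dk 0 p p) : y * O.g 6 1 * y⁻¹ ≠ p := by
  obtain ⟨g, rfl⟩ := pt_iff.1 hp
  intro e
  exact H.not_conj6 one_ne_zero (y⁻¹ * g) (geo_cj (x := y) (by rw [e]; group))

omit H h2 in
open _root_.Classical in
/-- the type of the product of two points -/
noncomputable def ty (O : OP σ (sz2 K) G) (x : G) : ℕ :=
  if x = 1 then 0 else if O.Dk 0 x x then 1 else if x ^ 2 = 1 then 2 else if x ^ 4 = 1 then 3 else 4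

omit H h2 in
theorem ty_conj (g x : G) : ty O (g * x * g⁻¹) = ty O x := by
  have h : O.Dk 0 (g * x * g⁻¹) (g * x * g⁻¹) ↔ O.Dk 0 x x := ⟨Dk.of_conj g, fun h => h.conj g⟩
  have hn : ∀ n : ℕ, (g * x * g⁻¹) ^ n = 1 ↔ x ^ n = 1 := fun n => by rw [conj_pow, conj_eq_one_iff]
  classical
  exact if_congr conj_eq_one_iff rfl (if_congr h rfl (if_congr (hn 2) rfl (if_congr (hn 4) rfl rfl)))

theorem ty_eq {i : ℕ} (hi : i ≤ 4) {p q : G} (h : O.Dk i p q) : ty O (p * q) = i := by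
  have red : ∀ a : ℤ, ty O (p * q) = ty O (O.zz a * O.zz (a + i)) := fun a => by
    obtain ⟨x, rfl, rfl⟩ := h.at a
    rw [← ty_conj x (O.zz a * _)]; congr 1; group
  have sq : ∀ x : G, O.Dk 0 x x → x ^ 2 = 1 := fun x hx => by rw [pow_two, hx.sq]
  have p4 : ∀ x : G, x ^ 2 = 1 → x ^ 4 = 1 := fun x hx => by rw [show 4 = 2 * 2 from rfl, pow_mul, hx, one_pow]
  interval_cases i
  · rw [← h.eq, h.sq]; simp [ty]
  · have := h.third.right
    simp [ty, this, this.ne_one]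
  · rw [red 0]
    have e : O.zz 0 * O.zz (0 + (2 : ℕ)) = O.g 5 1 * O.g 11 1 := by rw [O.zz_zero, ← O.zz_two]; rfl
    obtain ⟨y, -, hy⟩ := O.conj511 one_ne_zero one_ne_zero
    have n1 : O.g 5 1 * O.g 11 1 ≠ 1 := fun h => one_ne_zero ((O.g_mem_iff (S := [5]) (j := 11) (by decide)
      (by decide)).1 (by rw [eq_inv_of_mul_eq_one_right h]; exact inv_mem O.τ_mem))
    have n2 : (O.g 5 1 * O.g 11 1) ^ 2 = 1 := by simp only [pow_two, O.col]
    rw [e, ty, if_neg n1, if_neg fun hp => not_pt H hp hy, if_pos n2]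
  · rw [red (-1)]
    have e : O.zz (-1) * O.zz (-1 + (3 : ℕ)) = O.g 2 1 * O.g 11 1 := by rw [O.zz_neg_one, ← O.zz_two]; rfl
    have e2 : (O.g 2 1 * O.g 11 1) ^ 2 = O.g 5 1 * (O.g 6 1 * O.g 8 1) := by simp only [pow_two, O.col]
    have n2 : (O.g 2 1 * O.g 11 1) ^ 2 ≠ 1 := fun h => by
      rw [e2] at h
      refine one_ne_zero ((O.g_mem_iff (S := [5, 8]) (j := 6) (by decide) (by decide)).1 ?_)
      have : O.g 6 1 = (O.g 5 1)⁻¹ * (O.g 5 1 * (O.g 6 1 * O.g 8 1)) * (O.g 8 1)⁻¹ := by group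
      rw [this, h, mul_one]
      exact mul_mem (inv_mem (O.g_mem (by decide) 1)) (inv_mem (O.g_mem (by decide) 1))
    have n4 : (O.g 2 1 * O.g 11 1) ^ 4 = 1 := by
      rw [show 4 = 2 * 2 from rfl, pow_mul, e2]; simp only [pow_two, O.col]
    rw [e, ty, if_neg fun h => n2 (by rw [h, one_pow]), if_neg fun h => n2 (sq _ h), if_neg n2, if_pos n4]
  · rw [red (-2)]
    have e : O.zz (-2) * O.zz (-2 + (4 : ℕ)) = (O.n8 * O.g 11 1) ^ 2 := by
      rw [O.zz_neg_two, O.n8_inv, pow_two, mul_assoc (O.n8 * _), ← O.zz_two]; rfl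
    have n4 : ((O.n8 * O.g 11 1) ^ 2) ^ 4 ≠ 1 := fun h => by
      rw [← pow_mul] at h
      have := Nat.dvd_gcd (orderOf_dvd_of_pow_eq_one h) (orderOf_dvd_of_pow_eq_one (five O))
      rw [show Nat.gcd (2 * 4) 5 = 1 from rfl, Nat.dvd_one, orderOf_eq_one_iff] at this
      exact O.n8_not_mem (mem_sup_left (eq_inv_of_mul_eq_one_left this ▸ inv_mem (O.g_mem_U 11 1)))
    rw [e, ty, if_neg fun h => n4 (by rw [h, one_pow]), if_neg fun h => n4 (p4 _ (sq _ h)),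
      if_neg fun h => n4 (p4 _ h), if_neg n4]

theorem excl {i j : ℕ} (hi : i ≤ 4) (hj : j ≤ 4) {p q : G} (h : O.Dk i p q) (h' : O.Dk j p q) : i = j :=
  (ty_eq H h2 hi h).symm.trans (ty_eq H h2 hj h')

theorem Dk.ne {i : ℕ} {p q : G} (h : O.Dk i p q) (hi : i ≤ 4) (h0 : i ≠ 0) : q ≠ p := by
  rintro rfl
  exact h0 (excl H h2 hi (by decide) h h.left)

theorem nb_of {p q r : G} (h : O.Dk 1 p q) (h' : O.Dk 1 q r) (hr : O.Dk 2 p r) : O.NB p q r :=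
  ⟨h, h', hr.ne H h2 (by decide) (by decide),
    fun e => absurd (excl H h2 (by decide) (by decide) hr (e ▸ h.third)) (by decide)⟩

theorem nb_zz (i : ℤ) : O.NB (O.zz i) (O.zz (i + 1)) (O.zz (i + 2)) :=
  nb_of H h2 (O.dk_zz i 1) (O.dk_zz' _ _ 1 (by push_cast; ring)) (O.dk_zz i 2)

theorem nb_zero {r : G} (h : O.NB (O.zz 1) (O.zz 0) r) : ∃ u ∈ O.pat [10, 11],
    r = u * O.zz (-1) * u⁻¹ ∨ r = u * (O.zz 0 * O.zz (-1)) * u⁻¹ := by
  obtain ⟨y, hy, rfl⟩ := h.right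
  rw [O.zz_zero] at hy
  rcases O.mem_C.1 (H.cent_two h2 (geo_comm hy)) with hB | ⟨u, hu, l, s, v, rfl⟩
  · exfalso
    have : y * O.zz (1 : ℕ) * y⁻¹ ∈ O.V :=
      geo_norm (O.B8_norm (by decide) hB) (by rw [Nat.cast_one, O.zz_one]; exact O.g_mem (by decide) 1)
    rcases mem_V2 h2 this with e | e | e | e
    · exact h.right.right.ne_one e
    · exact h.right.ne H h2 (by decide) (by decide) e
    · exact h.ne e
    · exact h.ne' (e.trans (h.left.commute (by decide)).eq.symm)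
  obtain ⟨p, rfl⟩ := O.mem_U.1 hu
  have hb : O.g 10 (p 10) * O.g 11 (p 11) ∈ O.pat [10, 11] :=
    mul_mem (O.g_mem (by decide) _) (O.g_mem (by decide) _)
  have hq : O.nf p * (O.g 10 (p 10) * O.g 11 (p 11))⁻¹ ∈ O.Q := by
    simp only [OC.nf, nfg, ← mul_assoc, mul_inv_rev, mul_inv_cancel_right]
    repeat first | exact O.g_mem (by decide) _ | apply mul_mem
  have hq' := geo_norm' (O.pat_norm (A := [10, 11]) (by decide) hb) hq
  refine ⟨_, hb, ?_⟩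
  set b := O.g 10 (p 10) * O.g 11 (p 11)
  set q := b⁻¹ * (O.nf p * b⁻¹) * b with hqe
  have hz : ⁅q, O.zz (-1)⁆ ∈ O.Z :=
    O.comm_mem (B := [2]) (by decide) (by decide) (by decide) hq' (O.zz_neg_one ▸ O.g_mem (by decide) 1)
  have e : O.nf p * O.h8 l * O.n8 * (O.g 10 s * O.g 11 v) * O.zz (1 : ℕ) *
      (O.nf p * O.h8 l * O.n8 * (O.g 10 s * O.g 11 v))⁻¹ = b * (⁅q, O.zz (-1)⁆ * O.zz (-1)) * b⁻¹ := by
    have c := geo_fix (cz_u8 (O := O) 1 (by decide) (by decide) (O.g 10 s * O.g 11 v)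
      (mul_mem (O.g_mem (by decide) _) (O.g_mem (by decide) _)))
    rw [h8_one h2, ← O.n8_zz, commutatorElement_def, hqe, Nat.cast_one]
    conv_rhs => rw [← c]
    group
  rw [e]
  rcases mem_Z2 h2 hz with h1 | h1 <;> rw [h1]
  · left; rw [one_mul]
  · right; rfl

theorem nb_next (i : ℤ) {r : G} (h : O.NB (O.zz (i - 1)) (O.zz i) r) :
    ∃ u : G, (∀ l, i - 4 ≤ l → l ≤ i → Commute u (O.zz l)) ∧
      (r = u * O.zz (i + 1) * u⁻¹ ∨ r = u * (O.zz i * O.zz (i + 1)) * u⁻¹) := by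
  set m := (O.n1 * O.n8) ^ i * O.n8 with hm
  have e0 : m * O.zz 0 * m⁻¹ = O.zz i := by rw [O.refl_zz, sub_zero]
  have e1 : m * O.zz (-1) * m⁻¹ = O.zz (i + 1) := by rw [O.refl_zz, sub_neg_eq_add]
  obtain ⟨u, hu, hr⟩ := nb_zero H h2 (r := m⁻¹ * r * m) (NB.of_conj m (by
    rw [O.refl_zz, e0, show m * (m⁻¹ * r * m) * m⁻¹ = r by group]; exact h))
  refine ⟨m * u * m⁻¹, fun l h1 h3 => ?_, ?_⟩
  · rw [← sub_sub_cancel i l, ← O.refl_zz]
    exact (cz_u8 _ (by omega) (by omega) _ hu).conj m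
  · have hr' : r = m * (m⁻¹ * r * m) * m⁻¹ := by group
    rw [← e0, ← e1]
    rcases hr with hr | hr <;> rw [hr] at hr'
    · left; rw [hr']; group
    · right; rw [hr']; group

theorem nb_next' (i : ℤ) {r : G} (h : O.NB (O.zz (i - 1)) (O.zz i) r) :
    ∃ u : G, (∀ l, i - 3 ≤ l → l ≤ i → Commute u (O.zz l)) ∧ r = u * O.zz (i + 1) * u⁻¹ := by
  obtain ⟨u, hu, hr | hr⟩ := nb_next H h2 i h
  · exact ⟨u, fun l h1 h3 => hu l (by omega) h3, hr⟩
  · obtain ⟨a, ha, e⟩ := O.exists_a i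
    exact ⟨u * a, fun l h1 h3 => (hu l (by omega) h3).mul_left (ha l h1 h3), by rw [hr, ← e]; group⟩

theorem std (p : ℕ → G) {k : ℕ} (hk : k ≤ 4) (h0 : O.Dk 1 (p 0) (p 1))
    (h : ∀ i, i + 2 ≤ k → O.NB (p i) (p (i + 1)) (p (i + 2))) :
    ∃ x : G, ∀ i ≤ k, x * O.zz (i - 2) * x⁻¹ = p i := by
  have base : ∃ x : G, ∀ i ≤ 1, x * O.zz ((i : ℕ) - 2) * x⁻¹ = p i := by
    obtain ⟨x, e0, e1⟩ := h0.at (-2)
    refine ⟨x, fun i hi => ?_⟩
    interval_cases i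
    exacts [e0, e1]
  induction k with
  | zero => exact base.imp fun x hx i hi => hx i (by omega)
  | succ k ih =>
    rcases k with _ | k
    · exact base
    obtain ⟨x, hx⟩ := ih (by omega) fun i hi => h i (by omega)
    obtain ⟨u, hu, hr⟩ := nb_next' H h2 ((k : ℤ) - 1) (r := x⁻¹ * p (k + 2) * x) (NB.of_conj x (by
      have a := hx k (by omega)
      have b := hx (k + 1) le_rfl
      rw [show ((k + 1 : ℕ) : ℤ) - 2 = k - 1 by push_cast; ring] at b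
      rw [show (k : ℤ) - 1 - 1 = k - 2 by ring, a, b, show x * (x⁻¹ * p (k + 2) * x) * x⁻¹ = p (k + 2) by group]
      exact h k le_rfl))
    refine ⟨x * u, fun i hi => ?_⟩
    rcases Nat.lt_or_ge i (k + 2) with h1 | h1
    · rw [← hx i (by omega)]
      conv_rhs => rw [← geo_fix (hu ((i : ℤ) - 2) (by omega) (by omega))]
      group
    · obtain rfl : i = k + 2 := by omega
      rw [show ((k + 2 : ℕ) : ℤ) - 2 = k - 1 + 1 by push_cast; ring]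
      calc _ = x * (u * O.zz (k - 1 + 1) * u⁻¹) * x⁻¹ := by group
        _ = _ := by rw [← hr]; group

theorem std5 (p : ℕ → G) (h : ∀ i ≤ 3, O.NB (p i) (p (i + 1)) (p (i + 2))) :
    ∃ x : G, (∀ i : ℕ, i ≤ 4 → x * O.zz (i - 2) * x⁻¹ = p i) ∧
      (x * O.zz 3 * x⁻¹ = p 5 ∨ x * O.zz 3 * x⁻¹ = p 4 * p 5) := by
  obtain ⟨x, hx⟩ := std H h2 p le_rfl (h 0 (by decide)).left fun i hi => h i (by omega)
  have a : x * O.zz (2 - 1) * x⁻¹ = p 3 := hx 3 (by decide)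
  have b : x * O.zz 2 * x⁻¹ = p 4 := hx 4 (by decide)
  obtain ⟨u, hu, hr⟩ := nb_next H h2 2 (r := x⁻¹ * p 5 * x) (NB.of_conj x (by
    rw [a, b, show x * (x⁻¹ * p 5 * x) * x⁻¹ = p 5 by group]; exact h 3 le_rfl))
  have fx : ∀ i : ℕ, i ≤ 4 → x * u * O.zz (i - 2) * (x * u)⁻¹ = p i := fun i hi => by
    rw [← hx i hi]
    conv_rhs => rw [← geo_fix (hu ((i : ℤ) - 2) (by omega) (by omega))]
    group
  refine ⟨x * u, fx, ?_⟩
  have e5 : p 5 = x * (x⁻¹ * p 5 * x) * x⁻¹ := by group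
  rcases hr with hr | hr <;> rw [hr] at e5
  · left; rw [e5]; group
  · right
    have b' : x * u * O.zz 2 * (x * u)⁻¹ = p 4 := fx 4 le_rfl
    rw [e5, ← b']
    calc x * u * O.zz 3 * (x * u)⁻¹ = x * u * (O.zz 2 * O.zz 2) * O.zz 3 * (x * u)⁻¹ := by rw [O.zz_sq, mul_one]
      _ = _ := by group

theorem step {j : ℕ} (hj : j < 4) {p q r : G} (h : O.Dk j p q) (h' : O.Dk 1 q r) : ∃ i ≤ j + 1, O.Dk i p r := by
  rcases j with _ | j
  · exact ⟨1, le_rfl, h.eq ▸ h'⟩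
  obtain ⟨x, rfl, rfl⟩ := h
  obtain ⟨r, rfl⟩ : ∃ r', r = x * r' * x⁻¹ := ⟨x⁻¹ * r * x, by group⟩
  replace h' := Dk.of_conj x h'
  suffices ∃ i ≤ j + 1 + 1, O.Dk i (O.zz 0) r from this.imp fun i hi => ⟨hi.1, hi.2.conj x⟩
  by_cases e1 : r = O.zz j
  · exact ⟨j, by omega, e1 ▸ O.dk_zz' _ _ _ (zero_add _)⟩
  by_cases e2 : r = O.zz j * O.zz (j + 1)
  · obtain ⟨a, ha, e⟩ := O.exists_a j
    refine ⟨j + 1, by omega, ?_⟩
    rw [e2, ← e, ← geo_fix (ha 0 (by omega) (by omega))]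
    exact (O.dk_zz' _ _ _ (by push_cast; ring)).conj a
  obtain ⟨u, hu, hr⟩ := nb_next' H h2 ((j : ℤ) + 1) (r := r)
    ⟨O.dk_zz' _ _ _ (by push_cast; ring), by exact_mod_cast h', by rwa [add_sub_cancel_right],
      by rwa [add_sub_cancel_right]⟩
  refine ⟨j + 2, le_rfl, ?_⟩
  rw [hr, ← geo_fix (hu 0 (by omega) (by omega))]
  exact (O.dk_zz' _ _ _ (by push_cast; ring)).conj u

omit H in
theorem dk_V {v : G} (hv : v ∈ O.V) (h1 : v ≠ 1) : ∃ i ≤ 1, O.Dk i (O.zz 0) v := by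
  rcases mem_V2 h2 hv with rfl | rfl | rfl | rfl
  · exact (h1 rfl).elim
  · exact ⟨0, by decide, (O.dk_zz 0 0).left⟩
  · exact ⟨1, le_rfl, O.dk_zz 0 1⟩
  · exact ⟨1, le_rfl, (O.dk_zz 0 1).third⟩

theorem comm_pt {p q : G} (hp : O.Dk 0 p p) (hq : O.Dk 0 q q) (h : Commute p q) : ∃ i ≤ 2, O.Dk i p q := by
  obtain ⟨x, rfl⟩ := pt_iff.1 hp
  obtain ⟨q, rfl⟩ : ∃ r', q = x * r' * x⁻¹ := ⟨x⁻¹ * q * x, by group⟩
  replace hq := Dk.of_conj x hq
  obtain ⟨c, hc, hcl⟩ := O.classes (H.cent_two h2 ((Commute.conj_iff _).1 h).symm) hq.sq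
  have hq' := hq.conj c
  suffices ∃ i ≤ 2, O.Dk i (O.zz 0) (c * q * c⁻¹) from this.imp fun i hi => ⟨hi.1, (Dk.of_conj c (by
    rw [geo_fix (O.C_cent_Z hc O.τ_mem), OC.τ, ← O.zz_zero]; exact hi.2)).conj x⟩
  rcases hcl with hv | ⟨t, ht, e⟩ | ⟨t, ht, e⟩ | ⟨s, t, ht, e⟩
  · exact (dk_V h2 hv hq'.ne_one).imp fun i hi => ⟨by omega, hi.2⟩
  · exact (not_pt H hq' (y := 1) (by rw [e, eq1 h2 ht]; group)).elim
  · obtain ⟨y, -, hy⟩ := O.conj9 ht
    exact (not_pt H hq' (hy.trans e.symm)).elim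
  · by_cases hs : s = 0
    · refine ⟨2, le_rfl, ?_⟩
      rw [e, hs, O.g_zero, one_mul, eq1 h2 ht, ← O.zz_two]
      exact O.dk_zz 0 2
    · obtain ⟨y, -, hy⟩ := O.conj511 hs ht
      exact (not_pt H hq' (hy.trans e.symm)).elim

omit H in
theorem exists_mv {v : G} (hv : v ∈ O.V) (h1 : v ≠ 1) :
    ∃ m ∈ normalizer (O.R : Set G), Commute m (O.g 6 1) ∧ m * O.τ * m⁻¹ = v := by
  have e1 : O.n1 * O.τ * O.n1⁻¹ = O.zz 1 := by rw [O.zz_one]; exact O.n1_g 5 (by decide) 1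
  have c1 : Commute O.n1 (O.g 6 1) := geo_comm (O.n1_g 6 (by decide) 1)
  rcases mem_V2 h2 hv with rfl | rfl | rfl | rfl
  · exact (h1 rfl).elim
  · exact ⟨1, one_mem _, Commute.one_left _, by rw [O.zz_zero]; group⟩
  · exact ⟨O.n1, O.sw.norm, c1, e1⟩
  · refine ⟨O.g 0 1 * O.n1, mul_mem (O.pat_norm (A := [0]) (by decide) (O.g_mem (by decide) 1)) O.sw.norm,
      Commute.mul_left (O.r0_6 1 1).symm c1, ?_⟩
    calc _ = O.g 0 1 * (O.n1 * O.τ * O.n1⁻¹) * (O.g 0 1)⁻¹ := by group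
      _ = _ := by simp only [e1, O.zz_zero, O.zz_one, O.col]

omit H h2 in
theorem exists_fix {p : G} (hp : p * p = 1) (h : p ∈ normalizer (O.V : Set G)) : ∃ v ∈ O.V, v ≠ 1 ∧ Commute p v := by
  have hτ : O.τ ∈ O.V := O.g_mem (by decide) 1
  have hv := geo_norm h hτ
  by_cases e : p * O.τ * p⁻¹ = O.τ
  · exact ⟨_, hτ, O.τ_ne, geo_comm e⟩
  refine ⟨_, mul_mem hτ hv, fun h1 => e ?_, geo_comm ?_⟩
  · rw [eq_inv_of_mul_eq_one_right h1, O.i5]
  · calc p * (O.τ * (p * O.τ * p⁻¹)) * p⁻¹ = p * O.τ * p⁻¹ * ((p * p) * O.τ * (p * p)⁻¹) := by group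
      _ = p * O.τ * p⁻¹ * O.τ := by rw [hp]; group
      _ = _ := (O.commute_pat (by decide) hv hτ).eq

theorem pt_line {p : G} (hp : O.Dk 0 p p) (h : p ∈ normalizer (O.V : Set G)) : p ∈ O.R := by
  obtain ⟨v, hv, h1, hc⟩ := exists_fix hp.sq h
  obtain ⟨m, hm, -, rfl⟩ := exists_mv h2 hv h1
  obtain ⟨p, rfl⟩ : ∃ r', p = m * r' * m⁻¹ := ⟨m⁻¹ * p * m, by group⟩
  replace hp := Dk.of_conj m hp
  have hV : p ∈ normalizer (O.V : Set G) := by
    have := mul_mem (mul_mem (inv_mem (O.norm_V hm)) h) (O.norm_V hm)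
    simpa [mul_assoc] using this
  refine geo_norm hm ?_
  have hB := O.mem_B8_of_E2 (H.cent_two h2 ((Commute.conj_iff _).1 hc)) (O.g_mem (j := 8) (by decide) 1)
    (fun h => one_ne_zero ((O.g_mem_iff (by decide) (by decide)).1 h))
    (O.pat_mono (by decide) (geo_norm hV (O.g_mem (by decide) 1)))
  by_contra hR
  obtain ⟨c, -, t, ht, e⟩ := O.conj_out_R (mem_B2 h2 hB) hR hp.sq
  obtain ⟨y, -, hy⟩ := O.conj9 ht
  exact not_pt H (hp.conj c) (hy.trans e.symm)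

end OP

end CfsgLib.F42
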