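import Mathlib
import Cfsg.Agent.Lib.F42.Pat

/-! # F42: a collector for `q = 2` -/

set_option autoImplicit false
set_option Elab.async false
set_option linter.unusedSectionVars false

namespace CfsgLib.F42

open Subgroup
open scoped commutatorElement

variable {K : Type*} [Field K] [Finite K] {G : Type*} [Group G] [Finite G] {σ : K →+* K} {sz : Sz K}

/-- the word `L` in the generators `g j 1` -/
def OC.wd (O : OC σ sz G) (L : List (Fin 12)) : G := (L.map fun j => O.g j 1).prod

/-- insertion of a generator on the left of a collected word -/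
def ins : ℕ → Fin 12 → List (Fin 12) → List (Fin 12)
  | 0, a, L => a :: L
  | _ + 1, a, [] => [a]
  | f + 1, a, b :: L =>
    if a < b then a :: b :: L
    else if a = b then (cm a a).foldr (ins f) L
    else b :: (cm b a).foldr (ins f) (ins f a L)

/-- the collected form -/
def col2 (L : List (Fin 12)) : List (Fin 12) := L.foldr (ins 40) []

/-- the word of the inverse -/
def inv2 (L : List (Fin 12)) : List (Fin 12) := L.reverse.flatMap fun j => j :: cm j j

/-- the collected word with the binary code `n` -/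
def dec (n : ℕ) : List (Fin 12) := (List.finRange 12).filter fun j => n.testBit j

namespace OC

variable (O : OC σ sz G)

theorem wd_nil : O.wd [] = 1 := rfl

theorem wd_cons (a : Fin 12) (L : List (Fin 12)) : O.wd (a :: L) = O.g a 1 * O.wd L := rfl

theorem wd_cw (j k : Fin 12) : ev O.g (cw σ j k 1 1) = O.wd ((cwT j k).map Prod.fst) := by
  simp [ev, cw, wd, mon, Function.comp_def]

theorem wd_sq (a : Fin 12) : O.g a 1 * O.g a 1 = O.wd (cm a a) := by
  rw [O.add, O.add_self, O.g_zero, one_mul, O.wd_cw, cm, min_self, max_self]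

theorem wd_append (L M : List (Fin 12)) : O.wd (L ++ M) = O.wd L * O.wd M := by
  simp [wd]

theorem wd_foldr {f : Fin 12 → List (Fin 12) → List (Fin 12)}
    (h : ∀ a L, O.wd (f a L) = O.g a 1 * O.wd L) (M L : List (Fin 12)) :
    O.wd (M.foldr f L) = O.wd M * O.wd L := by
  induction M with
  | nil => rw [O.wd_nil, one_mul, List.foldr_nil]
  | cons a M ih => rw [List.foldr_cons, h, ih, O.wd_cons, mul_assoc]

theorem wd_ins (f : ℕ) (a : Fin 12) (L : List (Fin 12)) : O.wd (ins f a L) = O.g a 1 * O.wd L := by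
  induction f generalizing a L with
  | zero => rfl
  | succ f ih =>
    cases L with
    | nil => rfl
    | cons b L =>
      rw [ins]
      split_ifs with h1 h2
      · rfl
      · rw [O.wd_foldr ih, O.wd_cons, ← h2, ← mul_assoc, O.wd_sq]
      · have h3 : b < a := lt_of_le_of_ne (not_lt.1 h1) (Ne.symm h2)
        rw [O.wd_cons, O.wd_foldr ih, ih, O.wd_cons, ← mul_assoc (O.g a 1), O.rel b a h3, O.wd_cw, cm,
          min_eq_left h3.le, max_eq_right h3.le, mul_assoc, mul_assoc]

theorem wd_col2 (L : List (Fin 12)) : O.wd (col2 L) = O.wd L := by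
  rw [col2, O.wd_foldr (O.wd_ins 40), O.wd_nil, mul_one]

theorem wd_inv2 (L : List (Fin 12)) : O.wd (inv2 L) = (O.wd L)⁻¹ := by
  induction L with
  | nil => simp [inv2, wd]
  | cons a L ih =>
    rw [inv2, List.reverse_cons, List.flatMap_append, O.wd_append, ← inv2, ih, O.wd_cons, mul_inv_rev,
      List.flatMap_singleton, O.wd_cons, ← O.wd_sq, inv_eq_of_mul_eq_one_right (a := O.g a 1) (b := O.g a 1 *
        (O.g a 1 * O.g a 1)) (by rw [← O.g_pow_four a 1]; simp [pow_succ, mul_assoc])]

theorem wd_nf {L : List (Fin 12)} (hL : L.Pairwise (· < ·)) :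
    O.wd L = O.nf fun j => if j ∈ L then 1 else 0 := by
  induction L with
  | nil => simp [wd, nf, nfg, O.g_zero]
  | cons a L ih =>
    rw [List.pairwise_cons] at hL
    rw [O.wd_cons, ih hL.2, ← O.nf_update fun j hj => if_neg fun k => (hL.1 j k).not_ge hj]
    congr 1
    funext j
    by_cases e : j = a <;> simp [e]

theorem wd_inj' {L M : List (Fin 12)} (hL : L.Pairwise (· < ·)) (hM : M.Pairwise (· < ·))
    (h : O.wd L = O.wd M) : L = M := by
  rw [O.wd_nf hL, O.wd_nf hM] at h
  refine hL.eq_of_mem_iff hM fun j => ?_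
  have := congrFun (O.inj h) j
  by_cases h1 : j ∈ L <;> by_cases h2 : j ∈ M <;> simp_all

theorem _root_.CfsgLib.F42.dec_sorted (n : ℕ) : (dec n).Pairwise (· < ·) :=
  (List.pairwise_lt_finRange 12).filter _

theorem wd_dec_inj {n m : ℕ} (hn : n < 4096) (hm : m < 4096) (h : O.wd (dec n) = O.wd (dec m)) : n = m := by
  have e := O.wd_inj' (dec_sorted n) (dec_sorted m) h
  refine Nat.eq_of_testBit_eq fun i => ?_
  by_cases hi : i < 12
  · have := congrArg (fun L => (⟨i, hi⟩ : Fin 12) ∈ L) e
    simpa [dec] using this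
  · have k : 4096 ≤ 2 ^ i := Nat.pow_le_pow_right (n := 2) (by decide) (not_lt.1 hi)
    rw [Nat.testBit_lt_two_pow (hn.trans_le k), Nat.testBit_lt_two_pow (hm.trans_le k)]

/-- a collected word is determined by its value -/
theorem wd_inj {L M : List (Fin 12)} (hL : L.Pairwise (· < ·)) (hM : M.Pairwise (· < ·)) (h : O.wd L = O.wd M) :
    L = M := by
  exact O.wd_inj' hL hM h

theorem mem_two (h2 : Two K) {x : G} (hx : x ∈ O.U) : ∃ n < 4096, x = O.wd (dec n) := by
  classical
  obtain ⟨p, rfl⟩ := O.mem_U.1 hx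
  refine ⟨Nat.ofBits fun j : Fin 12 => decide (p j = 1), Nat.ofBits_lt_two_pow _, ?_⟩
  rw [O.wd_nf (dec_sorted _)]
  congr 1
  funext j
  rcases h2 (p j) with e | e <;> simp [dec, e]

theorem wd_n8 {L : List (Fin 12)} (h : ∀ j ∈ L, j < 10) : O.n8 * O.wd L * O.n8⁻¹ = O.wd (L.map p8) := by
  induction L with
  | nil => simp [wd]
  | cons a L ih =>
    rw [List.map_cons, O.wd_cons, O.wd_cons, ← conj_mul, ih fun j hj => h j (List.mem_cons_of_mem _ hj),
      O.n8_g a (h a List.mem_cons_self)]

end OC

theorem OP.wd_n1 (O : OP σ sz G) {L : List (Fin 12)} (h : ∀ j ∈ L, 0 < j) :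
    O.n1 * O.wd L * O.n1⁻¹ = O.wd (L.map p1) := by
  induction L with
  | nil => simp [OC.wd]
  | cons a L ih =>
    rw [List.map_cons, O.wd_cons, O.wd_cons, ← conj_mul, ih fun j hj => h j (List.mem_cons_of_mem _ hj),
      O.n1_g a (h a List.mem_cons_self)]

end CfsgLib.F42
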