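import Mathlib
import Cfsg.Agent.Lib.F42.Pin2

/-! # F42: the braid relation for `q > 2` (package BRAID) -/

set_option autoImplicit false
set_option Elab.async false
set_option linter.unusedSectionVars false

namespace CfsgLib.F42

open Subgroup CfsgLib.Tech
open scoped commutatorElement

variable {K : Type*} [Field K] [Finite K] {G : Type*} [Group G] [Finite G] {σ : K →+* K} {sz : Sz K}

namespace OT

variable (T : OT σ sz G)

theorem br_h8 (l : Kˣ) : T.h8 l ∈ T.H := ⟨_, T.h_h8 l⟩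

theorem br_comm {x y : G} (hx : x ∈ T.H) (hy : y ∈ T.H) : Commute x y := by
  obtain ⟨a, rfl⟩ := hx
  obtain ⟨b, rfl⟩ := hy
  exact (Commute.all a b).map T.h

theorem br_H_le (H : T.Hyp) : T.H ≤ normalizer (T.C : Set G) := by
  rintro _ ⟨⟨α, β⟩, rfl⟩
  exact H.norm_of_mem_Z (by rw [T.h_g]; exact T.g_mem (by decide) _)

theorem br_inj : Function.Injective T.h := by
  rintro ⟨α, β⟩ ⟨α', β'⟩ e
  have k : ∀ j, chi σ j α β = chi σ j α' β' := fun j => by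
    have := T.h_g α β j 1
    rw [e, T.h_g, mul_one, mul_one] at this
    exact (T.g_inj j this).symm
  exact T.chi_bij.1 (Prod.ext (Units.ext (k 5)) (Units.ext (k 8)))

theorem br_odd {y : G} (hy : y ∈ T.H) : Odd (orderOf y) := by
  obtain ⟨a, rfl⟩ := hy
  refine Odd.of_dvd_nat ?_ ((orderOf_map_dvd T.h a).trans (orderOf_dvd_natCard a))
  rw [Nat.card_prod]
  exact T.odd_units.mul T.odd_units

theorem br_eq_one {y : G} (hU : y ∈ T.U) (h : Odd (orderOf y)) : y = 1 := by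
  obtain ⟨k, hk⟩ := T.fus_two hU
  exact orderOf_eq_one_iff.1 ((h.coprime_two_right.pow_right k).eq_one_of_dvd
    (orderOf_dvd_of_pow_eq_one hk))

theorem br_U4 {u : G} (hu : u ∈ T.U4) : ∃ s t, u = T.g 4 s * T.g 5 t := by
  obtain ⟨s, z, hz, rfl⟩ := (T.mem_cons (by decide)).1 hu
  obtain ⟨t, rfl⟩ := T.mem_Z.1 hz
  exact ⟨s, t, rfl⟩

theorem br_TI (H : T.Hyp) {z g : G} (hz : z ∈ T.Z) (h1 : z ≠ 1) (h : g * z * g⁻¹ ∈ T.Z) :
    g ∈ normalizer (T.C : Set G) := by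
  obtain ⟨t, rfl⟩ := T.mem_Z.1 hz
  obtain ⟨⟨α, β⟩, e⟩ := T.chi_bij.2 (Units.mk0 t fun k => h1 (T.g_eq_one.2 k), 1)
  have e1 : chi σ 5 α β = t := congrArg (fun x => (x.1 : K)) e
  have := H.norm_of_mem_Z (x := g * T.h (α, β)) (by
    rwa [mul_inv_rev, mul_assoc g, mul_assoc g, ← mul_assoc _ _ g⁻¹, T.h_g, e1, mul_one, ← mul_assoc])
  exact (mul_mem_cancel_right (T.br_H_le H ⟨_, rfl⟩)).1 this

theorem br_inv (hq : Big K) {u : G} (hu : u ∈ T.C) (h : ∀ l, Commute u (T.h8 l)) (h2 : u * u = 1) :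
    u ∈ T.Z := by
  obtain ⟨v, hv, l, e⟩ := T.cent_H8 hq hu h
  have hU := T.two_B8 (T.mem_B8.2 ⟨v, T.pat_le_U _ hv, l, e⟩) ⟨1, by rw [pow_one, sq, h2]⟩
  obtain ⟨t, h0, h1⟩ := hq
  obtain ⟨s, r, rfl⟩ := T.br_U4 (T.cent_h8 (l := Units.mk0 t h0) (fun k => h1 (congrArg Units.val k))
    hU (h _))
  have : s = 0 := by
    simp only [T.col] at h2
    simpa using T.g_eq_one.1 h2
  rw [this, T.g_zero, one_mul]
  exact T.g_mem (by decide) r

include T in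
theorem br_chi5 (α β : Kˣ) : chi σ 5 α β = chi σ 4 α β * σ (chi σ 4 α β) := by
  simp only [chi, mon, chiT, Matrix.cons_val, map_mul, T.ss, pow_zero, pow_one, one_mul]
  ring

theorem br_cent_H (hq : Big K) {u : G} (hu : u ∈ T.U4) (h : ∀ y ∈ T.H, Commute u y) : u = 1 := by
  obtain ⟨s, r, rfl⟩ := T.br_U4 hu
  obtain ⟨t, h0, h1⟩ := hq
  have e := (h _ ⟨(1, Units.mk0 t h0), rfl⟩).eq
  rw [eq_comm, ← mul_inv_eq_iff_eq_mul, ← conj_mul, T.h_g, T.h_g] at e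
  have h4 : chi σ 4 1 (Units.mk0 t h0) ≠ 1 := fun k => h1 (T.n_eq_one (by simpa [chi, mon, chiT] using k))
  have h5 : chi σ 5 1 (Units.mk0 t h0) ≠ 1 := fun k => h4 (T.n_eq_one (T.br_chi5 _ _ ▸ k))
  have e4 := T.layer_inj (k := 4) (S := [5]) (by decide) (by decide) (T.g_mem (by decide) _)
    (T.g_mem (by decide) _) e
  have s0 : s = 0 := by_contra fun k => h4 (mul_right_cancel₀ k (e4.trans (one_mul s).symm))
  rw [s0, mul_zero, T.g_zero, one_mul, one_mul] at e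
  have r0 : r = 0 := by_contra fun k => h5 (mul_right_cancel₀ k ((T.g_inj 5 e).trans (one_mul r).symm))
  rw [s0, r0, T.g_zero, T.g_zero, one_mul]

end OT

theorem OT.md (T : OT σ sz G) (H : T.Hyp) (hq : Big K) {x : G} (hC : x ∈ normalizer (T.C : Set G)) (h : ∀ l, Commute x (T.h8 l)) :
    ∃ u ∈ T.U4, ∃ y ∈ T.H, x = u * y := by
  have hU := T.norm_U_of_H8 hq hC h
  obtain ⟨a, b, ha, hb⟩ := T.scal_el hC hU h
  obtain ⟨⟨α, β⟩, e⟩ := T.chi_bij.2 (a⁻¹, b⁻¹)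
  have e1 : chi σ 5 α β = (a : K)⁻¹ := (congrArg (fun x => (x.1 : K)) e).trans (Units.val_inv_eq_inv_val a)
  have e2 : chi σ 8 α β = (b : K)⁻¹ := (congrArg (fun x => (x.2 : K)) e).trans (Units.val_inv_eq_inv_val b)
  have hy : T.h (α, β) ∈ T.H := ⟨_, rfl⟩
  have h8 : ∀ l, Commute (x * T.h (α, β)) (T.h8 l) := fun l =>
    (h l).mul_left (T.br_comm hy (T.br_h8 l))
  have hx := H.mem_C (mul_mem hC (T.br_H_le H hy)) (mul_mem hU (T.h_norm _ hy)) h8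
    (fun t => by
      rw [mul_inv_rev, mul_assoc x, mul_assoc x, ← mul_assoc _ _ x⁻¹, T.h_g, ← mul_assoc, ha, e1,
        mul_inv_cancel_left₀ a.ne_zero])
    (fun t => by
      obtain ⟨s, hs⟩ := hb ((b : K)⁻¹ * t)
      exact ⟨s, by rw [mul_inv_rev, mul_assoc x, mul_assoc x, ← mul_assoc _ _ x⁻¹, T.h_g, ← mul_assoc,
        e2, hs, mul_inv_cancel_left₀ b.ne_zero]⟩)
  obtain ⟨u, hu, l, k⟩ := T.cent_H8 hq hx h8
  exact ⟨u, hu, _, mul_mem (T.br_h8 l) (inv_mem hy), by rw [← mul_assoc, ← k, mul_inv_cancel_right]⟩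

theorem OT.br_mem (T : OT σ sz G) (H : T.Hyp) (hq : Big K) {d : G} (hd : ∀ y ∈ T.H, Commute d y) :
    d ∈ normalizer (T.C : Set G) := by
  by_contra hM
  set D := centralizer (T.H8 : Set G) with hD
  have mD : ∀ {x}, x ∈ D ↔ ∀ l, Commute x (T.h8 l) := fun {x} =>
    ⟨fun h l => (mem_centralizer_iff.1 h _ ⟨l, rfl⟩).symm,
      fun h => mem_centralizer_iff.2 fun _ ⟨l, e⟩ => e ▸ (h l).symm⟩
  have HD : T.H ≤ D := fun y hy => mD.2 fun l => T.br_comm hy (T.br_h8 l)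
  have dD : d ∈ D := mD.2 fun l => hd _ (T.br_h8 l)
  have τD : T.τ ∈ D := mD.2 fun l => (T.C_cent_Z (T.h8_mem_C l) T.τ_mem).symm
  have τD' : d * T.τ * d⁻¹ ∈ D := mul_mem (mul_mem dD τD) (inv_mem dD)
  have τ2 : d * T.τ * d⁻¹ * (d * T.τ * d⁻¹) = 1 := by rw [conj_mul, T.τ_sq]; simp
  have key : ∀ v ∈ D, v ∈ T.C → d⁻¹ * v * d⁻¹⁻¹ ∈ T.C → v * v = 1 → v = 1 := fun v hv h1 h2 h3 =>
    by_contra fun k => hM (inv_mem_iff.1 (T.br_TI H (T.br_inv hq h1 (mD.1 hv) h3) k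
      (T.br_inv hq h2 (mD.1 (mul_mem (mul_mem (inv_mem dD) hv) (inv_mem (inv_mem dD))))
        (by rw [conj_mul, h3]; simp))))
  rcases Nat.even_or_odd (orderOf (d * T.τ * d⁻¹ * T.τ)) with he | ho
  · obtain ⟨m, o, c1, c2, -⟩ := exists_central_of_even τ2 T.τ_sq he
    have h2 := mul_self_of_orderOf_two o
    refine ne_one_of_orderOf_two o (key _ (pow_mem (mul_mem τD' τD) m)
      (H.two' c2.symm ⟨1, by rw [pow_one, sq, h2]⟩) (H.two' ?_ (fus_two_conj _ ⟨1, by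
        rw [pow_one, sq, h2]⟩)) h2)
    rw [inv_inv]; exact fus_comm c1.symm
  obtain ⟨t, tD, t2, tτ, k, kD, ek⟩ : ∃ t ∈ D, t * t = 1 ∧ t * T.τ * t⁻¹ = d * T.τ * d⁻¹ ∧
      ∃ k ∈ D, k * T.τ * k⁻¹ = t := by
    obtain ⟨i, t2, tτ⟩ := exists_swap_of_odd τ2 T.τ_sq ho
    have tD := mul_mem (pow_mem (mul_mem τD' τD) i) τD
    obtain ⟨j, e⟩ := exists_pow_conj_of_odd t2 T.τ_sq (by
      rw [mul_assoc, T.τ_sq, mul_one]; exact Odd.of_dvd_nat ho (orderOf_pow_dvd i))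
    exact ⟨_, tD, t2, tτ, _, pow_mem (mul_mem tD τD) j, e⟩
  have ti : t⁻¹ = t := inv_eq_of_mul_eq_one_left t2
  have dt : d⁻¹ * t ∈ normalizer (T.C : Set G) := H.norm (mem_centralizer_singleton_iff.2 (by
    rw [← mul_inv_eq_iff_eq_mul, mul_inv_rev, mul_assoc d⁻¹, mul_assoc d⁻¹, ← mul_assoc _ t⁻¹, tτ]
    group))
  have dy : ∀ y ∈ T.H, d⁻¹ * y * d = y := fun y hy => by
    rw [mul_assoc, ← (hd y hy).eq, inv_mul_cancel_left]
  have tH : ∀ y ∈ T.H, t * y * t⁻¹ ∈ T.H := fun y hy => by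
    have hyM := T.br_H_le H hy
    have x1 : t * y * t⁻¹ ∈ normalizer (T.C : Set G) := by
      have := mul_mem (mul_mem (inv_mem dt) hyM) dt
      rwa [show (d⁻¹ * t)⁻¹ * y * (d⁻¹ * t) = t⁻¹ * (d * y * d⁻¹) * t⁻¹⁻¹ by group, (hd y hy).eq,
        mul_inv_cancel_right, ti] at this
    have xD := mul_mem (mul_mem tD (HD hy)) (inv_mem tD)
    obtain ⟨u, hu, y', hy', e⟩ := T.md H hq x1 (mD.1 xD)
    have eu : u = t * y * t⁻¹ * y'⁻¹ := by rw [e, mul_inv_cancel_right]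
    have uD : u ∈ D := eu ▸ mul_mem xD (inv_mem (HD hy'))
    have uC : d⁻¹ * u * d⁻¹⁻¹ ∈ T.C := H.two_norm (by
      have := mul_mem (mul_mem (mul_mem dt hyM) (inv_mem dt)) (inv_mem (T.br_H_le H hy'))
      rw [← dy y' hy'] at this
      convert this using 1
      rw [eu]; group) (fus_two_conj _ (T.fus_two (T.pat_le_U _ hu)))
    have u4 : u * u * (u * u) = 1 := by
      obtain ⟨s, r, rfl⟩ := T.br_U4 hu
      simp only [T.col]
    have u2 := key _ (mul_mem uD uD) (T.pat_le_C _ (mul_mem hu hu))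
      (by rw [← conj_mul]; exact mul_mem uC uC) u4
    rwa [e, key u uD (T.pat_le_C _ hu) uC u2, one_mul]
  have tC : ∀ y ∈ T.H, Commute t y := by
    obtain ⟨u, hu, y₀, hy₀, e⟩ := T.md H hq dt (mD.1 (mul_mem (inv_mem dD) tD))
    have h1 := T.br_cent_H hq hu fun y hy => by
      have m1 : u * y * u⁻¹ * y⁻¹ ∈ T.H := by
        refine mul_mem ?_ (inv_mem hy)
        have := tH y hy
        rw [← dy _ this] at this
        convert this using 1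
        calc u * y * u⁻¹ = u * y₀ * y * (u * y₀)⁻¹ := by
              rw [mul_assoc u y₀, (T.br_comm hy₀ hy).eq]; group
          _ = _ := by rw [← e]; group
      have m2 : u * y * u⁻¹ * y⁻¹ ∈ T.U4 := by
        have := mul_mem hu (conj_mem_of_mem_normalizer (T.h_norm _ hy) (inv_mem hu))
        convert this using 1; group
      exact commutatorElement_eq_one_iff_commute.1 (T.br_eq_one (T.pat_le_U _ m2) (T.br_odd m1))
    rw [h1, one_mul, inv_mul_eq_iff_eq_mul] at e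
    exact fun y hy => e ▸ (hd y hy).mul_left (T.br_comm hy₀ hy)
  have kH : ∀ y ∈ T.H, k⁻¹ * y * k⁻¹⁻¹ ∈ T.H ∧ Commute (k⁻¹ * y * k⁻¹⁻¹) T.τ := fun y hy => by
    have c : Commute (k⁻¹ * y * k⁻¹⁻¹) T.τ := by
      rw [inv_inv]; exact fus_comm (ek ▸ (tC y hy).symm)
    refine ⟨?_, c⟩
    obtain ⟨u, hu, _, ⟨⟨α, β⟩, rfl⟩, e⟩ := T.md H hq (H.norm (mem_centralizer_singleton_iff.2 c))
      (mD.1 (mul_mem (mul_mem (inv_mem kD) (HD hy)) (inv_mem (inv_mem kD))))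
    have ho : Odd (orderOf (u * T.h (α, β))) := by rw [← e, orderOf_conj_eq]; exact T.br_odd hy
    have c1 : Commute (T.h (α, β)) T.τ := by
      have := (T.C_cent_Z (T.pat_le_C _ hu) T.τ_mem).inv_left.mul_left (e ▸ c)
      rwa [inv_mul_cancel_left] at this
    have e5 : chi σ 5 α β = 1 := by
      have := T.h_g α β 5 1
      rw [c1.eq, mul_inv_cancel_right, mul_one] at this
      exact (T.g_inj 5 this).symm
    have e4 : chi σ 4 α β = 1 := T.n_eq_one (T.br_chi5 _ _ ▸ e5)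
    have c2 : Commute u (T.h (α, β)) := by
      obtain ⟨s, r, rfl⟩ := T.br_U4 hu
      rw [Commute, SemiconjBy, eq_comm, ← mul_inv_eq_iff_eq_mul, ← conj_mul, T.h_g, T.h_g, e4, e5,
        one_mul, one_mul]
    have u1 : u = 1 := T.br_eq_one (T.pat_le_U _ hu) (by
      have := (c2.mul_left (Commute.refl _)).inv_right.orderOf_mul_dvd_mul_orderOf
      rw [mul_inv_cancel_right, orderOf_inv] at this
      exact Odd.of_dvd_nat (ho.mul (T.br_odd ⟨_, rfl⟩)) this)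
    rw [e, u1, one_mul]
    exact ⟨_, rfl⟩
  have kN : k ∈ normalizer (T.H : Set G) :=
    inv_mem_iff.1 (mem_normalizer_of_forall fun y hy => (kH y hy).1)
  obtain ⟨r, h0, h1⟩ := hq
  obtain ⟨⟨α, β⟩, e⟩ := T.chi_bij.2 (Units.mk0 r h0, 1)
  have e1 : chi σ 5 α β = r := congrArg (fun x => (x.1 : K)) e
  have c := (kH _ (conj_mem_of_mem_normalizer kN ⟨(α, β), rfl⟩)).2
  rw [show k⁻¹ * (k * T.h (α, β) * k⁻¹) * k⁻¹⁻¹ = T.h (α, β) by group] at c
  have := T.h_g α β 5 1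
  rw [c.eq, mul_inv_cancel_right, mul_one, e1] at this
  exact h1 (T.g_inj 5 this).symm

theorem OP.br_c4 (O : OP σ sz G) (x : Kˣ × Kˣ) :
    (O.n1 * O.n8) ^ 4 * O.h x * ((O.n1 * O.n8) ^ 4)⁻¹ = O.h x⁻¹ := by
  have c : ∀ α β, O.n1 * O.n8 * O.h (α, β) * (O.n1 * O.n8)⁻¹ =
      O.h ((α * β ^ 2 * su σ β)⁻¹, α * β ^ 2 * su σ β * β⁻¹) := fun α β => by
    rw [← O.n1_h, ← O.n8_h]; group
  obtain ⟨α, β⟩ := x
  generalize O.n1 * O.n8 = n at c
  rw [show n ^ 4 * O.h (α, β) * (n ^ 4)⁻¹ = n * (n * (n * (n * O.h (α, β) * n⁻¹) * n⁻¹) * n⁻¹) * n⁻¹ by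
    simp [pow_succ, mul_assoc], c, c, c, c]
  congr 1
  have ha := α.ne_zero
  have hb := β.ne_zero
  have ha' : σ α ≠ 0 := by simp
  have hb' : σ β ≠ 0 := by simp
  refine Prod.ext (Units.ext ?_) (Units.ext ?_) <;>
  simp only [Units.val_mul, Units.val_inv_eq_inv_val, Units.val_pow_eq_pow_val, su_val, map_mul,
    map_inv₀, map_pow, O.ss, Prod.fst_inv, Prod.snd_inv] <;>
  field_simp

theorem OP.braid_big (O : OP σ sz G) (H : O.Hyp) (hq : Big K) : O.Braid := by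
  have hd : ∀ y ∈ O.H, Commute ((O.n1 * O.n8) ^ 8) y := by
    rintro _ ⟨x, rfl⟩
    rw [Commute, SemiconjBy, ← mul_inv_eq_iff_eq_mul, show 8 = 4 + 4 from rfl, pow_add, mul_inv_rev,
      mul_assoc, mul_assoc, ← mul_assoc _ _⁻¹, ← mul_assoc _ _ _⁻¹, ← mul_assoc _ (O.h x),
      O.br_c4, ← mul_assoc, O.br_c4, inv_inv]
  have i1 : O.n1 * (O.n1 * O.n8) ^ 8 * O.n1⁻¹ = ((O.n1 * O.n8) ^ 8)⁻¹ := by
    rw [← conj_pow, ← mul_assoc, O.n1_sq, one_mul, ← inv_pow, mul_inv_rev, O.n8_inv]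
  have i8 : O.n8 * (O.n1 * O.n8) ^ 8 * O.n8⁻¹ = ((O.n1 * O.n8) ^ 8)⁻¹ := by
    rw [← conj_pow, ← mul_assoc, mul_inv_cancel_right, ← inv_pow, mul_inv_rev, O.n8_inv, O.n1_inv]
  unfold OP.Braid
  generalize (O.n1 * O.n8) ^ 8 = d at hd i1 i8
  obtain ⟨u, hu, y, ⟨⟨α, β⟩, rfl⟩, rfl⟩ := O.md H hq (O.br_mem H hq hd) fun l => hd _ (O.br_h8 l)
  have hy : O.h (α, β) ∈ O.H := ⟨_, rfl⟩
  have h1 := O.br_cent_H hq hu fun y hy' => by
    simpa using (hd y hy').mul_left (O.br_comm hy hy').inv_left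
  rw [h1, one_mul] at i1 i8 ⊢
  rw [O.n1_h, ← map_inv] at i1
  rw [O.n8_h, ← map_inv] at i8
  have e1 : (α : K) * β = (β : K)⁻¹ := by simpa using congrArg (fun x => (x.2 : K)) (O.br_inj i1)
  have e2 : (α : K) * β ^ 2 * σ β = (α : K)⁻¹ := by
    simpa using congrArg (fun x => (x.1 : K)) (O.br_inj i8)
  have e3 : (α : K) * β ^ 2 = 1 := by rw [sq, ← mul_assoc, e1, inv_mul_cancel₀ β.ne_zero]
  have e4 : σ β = (β : K) ^ 2 := by
    rw [e3, one_mul] at e2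
    rw [e2, eq_comm, ← mul_eq_one_iff_eq_inv₀ α.ne_zero, mul_comm, e3]
  have e5 := O.ss β
  rw [e4, map_pow, e4] at e5
  have e6 : (β : K) = 1 := O.sq_inj (by
    rw [one_pow]; exact mul_left_cancel₀ (pow_ne_zero 2 β.ne_zero) (by rw [← sq, e5, mul_one]))
  rw [e6, one_pow, mul_one] at e3
  rw [show (α, β) = 1 from Prod.ext (Units.ext e3) (Units.ext e6), map_one]

end CfsgLib.F42
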