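import Mathlib
import Cfsg.Agent.Lib.F42.Geo1
import Cfsg.Agent.Lib.F42.Bit

/-! # F42: the centraliser of `a5` for `q = 2` (package CV) -/

set_option autoImplicit false
set_option Elab.async false
set_option linter.unusedSectionVars false

namespace CfsgLib.F42

open Subgroup CfsgLib.Tech
open scoped commutatorElement

variable {K : Type*} [Field K] [Finite K] {G : Type*} [Group G] [Finite G] {σ : K →+* K} {sz : Sz K}

/-- the fixed involutions of `a1 n1` on `R` -/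
def cvChk (n : ℕ) : Bool :=
  let L := col2 (0 :: (dec (2 * n)).map p1 ++ [0])
  decide (L.Pairwise (· < ·)) && (L != dec (2 * n) || (let M := col2 (dec (2 * n) ++ dec (2 * n));
    decide (M.Pairwise (· < ·)) && (M != [] || n == 0 || n == 32)))

set_option maxRecDepth 100000 in
theorem cv_chk : ∀ n < 2048, cvChk n = true := by decide +kernel

namespace OP

variable {O : OP σ (sz2 K) G} (H : O.Hyp) (h2 : Two K)
include H h2

omit H in
theorem cv_fix {x : G} (hx : x ∈ O.R) (hx2 : x * x = 1) (h : Commute x (O.g 0 1 * O.n1)) :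
    x = 1 ∨ x = O.g 6 1 := by
  obtain ⟨n, hn, rfl⟩ := O.mem_two h2 (O.pat_le_U _ hx)
  have h0 : (0 : Fin 12) ∉ dec n := fun k => by
    rw [O.wd_nf (dec_sorted n), O.nf_mem (by decide)] at hx
    simpa [k] using hx 0 (by decide)
  obtain ⟨m, rfl⟩ : 2 ∣ n := by simpa [dec, Nat.dvd_iff_mod_eq_zero] using h0
  have c := cv_chk m (by omega)
  simp only [cvChk, Bool.and_eq_true, Bool.or_eq_true, decide_eq_true_eq, bne_iff_ne, beq_iff_eq] at c
  obtain ⟨c1, c | ⟨c2, (c | rfl) | rfl⟩⟩ := c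
  · refine absurd (O.wd_inj c1 (dec_sorted _) ?_) c
    rw [O.wd_col2, List.cons_append, O.wd_cons, O.wd_append,
      ← O.wd_n1 fun j hj => Fin.pos_iff_ne_zero.2 fun e => h0 (e ▸ hj), O.wd_cons, O.wd_nil, mul_one]
    nth_rw 2 [← O.i0, ← geo_fix h.symm]
    group
  · exact absurd (O.wd_inj c2 List.Pairwise.nil (by rw [O.wd_col2, O.wd_append, hx2, O.wd_nil])) c
  · exact .inl rfl
  · exact .inr (mul_one _)

theorem cv_R {g : G} (h : g * O.τ * g⁻¹ = O.τ) (h' : g * O.g 8 1 * g⁻¹ = O.g 8 1) : g ∈ O.R :=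
  O.cent_V (H.cent_two h2 (geo_comm h)) (O.g_mem (by decide) 1)
    (fun h => one_ne_zero ((O.g_mem_iff (by decide) (by decide)).1 h)) (geo_comm h')

theorem cv_L {r : G} (hr : r ∈ normalizer (O.V : Set G)) (ho : Odd (orderOf r)) :
    r ∈ O.R ⊔ zpowers (O.g 0 1 * O.n1) := by
  have ρ1 : O.g 0 1 * O.n1 * O.τ * (O.g 0 1 * O.n1)⁻¹ = O.τ * O.g 8 1 :=
    calc _ = O.g 0 1 * (O.n1 * O.g 5 1 * O.n1⁻¹) * (O.g 0 1)⁻¹ := by group
      _ = _ := by rw [O.n1_g 5 (by decide), show p1 5 = 8 from rfl]; simp only [O.col]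
  have ρ2 : O.g 0 1 * O.n1 * O.g 8 1 * (O.g 0 1 * O.n1)⁻¹ = O.τ :=
    calc _ = O.g 0 1 * (O.n1 * O.g 8 1 * O.n1⁻¹) * (O.g 0 1)⁻¹ := by group
      _ = _ := by rw [O.n1_g 8 (by decide), show p1 8 = 5 from rfl]; simp only [O.col]
  generalize O.g 0 1 * O.n1 = ρ at ρ1 ρ2
  have hρ := mem_sup_right (S := O.R) (mem_zpowers ρ)
  have sq : r * (r * O.τ * r⁻¹) * r⁻¹ = O.τ → r * (r * O.g 8 1 * r⁻¹) * r⁻¹ = O.g 8 1 →
      r ∈ O.R ⊔ zpowers ρ := fun a b => by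
    have := cv_R H h2 (g := r * r) (Eq.trans (by group) a) (Eq.trans (by group) b)
    obtain ⟨k, hk⟩ := ho
    have e : (r * r) ^ (k + 1) = r := by
      rw [← _root_.sq, ← pow_mul, show 2 * (k + 1) = 2 * k + 1 + 1 by ring, ← hk, pow_succ,
        pow_orderOf_eq_one, one_mul]
    exact e ▸ mem_sup_left (pow_mem this _)
  have e1 := mem_V2 h2 (geo_norm hr (O.g_mem (by decide) 1 : O.τ ∈ O.V))
  have e2 := mem_V2 h2 (geo_norm hr (O.g_mem (by decide) 1 : O.g 8 1 ∈ O.V))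
  rw [O.zz_zero, O.zz_one] at e1 e2
  have ne : r * O.τ * r⁻¹ ≠ r * O.g 8 1 * r⁻¹ := fun k => one_ne_zero
    ((O.g_mem_iff (S := [5]) (j := 8) (by decide) (by decide)).1 (geo_cj k ▸ O.τ_mem))
  rcases e1 with e1 | e1 | e1 | e1
  · exact absurd (conj_eq_one_iff.1 e1) O.τ_ne
  all_goals rcases e2 with e2 | e2 | e2 | e2
  all_goals first
    | exact absurd (O.g_eq_one.1 (conj_eq_one_iff.1 e2)) one_ne_zero
    | exact absurd (e1.trans e2.symm) ne
    | skip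
  · exact mem_sup_left (cv_R H h2 e1 e2)
  · exact sq (by rw [e1, e1]) (by rw [e2, ← conj_mul, e1, e2]; simp only [O.col])
  · exact sq (by rw [e1, e2]) (by rw [e2, e1])
  · refine (mul_mem_cancel_left hρ).1 (mem_sup_left (cv_R H h2 ?_ ?_))
    · calc _ = ρ * (r * O.τ * r⁻¹) * ρ⁻¹ := by group
        _ = _ := by rw [e1, ρ2]
    · calc _ = ρ * (r * O.g 8 1 * r⁻¹) * ρ⁻¹ := by group
        _ = _ := by rw [e2, ← conj_mul, ρ1, ρ2]; simp only [O.col]
  · refine (mul_mem_cancel_left (inv_mem hρ)).1 (mem_sup_left (cv_R H h2 ?_ ?_))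
    · calc _ = ρ⁻¹ * (r * O.τ * r⁻¹) * ρ := by group
        _ = _ := by rw [e1, ← ρ1]; group
    · calc _ = ρ⁻¹ * (r * O.g 8 1 * r⁻¹) * ρ := by group
        _ = _ := by rw [e2, show O.g 5 1 = _ from ρ2.symm]; group
  · exact sq (by rw [e1, ← conj_mul, e1, e2]; simp only [O.col]) (by rw [e2, e2])

/-- the only involution of `R` centralising an element of odd order of `N(V)` and `a5` -/
theorem inv_fix {r x : G} (hr : r ∈ normalizer (O.V : Set G)) (ho : Odd (orderOf r)) (h1 : r ≠ 1) (ha : Commute r (O.g 6 1))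
    (hx : x ∈ O.R) (hx2 : x * x = 1) (h : Commute x r) : x = 1 ∨ x = O.g 6 1 := by
  classical
  have ρ3 := O.tri
  have ρR : O.g 0 1 * O.n1 ∈ normalizer (O.R : Set G) := mul_mem (O.fus_a1_R 1) O.sw.norm
  have hL := cv_L H h2 hr ho
  have fix := fun {x} => cv_fix (O := O) h2 (x := x)
  generalize O.g 0 1 * O.n1 = ρ at ρ3 ρR hL fix
  have mem : ∀ {y}, y ∈ O.R ⊔ zpowers ρ → ∃ s ∈ O.R, ∃ t ∈ zpowers ρ, s * t = y := fun {y} hy => by
    rwa [← SetLike.mem_coe, coe_mul_of_right_le_normalizer_left _ _ (zpowers_le.2 ρR)] at hy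
  have t3 : ∀ t ∈ zpowers ρ, t ^ 3 = 1 := by
    rintro _ ⟨i, rfl⟩
    rw [← zpow_natCast, ← zpow_mul, mul_comm, zpow_mul, zpow_natCast, ρ3, one_zpow]
  have r3 : r ^ 3 = 1 := by
    refine OC.pin_eq_one (Odd.of_dvd_nat ho (orderOf_pow_dvd 3)) (OC.pin_two_el (O := O.toOC)
      (S := [1, 2, 3, 4, 5, 6, 7, 8, 9, 10, 11]) ?_)
    obtain ⟨s, hs, t, ht, rfl⟩ := mem hL
    have tR := zpowers_le.2 ρR ht
    have := mul_mem (mul_mem hs (geo_norm tR hs)) (geo_norm tR (geo_norm tR hs))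
    convert this using 1
    rw [← mul_one (_ * _ * _), ← t3 t ht]
    simp [pow_succ, mul_assoc]
  have : Fact (Nat.Prime 3) := ⟨Nat.prime_three⟩
  have p3 : ∀ {y : G}, y ^ 3 = 1 → IsPGroup 3 (zpowers y) := fun hy =>
    isPGroup_zpowers_of_pow (k := 1) (by rwa [pow_one])
  obtain ⟨g, hg, e⟩ := (isSylowIn_of_maximal (H := O.R ⊔ zpowers ρ) (p3 ρ3) le_sup_right
    fun Q hQ h3 h4 y hy => by
      obtain ⟨s, hs, t, ht, rfl⟩ := mem (h4 hy)
      obtain ⟨k, hk⟩ := isPGroup_iff_mem.1 hQ s ((mul_mem_cancel_right (h3 ht)).1 hy)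
      rwa [OC.pin_eq_one (Odd.of_dvd_nat (Odd.pow (by decide)) (orderOf_dvd_of_pow_eq_one hk))
        (OC.pin_two_el hs), one_mul]).exists_cj_le (p3 r3) (zpowers_le.2 hL)
  have gR := sup_le le_normalizer (zpowers_le.2 ρR) hg
  have key : ∀ x ∈ O.R, x * x = 1 → Commute x r → g * x * g⁻¹ = 1 ∨ g * x * g⁻¹ = O.g 6 1 :=
    fun x hx hx2 h => by
      refine fix (geo_norm gR hx) (by rw [conj_mul, hx2]; simp) ?_
      have c := h.conj g
      obtain ⟨i, hi⟩ := (mem_zpowers_iff_mem_range_orderOf.1 (e (conj_mem_cj.2 (mem_zpowers r))))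
        |> Finset.mem_image.1
      have hi3 := (Finset.mem_range.1 hi.1).trans_le (orderOf_le_of_pow_eq_one (by decide) ρ3)
      rw [← hi.2] at c
      interval_cases i
      · exact absurd (conj_eq_one_iff.1 (hi.2.symm.trans (pow_zero ρ))) h1
      · rwa [pow_one] at c
      · have := c.pow_right 2
        rwa [← pow_mul, show 2 * 2 = 3 + 1 from rfl, pow_succ, ρ3, one_mul] at this
  have a6 := (key _ (O.g_mem (by decide) 1) (by simp only [O.col]) ha.symm).resolve_left fun k =>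
    one_ne_zero (O.g_eq_one.1 (conj_eq_one_iff.1 k))
  exact (key x hx hx2 h).imp conj_eq_one_iff.1 fun k => geo_cj (k.trans a6.symm)

theorem f1 {x : G} (hx : Commute x (O.g 6 1)) (h : Commute (x * O.τ * x⁻¹) O.τ) : x * O.τ * x⁻¹ ∈ O.V := by
  have pτ : O.Dk 0 O.τ O.τ := pt_iff.2 ⟨1, by group⟩
  obtain ⟨i, hi, y, e0, e⟩ := comm_pt H h2 pτ (pt_iff.2 ⟨x, rfl⟩) h.symm
  rw [O.zz_zero] at e0
  have hy := H.cent_two h2 (geo_comm e0)
  have a6 : O.g 6 1 ∈ O.E := O.g_mem (by decide) 1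
  have hE : y⁻¹ * O.g 6 1 * y ∈ O.E := geo_norm' (O.C_norm_E hy) a6
  have key : ∀ n : G, y * (n * O.τ * n⁻¹) * y⁻¹ = x * O.τ * x⁻¹ →
      n⁻¹ * (y⁻¹ * O.g 6 1 * y) * n ∈ O.E := fun n e => by
    have := geo_norm (O.C_norm_E (H.cent_two h2 (x := (y * n)⁻¹ * x) (geo_comm (by
      calc _ = (y * n)⁻¹ * (x * O.τ * x⁻¹) * (y * n) := by group
        _ = _ := by rw [← e]; group)))) a6
    convert this using 1
    conv_lhs => rw [← geo_fix hx]
    group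
  interval_cases i
  · rw [← e, Nat.cast_zero, O.zz_zero, e0]; exact O.g_mem (by decide) 1
  · rw [Nat.cast_one, O.zz_one] at e
    have k := (O.n1_conj (by decide)).1 (key O.n1 (by rw [O.n1_g 5 (by decide)]; exact e))
    rw [show O.n1 * (O.n1⁻¹ * (y⁻¹ * O.g 6 1 * y) * O.n1) * O.n1⁻¹ = y⁻¹ * O.g 6 1 * y⁻¹⁻¹ by group] at k
    have k2 := mem_inf.2 ⟨hE, by rwa [inv_inv] at k⟩
    rw [O.pat_inf (by decide) (by decide)] at k2
    have hB := O.mem_B8_of_E2 (inv_mem hy) (O.g_mem (j := 6) (by decide) 1)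
      (fun h => one_ne_zero ((O.g_mem_iff (by decide) (by decide)).1 h))
      (by rw [inv_inv]; exact O.pat_mono (by decide) k2)
    exact e ▸ geo_norm (O.B8_norm (by decide) (inv_mem_iff.1 hB)) (O.g_mem (by decide) 1)
  · exfalso
    have k := key ((O.n1 * O.n8) ^ (2 : ℤ)) e
    have hE1 := (O.n1_conj (by decide)).1 hE
    generalize hd : y⁻¹ * O.g 6 1 * y = d at hE1 k
    have k1 := (O.n1_conj (by decide)).1 (geo_norm (O.C_norm_E O.n8_mem_C) k)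
    rw [show O.n1 * (O.n8 * (((O.n1 * O.n8) ^ (2 : ℤ))⁻¹ * d * (O.n1 * O.n8) ^ (2 : ℤ)) * O.n8⁻¹) * O.n1⁻¹ =
      O.n8 * (O.n1 * d * O.n1⁻¹) * O.n8⁻¹ from
        calc _ = O.n8⁻¹ * (O.n1⁻¹ * d * O.n1) * O.n8 := by rw [zpow_two]; group
          _ = _ := by rw [O.n8_inv, O.n1_inv]] at k1
    have k2 := mem_inf.2 ⟨hE1, O.inf_n8 (O.pat_le_U _ hE1) (mem_sup_left (O.pat_le_U _ k1))⟩
    rw [O.pat_inf (by decide) (by decide)] at k2
    have k3 := mem_inf.2 ⟨k1, (O.n8_conj (by decide)).1 k2⟩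
    rw [O.pat_inf (by decide) (by decide)] at k3
    rcases mem_Z2 h2 (O.pat_mono (by decide) k3) with k4 | k4
    · rw [conj_eq_one_iff, conj_eq_one_iff, ← hd, ← inv_inv y, inv_inv y⁻¹, conj_eq_one_iff] at k4
      exact one_ne_zero (O.g_eq_one.1 k4)
    · exact not_pt H pτ (y := O.n8 * O.n1 * y⁻¹) (by rw [show O.τ = _ from O.zz_zero.symm, ← k4, ← hd]; group)

omit H h2 in
/-- the class of `τ` in the centraliser of `a5` -/
def CA (O : OP σ (sz2 K) G) (p : G) : Prop := ∃ x, Commute x (O.g 6 1) ∧ x * O.τ * x⁻¹ = p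

omit H h2 in
theorem CA.conj {p k : G} (h : O.CA p) (hk : Commute k (O.g 6 1)) : O.CA (k * p * k⁻¹) := by
  obtain ⟨x, hx, rfl⟩ := h
  exact ⟨k * x, hk.mul_left hx, by group⟩

omit H h2 in
theorem CA.pt {p : G} (h : O.CA p) : O.Dk 0 p p := by
  obtain ⟨x, -, e⟩ := h
  exact pt_iff.2 ⟨x, e⟩

omit H h2 in
theorem CA.comm {p : G} (h : O.CA p) : Commute p (O.g 6 1) := by
  obtain ⟨x, hx, rfl⟩ := h
  exact (hx.mul_left (O.r5_6 1 1).symm).mul_left hx.inv_left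

omit H in
theorem cv_A {v : G} (hv : v ∈ O.V) (h1 : v ≠ 1) : O.CA v := by
  obtain ⟨m, -, h⟩ := exists_mv h2 hv h1
  exact ⟨m, h⟩

theorem cv_V {q v : G} (hq : O.CA q) (hv : v ∈ O.V) (h1 : v ≠ 1) (h : Commute q v) : q ∈ O.V := by
  obtain ⟨m, hm, mK, rfl⟩ := exists_mv h2 hv h1
  obtain ⟨x, hx, rfl⟩ := hq
  have := geo_norm (O.norm_V hm) (f1 H h2 (mK.inv_left.mul_left hx) (by
    convert fus_comm h using 1; group))
  convert this using 1; group

theorem cv_N {x v v' : G} (hx : Commute x (O.g 6 1)) (hv : v ∈ O.V) (h1 : v ≠ 1) (hv' : v' ∈ O.V)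
    (h1' : v' ≠ 1) (h : Commute (x * v' * x⁻¹) v) : x ∈ normalizer (O.V : Set G) := by
  have k := cv_V H h2 ((cv_A h2 hv' h1').conj hx) hv h1 h
  refine mem_normalizer_of_forall fun w hw => ?_
  by_cases e : w = 1
  · simp [e]
  exact cv_V H h2 ((cv_A h2 hw e).conj hx) k (by simpa using h1')
    ((O.R_cent_V (O.pat_mono (by decide) hw) hv').conj x)

theorem cv_odd {p q : G} (hp : O.CA p) (hq : O.CA q) (h : ¬ Commute p q) : Odd (orderOf (p * q)) := by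
  rw [← Nat.not_even_iff_odd]
  intro he
  obtain ⟨m, o, c1, c2, k⟩ := exists_central_of_even hp.pt.sq hq.pt.sq he
  have pqK := hp.comm.mul_left hq.comm
  have up : O.CA ((p * q) ^ m * p) := by
    rcases k with ⟨k, e, -⟩ | ⟨k, -, e⟩
    exacts [e ▸ hp.conj (pqK.pow_left _), e ▸ hq.conj (pqK.pow_left _)]
  generalize (p * q) ^ m = u at o c1 c2 up
  obtain ⟨x, hx, rfl⟩ := hp
  have hτ : O.τ ∈ O.V := O.g_mem (by decide) 1
  have k1 := cv_V H h2 (up.conj hx.inv_left) hτ O.τ_ne (by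
    rw [inv_inv]; exact fus_comm (c1.symm.mul_left (Commute.refl _)))
  rw [show x⁻¹ * (u * (x * O.τ * x⁻¹)) * x⁻¹⁻¹ = x⁻¹ * u * x⁻¹⁻¹ * O.τ by group,
    mul_mem_cancel_right hτ] at k1
  have k2 := cv_V H h2 (hq.conj hx.inv_left) k1 (fun e => ne_one_of_orderOf_two o (conj_eq_one_iff.1 e))
    (c2.conj _)
  have := (O.R_cent_V (O.pat_mono (by decide) hτ) k2).conj x
  exact h (by convert this using 1; group)

theorem cv_3 {x y : G} (hx : Commute x (O.g 6 1)) (hN : x ∉ normalizer (O.V : Set G)) (hy : y ∈ O.R)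
    (y2 : y * y = 1) (yN : x⁻¹ * y * x ∈ normalizer (O.V : Set G)) :
    y = 1 ∨ y = O.g 6 1 := by
  obtain ⟨v, hv, v1, c⟩ := exists_fix (by rw [← inv_inv x, inv_inv x⁻¹, conj_mul, y2]; simp) yN
  have pA := (cv_A h2 hv v1).conj hx
  have yp : Commute y (x * v * x⁻¹) := by convert c.conj x using 1; group
  have key : ∀ w ∈ O.V, w ≠ 1 → ∃ t, O.CA t ∧ t * w * t⁻¹ = x * v * x⁻¹ ∧ Commute y t := fun w hw w1 => by
    have wA := cv_A h2 hw w1
    have ho := cv_odd H h2 pA wA fun k => hN (cv_N H h2 hx hw w1 hv v1 k)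
    obtain ⟨i, t2, e⟩ := exists_swap_of_odd pA.pt.sq wA.pt.sq ho
    obtain ⟨j, e'⟩ := exists_pow_conj_of_odd t2 wA.pt.sq (by
      rw [mul_assoc, wA.pt.sq, mul_one]; exact Odd.of_dvd_nat ho (orderOf_pow_dvd i))
    have yw := O.R_cent_V hy hw
    exact ⟨_, e' ▸ wA.conj (((((pA.comm.mul_left wA.comm).pow_left i).mul_left wA.comm).mul_left
      wA.comm).pow_left j), e, ((yp.mul_right yw).pow_right i).mul_right yw⟩
  have hτ : O.τ ∈ O.V := O.g_mem (by decide) 1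
  have h8 : O.g 8 1 ∈ O.V := O.g_mem (by decide) 1
  have n8 : O.g 8 1 ≠ 1 := fun k => one_ne_zero (O.g_eq_one.1 k)
  obtain ⟨t₁, a₁, e₁, c₁⟩ := key _ hτ O.τ_ne
  obtain ⟨t₂, a₂, e₂, c₂⟩ := key _ h8 n8
  have rK := a₁.comm.mul_left a₂.comm
  have e : t₁ * t₂ * O.g 8 1 * (t₁ * t₂)⁻¹ = O.τ :=
    calc _ = t₁ * (t₂ * O.g 8 1 * t₂⁻¹) * t₁⁻¹ := by group
      _ = t₁ * t₁ * O.τ * (t₁ * t₁)⁻¹ := by rw [e₂, ← e₁]; group
      _ = _ := by rw [a₁.pt.sq]; group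
  have rN := cv_N H h2 rK hτ O.τ_ne h8 n8 (by rw [e])
  have rR : t₁ * t₂ ∉ O.R := fun k => one_ne_zero ((O.g_mem_iff (S := [5]) (j := 8) (by decide)
    (by decide)).1 (((geo_fix (O.R_cent_V k h8)).symm.trans e) ▸ O.τ_mem))
  have r1 : t₁ * t₂ ≠ 1 := fun k => rR (k ▸ one_mem _)
  refine inv_fix H h2 rN (cv_odd H h2 a₁ a₂ fun k => rR (pt_line H h2 ?_ rN)) r1 rK hy y2
    (c₁.mul_right c₂)
  obtain ⟨z, hz, rfl⟩ := a₁
  have k1 := mul_mem hτ (cv_V H h2 (a₂.conj hz.inv_left) hτ O.τ_ne (by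
    rw [inv_inv]; exact fus_comm k.symm))
  have k2 : z * (O.τ * (z⁻¹ * t₂ * z⁻¹⁻¹)) * z⁻¹ = z * O.τ * z⁻¹ * t₂ := by group
  exact k2 ▸ ((cv_A h2 k1 fun k => r1 (by rw [← k2, k]; simp)).conj hz).pt

theorem cv {x : G} (h : Commute x (O.g 6 1)) : x ∈ normalizer (O.V : Set G) := by
  by_contra hN
  have z2 : O.g 2 1 * O.g 2 1 = 1 := by simp only [O.col]
  have z2K : Commute (O.g 2 1) (O.g 6 1) := (O.r2_6 1 1).symm
  have z2R : O.g 2 1 ∈ O.R := O.g_mem (by decide) 1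
  have z2N := O.norm_V (le_normalizer z2R)
  have z2p : O.Dk 0 (O.g 2 1) (O.g 2 1) := O.zz_neg_one ▸ (O.dk_zz (-1) 0).left
  have z2ne : ¬ (O.g 2 1 = 1 ∨ O.g 2 1 = O.g 6 1) := fun k => k.elim z2p.ne_one fun k =>
    not_pt H z2p (y := 1) (by rw [k]; group)
  have pA : O.CA (x * O.τ * x⁻¹) := ⟨x, h, rfl⟩
  rcases Nat.even_or_odd (orderOf (O.g 2 1 * (x * O.τ * x⁻¹))) with he | ho
  · obtain ⟨m, o, c1, c2, k⟩ := exists_central_of_even z2 pA.pt.sq he
    have uK := (z2K.mul_left pA.comm).pow_left m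
    have up : O.Dk 0 ((O.g 2 1 * (x * O.τ * x⁻¹)) ^ m * O.g 2 1)
        ((O.g 2 1 * (x * O.τ * x⁻¹)) ^ m * O.g 2 1) := by
      rcases k with ⟨k, e, -⟩ | ⟨k, -, e⟩
      exacts [e ▸ z2p.conj _, e ▸ pA.pt.conj _]
    generalize (O.g 2 1 * (x * O.τ * x⁻¹)) ^ m = u at o c1 c2 uK up
    have uN : u ∈ normalizer (O.V : Set G) := by_contra fun k => z2ne (cv_3 H h2 uK k z2R z2
      (by rwa [show u⁻¹ * O.g 2 1 * u = O.g 2 1 by rw [mul_assoc, c1.eq, inv_mul_cancel_left]]))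
    have uR : u ∈ O.R := (mul_mem_cancel_right z2R).1 (pt_line H h2 up (mul_mem uN z2N))
    have uV : x⁻¹ * u * x ∈ normalizer (O.V : Set G) :=
      cv_N H h2 ((h.inv_left.mul_left uK).mul_left h) (O.g_mem (by decide) 1) O.τ_ne
        (O.g_mem (by decide) 1) O.τ_ne (by
          rw [geo_fix (fus_comm c2.symm)])
    rcases cv_3 H h2 h hN uR (mul_self_of_orderOf_two o) uV with e | e
    · exact ne_one_of_orderOf_two o e
    · refine not_pt H (up.conj O.n8) (y := O.g 11 1 * O.n8) ?_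
      rw [e, ← conj_mul (a := O.g 6 1), O.n8_g 6 (by decide), O.n8_g 2 (by decide), mul_inv_rev,
        mul_assoc (O.g 11 1), mul_assoc (O.g 11 1), ← mul_assoc _ O.n8⁻¹, O.n8_g 6 (by decide),
        show p8 6 = 3 from rfl, show p8 2 = 8 from rfl]
      simp only [O.col]
  · obtain ⟨k, e⟩ := exists_pow_conj_of_odd z2 pA.pt.sq ho
    have := cv_V H h2 (e ▸ pA.conj ((z2K.mul_left pA.comm).pow_left k)) (O.g_mem (by decide) 1) O.τ_ne
      (O.r2_5 1 1).symm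
    exact one_ne_zero ((O.g_mem_iff (by decide) (by decide)).1 this)

end OP

end CfsgLib.F42
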