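import Mathlib
import Cfsg.Agent.Lib.Comp.Primitive
import Cfsg.Agent.Lib.F42.Cls
import Cfsg.Agent.Lib.F42.Tits
import Cfsg.Agent.Lib.F42.CV
import Cfsg.Agent.S2902
import Cfsg.Agent.S0223
import Cfsg.Agent.S1225

/-! # F42: `G0` is normal (package FIN, together with `Cls`) -/

set_option autoImplicit false
set_option Elab.async false
set_option linter.unusedSectionVars false

namespace CfsgLib.F42

open Subgroup CfsgLib.Tech
open scoped commutatorElement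

variable {K : Type*} [Field K] [Finite K] {G : Type*} [Group G] [Finite G] {σ : K →+* K} {sz : Sz K}

namespace OP

theorem fin_c {a x y : G} (h : y * a * y⁻¹ = x * a * x⁻¹) : y⁻¹ * x ∈ centralizer ({a} : Set G) :=
  mem_centralizer_singleton_iff.2 (by
    rw [← mul_inv_eq_iff_eq_mul, mul_inv_rev, mul_assoc y⁻¹, mul_assoc y⁻¹, ← mul_assoc _ x⁻¹, ← h]
    group)

theorem fin_G0 (O : OP σ sz G) : O.G0 = O.C ⊔ cj O.n1 O.C := by
  refine le_antisymm (sup_le (sup_le le_sup_left ?_) (zpowers_le.2 ?_)) (sup_le O.C_le_G0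
    (cj_le_iff.2 fun x hx => mul_mem (mul_mem O.n1_mem_G0 (O.C_le_G0 hx)) (inv_mem O.n1_mem_G0)))
  · rintro _ ⟨⟨α, β⟩, rfl⟩
    have := mul_mem_sup (O.h8_mem_C (α * β * su σ β)⁻¹)
      ((conj_mem_cj (g := O.n1)).2 (O.h8_mem_C (β * su σ (α * β * su σ β)⁻¹)))
    rw [← O.h_h8, ← O.h_h8, O.n1_h, ← map_mul] at this
    convert this using 2
    have ha := α.ne_zero
    have hb := β.ne_zero
    have ha' : σ α ≠ 0 := by simp
    have hb' : σ β ≠ 0 := by simp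
    refine Prod.ext (Units.ext ?_) (Units.ext ?_) <;>
    simp only [Units.val_mul, Units.val_inv_eq_inv_val, su_val, map_mul,
      map_inv₀, map_pow, O.ss, Prod.fst_mul, Prod.snd_mul] <;>
    field_simp
  · have ha := mem_sup_left (T := cj O.n1 O.C) (O.g_mem_C 0 1)
    have := inv_mem (mul_mem (mul_mem ha (mem_sup_right
      ((conj_mem_cj (g := O.n1)).2 (O.g_mem_C 0 1)))) ha)
    rwa [← eq_inv_of_mul_eq_one_right (b := O.n1) (by
      rw [← O.tri, O.n1_inv]; simp [pow_succ, mul_assoc])] at this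

theorem fin_norm (O : OP σ sz G) (H : O.Hyp) :
    centralizer ({O.τ} : Set G) ≤ normalizer (O.G0 : Set G) := fun x hx => by
  obtain ⟨c, hc, hU⟩ := O.exists_norm_U (H.norm hx)
  have hC := mul_mem (le_normalizer hc) (H.norm hx)
  rw [← mul_mem_cancel_left (le_normalizer (O.C_le_G0 hc))]
  generalize c * x = x at hU hC
  obtain ⟨s, t, e⟩ := O.mem_V.1 (conj_mem_of_mem_normalizer (O.norm_R hC hU).2.2.2
    (O.g_mem (by decide) 1 : O.g 8 1 ∈ O.V))
  have ht : t ≠ 0 := fun k => one_ne_zero ((O.g_mem_iff (S := [5]) (j := 8) (by decide) (by decide)).1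
    ((mem_normalizer_iff.1 (O.norm_QE hC).2.2.2 _).2 (by
      rw [e, k, O.g_zero, mul_one]; exact O.g_mem (by decide) s)))
  obtain ⟨⟨α, β⟩, k⟩ := O.chi_bij.2 (1, Units.mk0 t ht)
  have e1 : chi σ 8 α β = t := congrArg (fun x => (x.2 : K)) k
  have hy : O.h (α, β) ∈ normalizer (O.C : Set G) :=
    H.norm_of_mem_Z (by rw [O.h_g]; exact O.g_mem (by decide) _)
  have e2 : O.g 0 (s / t) * O.h (α, β) * O.g 8 1 * (O.g 0 (s / t) * O.h (α, β))⁻¹ = x * O.g 8 1 * x⁻¹ := by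
    have := O.fus_a1 (s / t) 0 t
    rw [O.g_zero, one_mul, zero_add, div_mul_cancel₀ s ht] at this
    rw [e, ← this, mul_inv_rev, mul_assoc (O.g 0 _), mul_assoc (O.g 0 _), ← mul_assoc _ (O.h _)⁻¹,
      O.h_g, e1, mul_one, mul_assoc]
  rw [← mul_mem_cancel_left (le_normalizer (inv_mem (mul_mem (O.C_le_G0 (O.g_mem_C 0 (s / t)))
    (O.H_le_G0 ⟨(α, β), rfl⟩)))), O.fin_G0]
  refine normalizer_inf_normalizer_le_normalizer_sup _ _ (mem_inf.2 ⟨mul_mem (inv_mem (mul_mem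
    (le_normalizer (O.g_mem_C _ _)) hy)) hC, ?_⟩)
  have := fin_c e2
  rw [← show O.n1 * O.τ * O.n1⁻¹ = O.g 8 1 from O.n1_g 5 (by decide) 1,
    ← cj_centralizer_singleton] at this
  rw [← cj_normalizer]
  exact cj_mono _ H.norm this

theorem fin_cent (O : OP σ sz G) (H : O.Hyp) {x : G} (h : ∀ y ∈ O.G0, x * y = y * x) : x = 1 := by
  have hx : x ∈ centralizer ({O.τ} : Set G) :=
    mem_centralizer_singleton_iff.2 (h _ (O.C_le_G0 (O.g_mem_C 5 1)))
  obtain ⟨k, m, hm, e⟩ := Nat.exists_eq_two_pow_mul_odd (orderOf_pos x).ne'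
  have h2 := H.cent _ (pow_mem hx (2 ^ k)) (by
    rwa [orderOf_pow_of_dvd (by simp) ⟨m, e⟩, e, Nat.mul_div_cancel_left _ (by simp)])
    (pow_mem (mem_centralizer_iff.2 fun y hy => (h y (O.C_le_G0 hy)).symm) _)
  obtain ⟨t, rfl⟩ := O.mem_Z.1 (O.cent_Q (H.two x hx ⟨k, h2⟩) fun y hy =>
    h y (O.C_le_G0 (O.pat_le_C _ hy)))
  have := O.n1_g 5 (by decide) t
  rw [← h _ O.n1_mem_G0, mul_inv_cancel_right] at this
  exact O.g_eq_one.2 ((O.g_mem_iff (S := [5]) (j := 8) (by decide) (by decide)).1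
    (show O.g (p1 5) t ∈ _ from this ▸ O.g_mem (by decide) t))

theorem fin_big (O : OP σ sz G) (H : O.Hyp) (hb : O.Braid) (hO : Cfsg.oddCore G = ⊥) (hs : IsSimpleGroup O.G0)
    (hna : ¬ IsMulCommutative O.G0) (halt : ∀ n : ℕ, ¬ Nonempty (O.G0 ≃* alternatingGroup (Fin n))) :
    O.G0.Normal ∧ O.G0.index = O.C.relIndex (centralizer ({O.τ} : Set G)) := by
  set P := normalizer (O.G0 : Set G) with hP
  have hle : O.G0 ≤ P := le_normalizer
  have hτ : O.τ ∈ O.G0 := O.C_le_G0 (O.g_mem_C 5 1)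
  have hU : O.U ≤ P := (O.U_le_C.trans O.C_le_G0).trans hle
  let e : O.G0.subgroupOf P ≃* O.G0 := subgroupOfEquivOfLe hle
  have hF : Cfsg.generalizedFittingSubgroup P = O.G0.subgroupOf P := by
    have hq := Comp.qs_of_mulEquiv (Comp.qs_of_isSimpleGroup hna) e.symm
    have h1 : Comp.fstarOf (O.G0.subgroupOf P) = O.G0.subgroupOf P := by
      rw [Comp.fstarOf, eq_top_iff.2 ((Comp.layer_eq_top_of_qs hq).ge.trans Comp.layer_le_fstar),
        ← MonoidHom.range_eq_map, range_subtype]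
    have := Comp.fstar_eq_of_centralizer_eq_bot (N := O.G0.subgroupOf P) (by
      rw [h1]
      exact eq_bot_iff.2 fun x hx => Subtype.ext (O.fin_cent H fun y hy =>
        (congrArg Subtype.val (mem_centralizer_iff.1 hx ⟨y, hle hy⟩ hy)).symm))
    rw [← this.2.1, h1]
  have key := Cfsg.Agent.S2902.result hO P (hF ▸ e.isSimpleGroup)
    (hF ▸ fun h => hna ⟨⟨fun a b => e.symm.injective (by rw [map_mul, map_mul, h.1.1])⟩⟩)
    (hF ▸ fun n ⟨f⟩ => halt n ⟨e.symm.trans f⟩) ⟨O.τ, hle hτ⟩ (hF ▸ hτ)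
    ⟨by rw [← Subgroup.orderOf_coe]; exact orderOf_two_of_mul_self O.τ_sq O.τ_ne,
      H.sylU.subtype hU, O.g_mem_U 5 1, fun x hx => Subtype.ext (O.C_cent_Z (O.U_le_C hx) O.τ_mem)⟩
    (O.fin_norm H) fun g hg => by
      obtain ⟨l, hl, k⟩ := H.exists_conj (isPGroup_two_zpowers (x := g * O.τ * g⁻¹)
        (by rw [conj_mul, O.τ_sq]; simp)) (zpowers_le.2 hg) hU
      obtain ⟨y, hy, k'⟩ := O.fus_G0 H ((mem_normalizer_iff.1 hl _).2
        (O.C_le_G0 (O.U_le_C (k _ (mem_zpowers _)))))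
      exact ⟨⟨y, hle hy⟩, hF ▸ hy, k'⟩
  rw [hF, subgroupOf_map_subtype, inf_eq_left.2 hle] at key
  have hN : O.G0.Normal := key ▸ Comp.fstar_normal
  refine ⟨hN, ?_⟩
  have htop : centralizer ({O.τ} : Set G) ⊔ O.G0 = ⊤ := eq_top_iff.2 fun g _ => by
    obtain ⟨y, hy, k⟩ := O.fus_G0 H (hN.conj_mem _ hτ g)
    have := mul_mem (mem_sup_right hy) (mem_sup_left (T := O.G0) (fin_c k))
    rwa [mul_inv_cancel_left] at this
  rw [← relIndex_top_right, ← htop, relIndex_sup_right, ← O.cent_τ hb, inf_relIndex_right]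

theorem fin_two (O : OP σ (sz2 K) G) (H : O.Hyp) (h2 : Two K) : O.G0 = ⊤ := by
  by_contra hne
  have hτ : O.τ ∈ O.G0 := O.C_le_G0 (O.g_mem_C 5 1)
  have oτ := orderOf_two_of_mul_self O.τ_sq O.τ_ne
  have o6 : orderOf (O.g 6 1) = 2 := orderOf_two_of_mul_self (by simp only [O.col])
    fun e => one_ne_zero (O.g_eq_one.1 e)
  have c1 : centralizer ({O.τ} : Set G) ≤ O.G0 := fun x hx =>
    O.C_le_G0 (H.cent_two h2 (mem_centralizer_singleton_iff.1 hx))
  have c2 : centralizer ({O.g 6 1} : Set G) ≤ O.G0 := fun x hx => by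
    obtain ⟨y, hy, k⟩ := O.conj_V (conj_mem_of_mem_normalizer
      (cv H h2 (mem_centralizer_singleton_iff.1 hx)) (O.g_mem (by decide) 1 : O.τ ∈ O.V))
      (by simpa using O.τ_ne)
    exact (mul_mem_cancel_left (inv_mem hy)).1 (c1 (fin_c k))
  have cl := fun t ht (o : orderOf t = 2) => O.inv_G0 H le_rfl (t := t) ht
    (mul_self_of_orderOf_two o) (ne_one_of_orderOf_two o)
  have nc : ¬ IsConj O.τ (O.g 6 1) := fun h => by
    obtain ⟨c, e⟩ := isConj_iff.1 h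
    exact H.not_conj6 one_ne_zero c e
  have hS := (Cfsg.Agent.S0223.result O.G0 hne (even_card_of_involution hτ oτ)).2 ⟨fun t ht o => by
    rcases cl t ht o with ⟨y, hy, rfl⟩ | ⟨y, hy, rfl⟩ <;> rw [← cj_centralizer_singleton, ← cj_eq_of_mem hy]
    exacts [cj_mono _ c1, cj_mono _ c2], fun t ht s hs ot os h => by
      rcases cl t ht ot with ⟨y, hy, rfl⟩ | ⟨y, hy, rfl⟩ <;>
      rcases cl s hs os with ⟨x, hx, rfl⟩ | ⟨x, hx, rfl⟩
      · exact ⟨x * y⁻¹, mul_mem hx (inv_mem hy), by group⟩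
      · exact absurd ((isConj_iff.2 ⟨y, rfl⟩).trans (h.trans (isConj_iff.2 ⟨x, rfl⟩).symm)) nc
      · exact absurd ((isConj_iff.2 ⟨x, rfl⟩).trans (h.symm.trans (isConj_iff.2 ⟨y, rfl⟩).symm)) nc
      · exact ⟨x * y⁻¹, mul_mem hx (inv_mem hy), by group⟩⟩
  obtain ⟨g, hg⟩ : ∃ g, g ∉ O.G0 := by
    by_contra! h
    exact hne (eq_top_iff.2 fun g _ => h g)
  have og := (orderOf_conj_eq g O.τ).trans oτ
  have hu : g * O.τ * g⁻¹ ∉ O.G0 := fun h =>
    odd_card_iff_no_involution.1 (hS.2.2 g hg) _ (mem_inf.2 ⟨h, O.τ, hτ, rfl⟩) og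
  exact nc ((Cfsg.Agent.S1225.result O.G0 hS _ og hu _ _ oτ hτ oτ hτ).2 _ _ oτ o6)

end OP

end CfsgLib.F42
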