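import Mathlib
import Cfsg.Agent.Lib.F42.CV
import Cfsg.Agent.Lib.Invol.Dihedral

/-! # F42: an octagon for `q = 2` (package GEO2) -/

set_option autoImplicit false
set_option Elab.async false
set_option linter.unusedSectionVars false

namespace CfsgLib.F42

open Subgroup
open scoped commutatorElement

variable {K : Type*} [Field K] [Finite K] {G : Type*} [Group G] [Finite G] {σ : K →+* K} {sz : Sz K}

namespace OP

section
variable {O : OP σ sz G}

theorem NB.mulL {p q r : G} (h : O.NB p q r) : O.NB (p * q) q r :=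
  ⟨h.left.third', h.right, h.ne', by rw [mul_assoc, h.right.sq, mul_one]; exact h.ne⟩

theorem NB.mulR {p q r : G} (h : O.NB p q r) : O.NB p q (q * r) := by
  rw [(h.right.commute (by decide)).eq]; exact h.symm.mulL.symm

/-- distance at most `k` -/
def Le (O : OP σ sz G) (k : ℕ) (p q : G) : Prop := ∃ i ≤ k, O.Dk i p q

theorem Dk.le {k : ℕ} {p q : G} (h : O.Dk k p q) : O.Le k p q := ⟨k, le_rfl, h⟩

theorem Le.symm {k : ℕ} {p q : G} (h : O.Le k p q) : O.Le k q p := h.imp fun _ hi => ⟨hi.1, hi.2.symm⟩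

theorem nb_or {p q r : G} (h : O.Dk 1 p q) (h' : O.Dk 1 q r) : O.NB p q r ∨ O.Le 1 p r := by
  by_cases e : r = p
  · exact Or.inr ⟨0, by decide, e ▸ h.left⟩
  by_cases e' : r = p * q
  · exact Or.inr ⟨1, le_rfl, e' ▸ h.third⟩
  exact Or.inl ⟨h, h', e, e'⟩

theorem cyc_of {a0 a1 a2 a3 a4 a5 a6 a7 : G} (h0 : O.NB a0 a1 a2) (h1 : O.NB a1 a2 a3) (h2 : O.NB a2 a3 a4)
    (h3 : O.NB a3 a4 a5) (h4 : O.NB a4 a5 a6) (h5 : O.NB a5 a6 a7) (h6 : O.NB a6 a7 a0) (h7 : O.NB a7 a0 a1) :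
    ∃ p : ZMod 8 → G, ∀ i, O.NB (p i) (p (i + 1)) (p (i + 2)) := by
  refine ⟨fun i => (![a0, a1, a2, a3, a4, a5, a6, a7] : Fin 8 → G) i, fun i => ?_⟩
  fin_cases i
  exacts [h0, h1, h2, h3, h4, h5, h6, h7]

end

variable {O : OP σ (sz2 K) G} (H : O.Hyp) (h2 : Two K)
include H h2

theorem Le.step {j : ℕ} {p q r : G} (h : O.Le j p q) (hj : j < 4) (h' : O.Le 1 q r) : O.Le (j + 1) p r := by
  obtain ⟨i, hi, h⟩ := h
  obtain ⟨l, hl, h'⟩ := h'
  interval_cases l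
  · exact ⟨i, by omega, h'.eq ▸ h⟩
  · obtain ⟨m, hm, h3⟩ := OP.step H h2 (by omega) h h'
    exact ⟨m, by omega, h3⟩

theorem Le.false {j k : ℕ} {p q : G} (h : O.Le j p q) (h' : O.Dk k p q) (hk : k ≤ 4) (hj : j < k) : False := by
  obtain ⟨i, hi, h⟩ := h
  have := excl H h2 (by omega) hk h h'
  omega

theorem Le.eq {j : ℕ} {p q : G} (h : O.Le (j + 1) p q) (h' : ¬ O.Le j p q) : O.Dk (j + 1) p q := by
  obtain ⟨i, hi, h⟩ := h
  rcases Nat.lt_or_ge i (j + 1) with h1 | h1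
  · exact (h' ⟨i, by omega, h⟩).elim
  · rwa [show i = j + 1 by omega] at h

theorem nb2 {p q r : G} (h : O.NB p q r) : O.Dk 2 p r := by
  obtain ⟨x, hx⟩ := std H h2 (fun i => match i with | 0 => p | 1 => q | _ => r) (k := 2) (by decide) h.left
    fun i hi => by obtain rfl : i = 0 := by omega
                   exact h
  have a : x * O.zz (-2) * x⁻¹ = p := hx 0 (by decide)
  have b : x * O.zz 0 * x⁻¹ = r := hx 2 (by decide)
  rw [← a, ← b]
  exact (O.dk_zz (-2) 2).conj x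

theorem std3 {p q r s : G} (h : O.NB p q r) (h' : O.NB q r s) : ∃ x : G, x * O.zz (-1) * x⁻¹ = p ∧
    x * O.zz 0 * x⁻¹ = q ∧ x * O.zz 1 * x⁻¹ = r ∧ x * O.zz 2 * x⁻¹ = s := by
  obtain ⟨x, hx⟩ := std H h2 (fun i => match i with | 0 => p | 1 => q | 2 => r | _ => s) (k := 3) (by decide) h.left
    fun i hi => by
      have : i ≤ 1 := by omega
      interval_cases i
      exacts [h, h']
  have e : ∀ i : ℤ, x * (O.n1 * O.n8) ^ (-1 : ℤ) * O.zz i * (x * (O.n1 * O.n8) ^ (-1 : ℤ))⁻¹ =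
      x * O.zz (-1 + i) * x⁻¹ := fun i => by rw [← O.c_zz]; group
  exact ⟨_, (e _).trans (hx 0 (by decide)), (e _).trans (hx 1 (by decide)), (e _).trans (hx 2 (by decide)),
    (e _).trans (hx 3 (by decide))⟩

theorem nb3 {p q r s : G} (h : O.NB p q r) (h' : O.NB q r s) : O.Dk 3 p s := by
  obtain ⟨x, rfl, -, -, rfl⟩ := std3 H h2 h h'
  exact (O.dk_zz (-1) 3).conj x

theorem nb4 {p q r s t : G} (h : O.NB p q r) (h' : O.NB q r s) (h'' : O.NB r s t) : O.Dk 4 p t := by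
  obtain ⟨x, hx⟩ := std H h2 (fun i => match i with | 0 => p | 1 => q | 2 => r | 3 => s | _ => t) (k := 4) le_rfl
    h.left fun i hi => by
      have : i ≤ 2 := by omega
      interval_cases i
      exacts [h, h', h'']
  have a : x * O.zz (-2) * x⁻¹ = p := hx 0 (by decide)
  have b : x * O.zz 2 * x⁻¹ = t := hx 4 (by decide)
  rw [← a, ← b]
  exact (O.dk_zz (-2) 4).conj x

theorem nbz (i j k : ℤ) (e1 : i + 1 = j) (e2 : i + 2 = k) : O.NB (O.zz i) (O.zz j) (O.zz k) :=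
  e1 ▸ e2 ▸ nb_zz H h2 i

theorem mid2 {p q : G} (h : O.Dk 2 p q) : ∃ m, O.NB p m q := by
  obtain ⟨x, rfl, rfl⟩ := h
  exact ⟨_, (nb_zz H h2 0).conj x⟩

theorem mid3 {p q : G} (h : O.Dk 3 p q) : ∃ x y, O.NB p x y ∧ O.NB x y q := by
  obtain ⟨x, rfl, rfl⟩ := h
  exact ⟨_, _, (nb_zz H h2 0).conj x, (nb_zz H h2 1).conj x⟩

theorem walk3 {p q x y : G} (h : O.Dk 3 p q) (h1 : O.Dk 1 p x) (h3 : O.Dk 1 x y) (h4 : O.Dk 1 y q) :
    O.NB p x y ∧ O.NB x y q :=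
  ⟨(nb_or h1 h3).resolve_right fun l => (l.step H h2 (by decide) h4.le).false H h2 h (by decide) (by decide),
    (nb_or h3 h4).resolve_right fun l => (h1.le.step H h2 (by decide) l).false H h2 h (by decide) (by decide)⟩

theorem uniq3 {p q x y x' y' : G} (h : O.Dk 3 p q) (h1 : O.Dk 1 p x) (h3 : O.Dk 1 x y) (h4 : O.Dk 1 y q)
    (h1' : O.Dk 1 p x') (h3' : O.Dk 1 x' y') (h4' : O.Dk 1 y' q) : x = x' ∧ y = y' := by
  obtain ⟨a, b⟩ := walk3 H h2 h h1 h3 h4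
  obtain ⟨a', b'⟩ := walk3 H h2 h h1' h3' h4'
  obtain ⟨g, rfl, rfl, rfl, rfl⟩ := std3 H h2 a b
  obtain ⟨g', e1, rfl, rfl, e2⟩ := std3 H h2 a' b'
  obtain ⟨k, rfl⟩ : ∃ k, g' = g * k := ⟨g⁻¹ * g', by group⟩
  have cj : ∀ z : G, g * k * z * (g * k)⁻¹ = g * (k * z * k⁻¹) * g⁻¹ := fun z => by group
  simp only [cj] at *
  have c1 := geo_comm (geo_cj e1)
  have c2 := geo_comm (geo_cj e2)
  have e3 : (O.zz (-1) * O.zz 2) ^ 2 = O.g 5 1 * (O.g 6 1 * O.g 8 1) := by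
    simp only [O.zz_neg_one, O.zz_two, pow_two, O.col]
  have c3 := (c1.mul_right c2).pow_right 2
  rw [e3] at c3
  obtain ⟨c, hc, r, hr, e⟩ := O.conj_E2 (x := O.g 5 1 * (O.g 6 1 * O.g 8 1))
    (mul_mem (O.g_mem (by decide) 1) (mul_mem (O.g_mem (by decide) 1) (O.g_mem (by decide) 1))) fun hv =>
      one_ne_zero ((O.g_mem_iff (S := [5, 8]) (j := 6) (by decide) (by decide)).1
        ((mul_mem_cancel_right (O.g_mem (by decide) 1)).1 ((mul_mem_cancel_left (O.g_mem (by decide) 1)).1 hv)))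
  have c4 := c3.conj c
  rw [e, eq1 h2 hr] at c4
  have hcV : c ∈ normalizer (O.V : Set G) := O.pat_norm (by decide) hc
  have hk : k ∈ normalizer (O.V : Set G) := by
    have := mul_mem (mul_mem (inv_mem hcV) (cv H h2 c4)) hcV
    simpa [mul_assoc] using this
  replace h1' := Dk.of_conj g h1'
  replace h4' := Dk.of_conj g h4'
  have n1 := nbz H h2 (-1) 0 1 rfl rfl
  have n2 := nbz H h2 0 1 2 rfl rfl
  constructor <;> congr 2 <;> symm
  · rcases mem_V2 h2 (geo_norm hk (O.zz_zero ▸ O.g_mem (j := 5) (by decide) 1)) with e | e | e | e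
    · exact (h1'.right.ne_one e).elim
    · exact e
    · exact (h1'.le.false H h2 (e ▸ nb2 H h2 n1) (by decide) (by decide)).elim
    · exact (h1'.le.false H h2 (e ▸ nb2 H h2 n1.mulR) (by decide) (by decide)).elim
  · rcases mem_V2 h2 (geo_norm hk (O.zz_one ▸ O.g_mem (j := 8) (by decide) 1)) with e | e | e | e
    · exact (h4'.ne_one e).elim
    · exact (h4'.le.false H h2 (e ▸ nb2 H h2 n2) (by decide) (by decide)).elim
    · exact e
    · exact (h4'.le.false H h2 (e ▸ nb2 H h2 n2.mulL) (by decide) (by decide)).elim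

omit H in
theorem le_V {v w : G} (hv : v ∈ O.V) (hw : w ∈ O.V) (v1 : v ≠ 1) (w1 : w ≠ 1) : O.Le 1 v w := by
  have a : O.Dk 1 (O.zz 0) (O.zz 1) := O.dk_zz 0 1
  have r : ∀ {p}, O.Dk 0 p p → O.Le 1 p p := fun h => ⟨0, by decide, h⟩
  rcases mem_V2 h2 hv with rfl | rfl | rfl | rfl <;> rcases mem_V2 h2 hw with rfl | rfl | rfl | rfl <;>
    first | exact (v1 rfl).elim | exact (w1 rfl).elim | skip
  exacts [r a.left, a.le, a.third.le, a.symm.le, r a.right, a.third'.symm.le, a.third.symm.le, a.third'.le,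
    r a.third.right]

theorem near_V {p : G} (hp : O.Dk 0 p p) (h : Commute p (O.g 6 1)) : ∃ v ∈ O.V, v ≠ 1 ∧ O.Le 1 p v := by
  have hR := pt_line H h2 hp (cv H h2 h)
  have a : O.Dk 1 (O.zz 0) (O.zz 1) := O.dk_zz 0 1
  have v0 : O.zz 0 ∈ O.V := O.zz_zero ▸ O.g_mem (by decide) 1
  have v1 : O.zz 1 ∈ O.V := O.zz_one ▸ O.g_mem (by decide) 1
  by_cases l : O.Le 1 p (O.zz 0)
  · exact ⟨_, v0, a.ne_one, l⟩
  obtain ⟨m, hm⟩ := mid2 H h2 (Le.eq H h2 (comm_pt H h2 hp a.left (O.R_cent_V hR v0)) l)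
  by_cases hV : m ∈ O.V
  · exact ⟨m, hV, hm.right.ne_one, hm.left.le⟩
  have n : O.NB (O.zz 1) (O.zz 0) m :=
    ⟨a.symm, hm.right.symm, fun e => hV (e ▸ v1), fun e => hV (e ▸ mul_mem v1 v0)⟩
  exact (Le.false H h2 (comm_pt H h2 hp a.right (O.R_cent_V hR v1)) (nb3 H h2 n hm.symm).symm (by decide)
    (by decide)).elim

theorem comm_b {u p q : G} (hu : ∃ y : G, y * O.g 6 1 * y⁻¹ = u) (hp : O.Dk 0 p p) (hq : O.Dk 0 q q)
    (h : Commute p u) (h' : Commute q u) : ∃ i ≤ 3, O.Dk i p q := by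
  obtain ⟨y, rfl⟩ := hu
  obtain ⟨p, rfl⟩ : ∃ r', p = y * r' * y⁻¹ := ⟨y⁻¹ * p * y, by group⟩
  obtain ⟨q, rfl⟩ : ∃ r', q = y * r' * y⁻¹ := ⟨y⁻¹ * q * y, by group⟩
  obtain ⟨v, hv, v1, a⟩ := near_V H h2 (Dk.of_conj y hp) ((Commute.conj_iff _).1 h)
  obtain ⟨w, hw, w1, b⟩ := near_V H h2 (Dk.of_conj y hq) ((Commute.conj_iff _).1 h')
  obtain ⟨i, hi, c⟩ := (a.step H h2 (by decide) (le_V h2 hv hw v1 w1)).step H h2 (by decide) b.symm
  exact ⟨i, hi, c.conj y⟩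

theorem cyc : ∃ p : ZMod 8 → G, ∀ i, O.NB (p i) (p (i + 1)) (p (i + 2)) := by
  have n0 := nbz H h2 (-4) (-3) (-2) rfl rfl
  have n1 := nbz H h2 (-3) (-2) (-1) rfl rfl
  have n2 := nbz H h2 (-2) (-1) 0 rfl rfl
  have n3 := nbz H h2 (-1) 0 1 rfl rfl
  have d4 := nb4 H h2 n0 n1 n2
  have v0 : O.zz 0 ∈ O.V := O.zz_zero ▸ O.g_mem (by decide) 1
  have v1 : O.zz 1 ∈ O.V := O.zz_one ▸ O.g_mem (by decide) 1
  obtain ⟨u, ho, c1, c2⟩ : ∃ u : G, orderOf u = 2 ∧ Commute u (O.zz (-4)) ∧ Commute u (O.g 6 1) := by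
    obtain ⟨u, -, h⟩ := Invol.exists_central_involution_of_not_isConj (O.zz_sq (-4))
      (show O.g 6 1 * O.g 6 1 = 1 by simp only [O.col]) fun h => by
        obtain ⟨y, hy⟩ := isConj_iff.1 h.symm
        exact not_pt H d4.left hy
    exact ⟨u, h⟩
  have uu := Invol.mul_self_of_orderOf_two ho
  have hV := cv H h2 c2
  rcases O.inv_G0 H le_top (mem_top u) uu (Invol.ne_one_of_orderOf_two ho) with ⟨y, -, hy⟩ | ⟨y, -, hy⟩
  · have hu : O.Dk 0 u u := pt_iff.2 ⟨y, hy⟩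
    have hR := pt_line H h2 hu hV
    have l1 : O.Le 2 (O.zz (-4)) u := comm_pt H h2 d4.left hu c1.symm
    have l2 : O.Le 2 u (O.zz 0) := comm_pt H h2 hu d4.right (O.R_cent_V hR v0)
    have two : ∀ {a b c : G}, O.Dk 4 a c → O.Le 2 a b → O.Le 2 b c → O.Dk 2 b c := fun d l l' =>
      Le.eq H h2 l' fun l1 => (l.step H h2 (by decide) l1).false H h2 d le_rfl (by decide)
    obtain ⟨r, hr⟩ := mid2 H h2 (two d4.symm l2.symm l1.symm).symm
    obtain ⟨r', hr'⟩ := mid2 H h2 (two d4 l1 l2)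
    have m : O.NB r u r' := (nb_or hr.right hr'.left).resolve_right fun l =>
      ((hr.left.le.step H h2 (by decide) l).step H h2 (by decide) hr'.right.le).false H h2 d4 le_rfl (by decide)
    have nu : u ≠ O.zz (-2) := fun e =>
      Le.false H h2 (comm_pt H h2 hu n3.right.right (O.R_cent_V hR v1)) (e ▸ nb3 H h2 n2 n3) (by decide) (by decide)
    refine cyc_of n0 n1 n2 ⟨n2.right, hr'.right.symm, fun e => ?_, fun e => ?_⟩ hr'.symm m.symm hr.symm
      (NB.symm ⟨n0.left.symm, hr.left, fun e => ?_, fun e => ?_⟩)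
    · exact nu (uniq3 H h2 (nb3 H h2 n0 n1) hr.left hr.right (e ▸ hr'.left) n0.left n0.right n1.right).2
    · exact (nb3 H h2 hr m).le.false H h2 (e ▸ nb4 H h2 n0 n1 n2.mulR) le_rfl (by decide)
    · exact nu (uniq3 H h2 (nb3 H h2 n1 n2) (e ▸ hr.right) hr'.left hr'.right n1.left n1.right n2.right).1
    · rw [(n0.left.commute (by decide)).eq.symm] at e
      exact (nb3 H h2 m hr').le.false H h2 (e ▸ nb4 H h2 n0.mulL n1 n2) le_rfl (by decide)
  · obtain ⟨p, hp, p1, c3⟩ := exists_fix uu hV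
    have lp := le_V h2 v0 hp d4.right.ne_one p1
    obtain ⟨i0, -, pp⟩ := id lp
    have l3 : O.Le 3 (O.zz (-4)) p := comm_b H h2 ⟨y, hy⟩ d4.left pp.right c1.symm c3.symm
    have n : O.NB (O.zz (-1)) (O.zz 0) p := by
      rcases mem_V2 h2 hp with rfl | rfl | rfl | rfl
      · exact (p1 rfl).elim
      · exact (l3.false H h2 d4 le_rfl (by decide)).elim
      · exact n3
      · exact n3.mulR
    obtain ⟨y, x, a, b⟩ := mid3 H h2 (Le.eq H h2 l3 fun l =>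
      (l.step H h2 (by decide) lp.symm).false H h2 d4 le_rfl (by decide))
    refine cyc_of n0 n1 n2 n ((nb_or n.right b.right.symm).resolve_right fun l => ?_) b.symm a.symm
      (NB.symm ⟨n0.left.symm, a.left, fun e => ?_, fun e => ?_⟩)
    · exact ((nb2 H h2 a).le.step H h2 (by decide) l.symm).false H h2 d4 le_rfl (by decide)
    · exact n.ne (uniq3 H h2 (nb3 H h2 n1 n2) (e ▸ a.right) b.right n.right.symm n1.left n1.right n2.right).2
    · rw [(n0.left.commute (by decide)).eq.symm] at e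
      exact ((nb2 H h2 b).le.step H h2 (by decide) n.right.symm.le).false H h2 (e ▸ nb4 H h2 n0.mulL n1 n2) le_rfl
        (by decide)

end OP

end CfsgLib.F42
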