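import Mathlib
import Cfsg.Agent.Lib.F42.Geo2

/-! # F42: the braid relation for `q = 2` (package GEO3) -/

set_option autoImplicit false
set_option Elab.async false
set_option linter.unusedSectionVars false

namespace CfsgLib.F42

open Subgroup
open scoped commutatorElement

variable {K : Type*} [Field K] [Finite K] {G : Type*} [Group G] [Finite G] {σ : K →+* K} {sz : Sz K}

namespace OP

section
variable (O : OP σ sz G)

theorem g3_n8 {S D : List (Fin 12)} (hS : ∀ j ∈ S, j < 10) (hD : ∀ j ∈ S.map p8, j ∈ D) {x : G}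
    (h : O.n8 * x * O.n8⁻¹ ∈ O.pat S) : x ∈ O.pat D := by
  have := (O.n8_conj hS).1 h
  rw [show O.n8 * (O.n8 * x * O.n8⁻¹) * O.n8⁻¹ = (O.n8 * O.n8) * x * (O.n8 * O.n8)⁻¹ by group, O.n8_sq] at this
  exact O.pat_mono hD (by simpa using this)

theorem g3_n1 {S D : List (Fin 12)} (hS : ∀ j ∈ S, 0 < j) (hD : ∀ j ∈ S.map p1, j ∈ D) {x : G}
    (h : O.n1 * x * O.n1⁻¹ ∈ O.pat S) : x ∈ O.pat D := by
  have := (O.n1_conj hS).1 h
  rw [show O.n1 * (O.n1 * x * O.n1⁻¹) * O.n1⁻¹ = (O.n1 * O.n1) * x * (O.n1 * O.n1)⁻¹ by group, O.n1_sq] at this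
  exact O.pat_mono hD (by simpa using this)

/-- the action on `z8` modulo `z6` -/
theorem g3_z8 {x : G} (hx : x ∈ O.pat [1, 2, 3, 4, 5, 6, 7, 8]) {s : K}
    (h : x * O.g 11 1 * x⁻¹ = O.g 8 s * O.g 11 1) :
    x ∈ O.pat [3, 4, 5, 6, 7, 8] ∧ (s = 0 → x ∈ O.pat [4, 5, 6, 7, 8]) := by
  obtain ⟨p, hp, rfl⟩ := (O.mem_pat (by decide)).1 hx
  have h0 := hp 0 (by decide)
  have h9 := hp 9 (by decide)
  have h10 := hp 10 (by decide)
  have h11 := hp 11 (by decide)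
  have e : O.g 8 s * (O.g 11 1 * O.nf p) = O.nf p * O.g 11 1 := by
    rw [← mul_assoc (O.g 8 s), ← h]; group
  have := O.charP
  simp only [OC.nf, nfg, h0, h9, h10, h11, O.col] at e
  have k := O.nf_inj (a0 := 0) (b0 := 0) (a10 := 0) (b10 := 0) (b9 := 0)
    (by simp only [O.g_zero, one_mul]; exact e)
  have p1 : p 1 = 0 := by grind
  have p2 : p 2 = 0 := by grind
  refine ⟨O.nf_mem_of fun j hj => ?_, fun hs => O.nf_mem_of fun j hj => ?_⟩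
  · fin_cases j <;> first | assumption | exact absurd (by decide) hj
  · have p3 : p 3 = 0 := by grind
    fin_cases j <;> first | assumption | exact absurd (by decide) hj

theorem g3_fix2 {x : G} (hx : x ∈ O.pat [1, 2, 3, 4, 5, 6, 7, 8]) (h : Commute x (O.zz 2)) :
    x ∈ O.pat [4, 5, 6, 7, 8] :=
  (O.g3_z8 hx (s := 0) (by rw [O.g_zero, one_mul, ← O.zz_two, geo_fix h])).2 rfl

theorem g3_line {x : G} (hx : x ∈ O.pat [1, 2, 3, 4, 5, 6, 7, 8])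
    (h : x * O.zz 2 * x⁻¹ = O.zz 2 ∨ x * O.zz 2 * x⁻¹ = O.zz 1 * O.zz 2) : x ∈ O.pat [3, 4, 5, 6, 7, 8] := by
  rw [O.zz_one, O.zz_two] at h
  rcases h with h | h
  · exact (O.g3_z8 hx (s := 0) (by rw [O.g_zero, one_mul, h])).1
  · exact (O.g3_z8 hx h).1

theorem g3_c8 {x : G} {i : ℤ} (h : Commute x (O.zz (-i))) : Commute (O.n8 * x * O.n8⁻¹) (O.zz i) := by
  have := h.conj O.n8
  rwa [O.n8_zz, neg_neg] at this

theorem g3_fix0 {x : G} (hx : x ∈ O.U4) (h : x * O.zz 3 * x⁻¹ = O.zz 3 ∨ x * O.zz 3 * x⁻¹ = O.zz 2 * O.zz 3) :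
    x = 1 := by
  have m := (O.n8_conj (by decide)).1 ((O.n1_conj (by decide)).1 hx)
  have e : ∀ i, O.n8 * (O.n1 * O.zz i * O.n1⁻¹) * O.n8⁻¹ = O.zz (i - 1) := fun i => by
    rw [O.n1_zz, O.n8_zz, neg_sub]
  have := O.g3_line (O.pat_mono (by decide) m) (by
    rw [show (2 : ℤ) = 3 - 1 from rfl, show O.zz 1 = O.zz (2 - 1) from rfl, ← e, ← e]
    refine h.imp (fun h => ?_) fun h => ?_
    · conv_rhs => rw [← h]
      group
    · calc _ = O.n8 * (O.n1 * (x * O.zz 3 * x⁻¹) * O.n1⁻¹) * O.n8⁻¹ := by group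
        _ = _ := by rw [h]; group)
  have h1 := O.inf_one (by decide) (by decide) (by decide) m this
  exact conj_eq_one_iff.1 (conj_eq_one_iff.1 h1)

end

variable {O : OP σ (sz2 K) G} (H : O.Hyp) (h2 : Two K)
include H h2

theorem g3_R {x : G} (h0 : Commute x (O.zz 0)) (h1 : Commute x (O.zz 1)) : x ∈ O.R := by
  rw [O.zz_zero] at h0
  rw [O.zz_one] at h1
  exact O.cent_V (H.cent_two h2 h0) (O.g_mem (j := 8) (by decide) 1)
    (fun h => one_ne_zero ((O.g_mem_iff (by decide) (by decide)).1 h)) h1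

theorem g3_three {x : G} (h : ∀ i : ℤ, -1 ≤ i → i ≤ 1 → Commute x (O.zz i)) : x ∈ O.pat [1, 2, 3, 4, 5, 6, 7, 8] := by
  have a := g3_R H h2 (h 0 (by decide) (by decide)) (h 1 (by decide) (by decide))
  have b := g3_R H h2 (O.g3_c8 (i := 0) (h 0 (by decide) (by decide))) (O.g3_c8 (h (-1) (by decide) (by decide)))
  have c := O.inf_n8 (O.pat_le_U _ b) (O.pat_le_B8 _ (by
    rw [show O.n8 * (O.n8 * x * O.n8⁻¹) * O.n8⁻¹ = (O.n8 * O.n8) * x * (O.n8 * O.n8)⁻¹ by group, O.n8_sq]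
    simpa using a))
  have d : x ∈ O.pat [0, 1, 2, 3, 4, 5, 6, 7, 8] := O.g3_n8 (S := [1, 2, 3, 4, 5, 6, 7, 8, 9]) (by decide) (by decide)
    (O.inf_mem (by decide) (by decide) (by decide) b c)
  exact O.inf_mem (by decide) (by decide) (by decide) a d

theorem g3_four {x : G} (h : ∀ i : ℤ, -1 ≤ i → i ≤ 2 → Commute x (O.zz i)) : x ∈ O.pat [4, 5, 6, 7, 8] :=
  O.g3_fix2 (g3_three H h2 fun i a b => h i a (by omega)) (h 2 (by decide) le_rfl)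

theorem fix4 {x : G} (h : ∀ i : ℤ, -2 ≤ i → i ≤ 2 → Commute x (O.zz i)) : x ∈ O.U4 := by
  have a := g3_four H h2 fun i a b => h i (by omega) b
  have b : x ∈ O.pat [1, 2, 3, 4, 5] := O.g3_n8 (by decide) (by decide)
    (g3_four H h2 fun i a b => O.g3_c8 (h (-i) (by omega) (by omega)))
  exact O.inf_mem (by decide) (by decide) (by decide) a b

theorem g3_B {x : G} (h : ∀ i : ℤ, -1 ≤ i → i ≤ 2 → Commute x (O.zz i))
    (h' : x * O.zz (-2) * x⁻¹ = O.zz (-2) ∨ x * O.zz (-2) * x⁻¹ = O.zz (-1) * O.zz (-2)) : x ∈ O.pat [4, 5, 6] := by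
  have m := (O.n8_conj (by decide)).1 (g3_four H h2 h)
  have := O.g3_line (O.pat_mono (by decide) m) (by
    rw [show (2 : ℤ) = - -2 from rfl, show O.zz 1 = O.zz (- -1) from rfl, ← O.n8_zz, ← O.n8_zz (-1)]
    refine h'.imp (fun h => ?_) fun h => ?_
    · conv_rhs => rw [← h]
      group
    · calc _ = O.n8 * (x * O.zz (-2) * x⁻¹) * O.n8⁻¹ := by group
        _ = _ := by rw [h]; group)
  exact O.g3_n8 (S := [3, 4, 5]) (by decide) (by decide) (O.inf_mem (by decide) (by decide) (by decide) m this)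

theorem g3_ext {p p' : ZMod 8 → G} (h : ∀ i, O.NB (p i) (p (i + 1)) (p (i + 2)))
    (h' : ∀ i, O.NB (p' i) (p' (i + 1)) (p' (i + 2))) {g : G} (e : ∀ i : ℕ, i ≤ 4 → g * p i * g⁻¹ = p' i)
    (e5 : g * p 5 * g⁻¹ = p' 5 ∨ g * p 5 * g⁻¹ = p' 4 * p' 5) (i : ZMod 8) : g * p i * g⁻¹ = p' i := by
  have a5 : O.NB (p 5) (p 6) (p 7) := h 5
  have a6 : O.NB (p 6) (p 7) (p 0) := h 6
  have b4 : O.NB (p' 4) (p' 5) (p' 6) := h' 4
  have b5 : O.NB (p' 5) (p' 6) (p' 7) := h' 5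
  have b6 : O.NB (p' 6) (p' 7) (p' 0) := h' 6
  have e0 : g * p 0 * g⁻¹ = p' 0 := e 0 (by decide)
  have d := (nb3 H h2 a5 a6).conj g
  rw [e0] at d
  have f5 : g * p 5 * g⁻¹ = p' 5 := e5.resolve_right fun f =>
    absurd (excl H h2 (by decide) (by decide) (f ▸ d) (nb4 H h2 b4.mulL b5 b6)) (by decide)
  obtain ⟨f6, f7⟩ := uniq3 H h2 (f5 ▸ d) (f5 ▸ a5.left.conj g) (a5.right.conj g) (e0 ▸ a6.right.conj g)
    b5.left b5.right b6.right
  fin_cases i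
  exacts [e0, e 1 (by decide), e 2 (by decide), e 3 (by decide), e 4 (by decide), f5, f6, f7]

theorem g3_std {p : ZMod 8 → G} (h : ∀ i, O.NB (p i) (p (i + 1)) (p (i + 2))) :
    ∃ x : G, (∀ i : ℕ, i ≤ 4 → x * O.zz (i - 2) * x⁻¹ = p i) ∧
      (x * O.zz 3 * x⁻¹ = p 5 ∨ x * O.zz 3 * x⁻¹ = p 4 * p 5) :=
  std5 H h2 (fun i : ℕ => p i) fun i _ => by push_cast; exact h i

theorem dih {p p' : ZMod 8 → G} (h : ∀ i, O.NB (p i) (p (i + 1)) (p (i + 2)))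
    (h' : ∀ i, O.NB (p' i) (p' (i + 1)) (p' (i + 2))) : ∃ x : G, ∀ i, x * p i * x⁻¹ = p' i := by
  obtain ⟨x, a, a5⟩ := g3_std H h2 h
  obtain ⟨y, b, b5⟩ := g3_std H h2 h'
  have e : ∀ i : ℕ, i ≤ 4 → y * x⁻¹ * p i * (y * x⁻¹)⁻¹ = p' i := fun i hi => by rw [← a i hi, ← b i hi]; group
  refine ⟨y * x⁻¹, g3_ext H h2 h h' e ?_⟩
  have e4 : y * x⁻¹ * p 4 * (y * x⁻¹)⁻¹ = p' 4 := e 4 le_rfl
  have s : p 4 * p 4 = 1 := (h 4).left.sq
  have s' : p' 4 * p' 4 = 1 := (h' 4).left.sq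
  have k : y * x⁻¹ * p 5 * (y * x⁻¹)⁻¹ = y * O.zz 3 * y⁻¹ ∨
      y * x⁻¹ * p 5 * (y * x⁻¹)⁻¹ = p' 4 * (y * O.zz 3 * y⁻¹) := by
    refine a5.imp (fun f => ?_) fun f => ?_
    · rw [← f]; group
    · calc _ = y * x⁻¹ * (p 4 * p 4 * p 5) * (y * x⁻¹)⁻¹ := by rw [s, one_mul]
        _ = y * x⁻¹ * p 4 * (y * x⁻¹)⁻¹ * (y * x⁻¹ * (p 4 * p 5) * (y * x⁻¹)⁻¹) := by group
        _ = _ := by rw [e4, ← f]; group
  rcases k with k | k <;> rcases b5 with f | f <;> rw [k, f]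
  exacts [Or.inl rfl, Or.inr rfl, Or.inr rfl, Or.inl (by rw [← mul_assoc, s', one_mul])]

theorem g3_cyc : ∃ p : ZMod 8 → G, (∀ i, O.NB (p i) (p (i + 1)) (p (i + 2))) ∧
    (∀ i : ℕ, i ≤ 4 → O.zz (i - 2) = p i) ∧ (p 5 = O.zz 3 ∨ p 5 = O.zz 2 * O.zz 3) := by
  obtain ⟨p, h⟩ := cyc H h2
  obtain ⟨x, a, a5⟩ := g3_std H h2 h
  have c : ∀ {y z : G}, x * y * x⁻¹ = z → y = x⁻¹ * z * x⁻¹⁻¹ := fun e => by rw [← e]; group
  refine ⟨fun i => x⁻¹ * p i * x⁻¹⁻¹, fun i => (h i).conj _, fun i hi => c (a i hi), ?_⟩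
  refine a5.imp (fun f => (c f).symm) fun f => (c ?_).symm
  have a4 : x * O.zz 2 * x⁻¹ = p 4 := a 4 le_rfl
  calc _ = x * O.zz 2 * x⁻¹ * (x * O.zz 3 * x⁻¹) := by group
    _ = _ := by rw [a4, f, ← mul_assoc, (h 4).left.sq, one_mul]

omit H h2 in
theorem g3_refl {p : ZMod 8 → G} (h : ∀ i, O.NB (p i) (p (i + 1)) (p (i + 2))) (k i : ZMod 8) :
    O.NB (p (k - i)) (p (k - (i + 1))) (p (k - (i + 2))) := by
  convert (h (k - (i + 2))).symm using 2 <;> ring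

theorem braid_two : O.Braid := by
  obtain ⟨p, h, z, z5⟩ := g3_cyc H h2
  have z0 : O.zz (-2) = p 0 := z 0 (by decide)
  have z1 : O.zz (-1) = p 1 := z 1 (by decide)
  have z2 : O.zz 0 = p 2 := z 2 (by decide)
  have z3 : O.zz 1 = p 3 := z 3 (by decide)
  have z4 : O.zz 2 = p 4 := z 4 (by decide)
  have all : ∀ x : G, (∀ i, x * p i * x⁻¹ = p i) → x = 1 := fun x hx => by
    have hz : ∀ i : ℤ, -2 ≤ i → i ≤ 2 → Commute x (O.zz i) := fun i a b => by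
      interval_cases i <;> simp only [z0, z1, z2, z3, z4] <;> exact geo_comm (hx _)
    refine O.g3_fix0 (fix4 H h2 hz) (Or.inl (geo_fix ?_))
    have c := geo_comm (hx 5)
    rcases z5 with e | e <;> rw [e] at c
    · exact c
    · simpa using (hz 2 (by decide) le_rfl).inv_right.mul_right c
  obtain ⟨s4, f4⟩ := dih H h2 h (g3_refl h 4)
  obtain ⟨s5, f5⟩ := dih H h2 h (g3_refl h 5)
  -- `s4 ∈ n8 Z`
  obtain ⟨t, ht⟩ : ∃ t, s4 = O.n8 * O.g 5 t := by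
    have hu : O.n8⁻¹ * s4 ∈ O.U4 := fix4 H h2 fun i a b => geo_comm (geo_cj (x := O.n8) (by
      rw [O.n8_zz, show O.n8 * (O.n8⁻¹ * s4 * O.zz i * (O.n8⁻¹ * s4)⁻¹) * O.n8⁻¹ = s4 * O.zz i * s4⁻¹ by group]
      interval_cases i <;> simp only [neg_neg, neg_zero, z0, z1, z2, z3, z4] <;> exact f4 _))
    have sq : s4 * s4 = 1 := all _ fun i => by
      rw [show s4 * s4 * p i * (s4 * s4)⁻¹ = s4 * (s4 * p i * s4⁻¹) * s4⁻¹ by group, f4, f4, sub_sub_cancel]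
    obtain ⟨a, u, hu', e⟩ := (O.mem_cons (by decide)).1 hu
    obtain ⟨t, rfl⟩ := O.mem_Z.1 hu'
    have e' : s4 = O.n8 * (O.g 4 a * O.g 5 t) := by rw [← e]; group
    have c : O.n8 * (O.g 4 a * O.g 5 t) * O.n8⁻¹ = O.g 4 a * O.g 5 t := by
      calc _ = O.n8 * O.g 4 a * O.n8⁻¹ * (O.n8 * O.g 5 t * O.n8⁻¹) := by group
        _ = _ := by rw [O.n8_g 4 (by decide), O.n8_g 5 (by decide)]; rfl
    have k : O.g 4 a * O.g 5 t * (O.g 4 a * O.g 5 t) = 1 := by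
      calc _ = O.n8 * (O.g 4 a * O.g 5 t) * O.n8⁻¹ * (O.g 4 a * O.g 5 t) := by rw [c]
        _ = 1 := by rw [← sq, e', O.n8_inv]; group
    rcases h2 a with rfl | rfl
    · exact ⟨t, by rw [e', O.g_zero, one_mul]⟩
    · simp only [O.col] at k
      exact absurd k O.τ_ne
  -- `s5 ∈ n1 U5`
  obtain ⟨j, hj⟩ : ∃ j, s5 = O.n1 * O.g 6 j := by
    have B : ∀ s : G, (∀ i, s * p i * s⁻¹ = p (5 - i)) → O.n1 * s ∈ O.pat [4, 5, 6] := fun s f => by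
      have e : ∀ y, O.n1 * s * y * (O.n1 * s)⁻¹ = O.n1 * (s * y * s⁻¹) * O.n1⁻¹ := fun y => by group
      refine g3_B H h2 (fun i a b => geo_comm ?_) ?_
      · rw [e]
        conv_rhs => rw [← sub_sub_cancel 1 i, ← O.n1_zz]
        congr 2
        interval_cases i <;> norm_num [z1, z2, z3, z4] <;> exact f _
      · rw [e, z0, f, ← z0, sub_zero]
        refine z5.imp (fun k => ?_) fun k => ?_
        · rw [k, O.n1_zz]; rfl
        · rw [k, show O.n1 * (O.zz 2 * O.zz 3) * O.n1⁻¹ = O.n1 * O.zz 2 * O.n1⁻¹ * (O.n1 * O.zz 3 * O.n1⁻¹) by group,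
            O.n1_zz, O.n1_zz]; rfl
    have b1 := (O.n1_conj (by decide)).1 (B s5 f5)
    have b2 := inv_mem (B s5⁻¹ fun i => by rw [← sub_sub_cancel 5 i, ← f5, sub_sub_cancel]; group)
    rw [show (O.n1 * s5⁻¹)⁻¹ = O.n1 * (O.n1 * s5) * O.n1⁻¹ by rw [← mul_assoc O.n1, O.n1_sq]; group] at b2
    have b3 : O.n1 * s5 ∈ O.pat [6] := O.g3_n1 (S := [6]) (by decide) (by decide)
      (O.inf_mem (by decide) (by decide) (by decide) b1 b2)
    obtain ⟨j, u, hu, e⟩ := (O.mem_cons (by decide)).1 b3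
    rw [O.pat_nil, mem_bot] at hu
    exact ⟨j, by rw [← mul_one (O.g 6 j), ← hu, ← e, ← mul_assoc, O.n1_sq, one_mul]⟩
  have t4 : ∀ {y : G} {i : ZMod 8}, Commute y (p i) → Commute (s4 * y * s4⁻¹) (p (4 - i)) := fun c =>
    f4 _ ▸ c.conj s4
  have t5 : ∀ {y : G} {i : ZMod 8}, Commute y (p i) → Commute (s5 * y * s5⁻¹) (p (5 - i)) := fun c =>
    f5 _ ▸ c.conj s5
  have c4 : ∀ y, s4 * y * s4⁻¹ = O.n8 * (O.g 5 t * y * (O.g 5 t)⁻¹) * O.n8⁻¹ := fun y => by rw [ht]; group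
  have c5 : ∀ y, s5 * y * s5⁻¹ = O.n1 * (O.g 6 j * y * (O.g 6 j)⁻¹) * O.n1⁻¹ := fun y => by rw [hj]; group
  have e6 : s5 * O.g 4 1 * s5⁻¹ = O.g 7 1 := by
    rw [c5, geo_fix (O.r4_6 1 j), O.n1_g 4 (by decide)]; rfl
  have e2 : s4 * O.g 7 1 * s4⁻¹ = O.g 1 1 := by
    rw [c4, geo_fix (O.r5_7 t 1).symm, O.n8_g 7 (by decide)]; rfl
  have e8 : s5 * O.g 1 1 * s5⁻¹ = O.g 8 j * O.g 10 1 := by
    have : O.g 6 j * O.g 1 1 * (O.g 6 j)⁻¹ = O.g 5 j * O.g 1 1 := by simp only [O.col]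
    rw [c5, this, show O.n1 * (O.g 5 j * O.g 1 1) * O.n1⁻¹ = O.n1 * O.g 5 j * O.n1⁻¹ * (O.n1 * O.g 1 1 * O.n1⁻¹) by
      group, O.n1_g 5 (by decide), O.n1_g 1 (by decide)]; rfl
  have e0 : s4 * (O.g 8 j * O.g 10 1) * s4⁻¹ = O.g 2 j * (O.n8 * O.g 10 1 * O.n8⁻¹) := by
    have : O.g 5 t * (O.g 8 j * O.g 10 1) * (O.g 5 t)⁻¹ = O.g 8 j * O.g 10 1 := by simp only [O.col]
    rw [c4, this, show O.g 2 j = O.g (p8 8) j from rfl, ← O.n8_g 8 (by decide)]; group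
  have y0 : Commute (O.g 2 j * (O.n8 * O.g 10 1 * O.n8⁻¹)) (p 6) := by
    have y4 : Commute (O.g 4 1) (p 0) :=
      z0 ▸ (cz2 (S := [4]) (by decide)).of8 (S := [4]) (i := -2) (by decide) (by decide) (by decide) _
        (O.g_mem (by decide) 1)
    have := t4 (t5 (t4 (t5 y4)))
    rwa [e6, e2, e8, e0] at this
  set m := O.g 2 j * O.n8 * (O.g 2 j)⁻¹ with hm
  have cm : ∀ y, m * y * m⁻¹ = O.g 2 j * (O.n8 * ((O.g 2 j)⁻¹ * y * O.g 2 j) * O.n8⁻¹) * (O.g 2 j)⁻¹ := fun y => by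
    rw [hm]; group
  have m6 : m * p 6 * m⁻¹ = p 6 := by
    have c : Commute (O.g 11 1) (p 6) := by
      rw [← O.zz_two, z4]; exact (nb2 H h2 (h 4)).commute le_rfl
    have e : m = O.g 2 j * (O.n8 * O.g 10 1 * O.n8⁻¹) * O.g 11 1 * (O.g 2 j * (O.n8 * O.g 10 1 * O.n8⁻¹))⁻¹ := by
      rw [hm]
      conv_lhs => rw [n8_eq H h2]
      group
    rw [e]
    exact geo_fix ((y0.mul_left c).mul_left y0.inv_left)
  have m3 : m * p 3 * m⁻¹ = p 1 := by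
    have : (O.g 2 j)⁻¹ * O.g 8 1 * O.g 2 j = O.g 8 1 := by simp only [O.col]
    rw [← z3, ← z1, O.zz_one, cm, this, O.n8_g 8 (by decide), O.zz_neg_one]
    show O.g 2 j * O.g 2 1 * (O.g 2 j)⁻¹ = _
    exact geo_fix (O.commute_pat (A := [2]) (B := [2]) (by decide) (O.g_mem (by decide) _) (O.g_mem (by decide) _))
  have a3 : O.NB (p 3) (p 4) (p 5) := h 3
  have a4 : O.NB (p 4) (p 5) (p 6) := h 4
  have a6 : O.NB (p 6) (p 7) (p 0) := h 6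
  have a7 : O.NB (p 7) (p 0) (p 1) := h 7
  obtain ⟨m4, m5⟩ := uniq3 H h2 (nb3 H h2 a6 a7).symm (m3 ▸ a3.left.conj m) (a3.right.conj m)
    (m6 ▸ a4.right.conj m) a7.right.symm a7.left.symm a6.left.symm
  obtain rfl : j = 0 := by
    rw [← z4, ← z0, O.zz_neg_two, cm, O.zz_two] at m4
    have c : Commute (O.g 8 j * (O.g 2 j)⁻¹) (O.zz 2) := geo_comm (geo_cj (x := O.n8) (by
      have k : O.n8 * O.g 8 j * O.n8⁻¹ = O.g 2 j := O.n8_g 8 (by decide) j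
      rw [O.zz_two]
      calc _ = O.n8 * O.g 8 j * O.n8⁻¹ * (O.n8 * ((O.g 2 j)⁻¹ * O.g 11 1 * O.g 2 j) * O.n8⁻¹) *
            (O.n8 * O.g 8 j * O.n8⁻¹)⁻¹ := by group
        _ = _ := by rw [k, m4]))
    have := O.g3_fix2 (mul_mem (O.g_mem (by decide) _) (inv_mem (O.g_mem (by decide) _))) c
    exact (O.g_mem_iff (by decide) (by decide)).1 (inv_mem_iff.1 ((mul_mem_cancel_left (O.g_mem (by decide) _)).1 this))
  rw [O.g_zero, mul_one] at hj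
  rw [O.g_zero, one_mul, inv_one, mul_one] at hm
  have f8 : ∀ i, O.n8 * p i * O.n8⁻¹ = p (4 - i) := g3_ext H h2 h (g3_refl h 4) (fun i hi => by
    rw [← z i hi, O.n8_zz]
    interval_cases i
    exacts [z4, z3, z2, z1, z0]) (Or.inl (hm ▸ m5))
  have f1 : ∀ (k : ℕ) i, (O.n1 * O.n8) ^ k * p i * ((O.n1 * O.n8) ^ k)⁻¹ = p (i + k) := fun k i => by
    induction k with
    | zero => simp
    | succ k ih =>
      calc _ = O.n1 * (O.n8 * ((O.n1 * O.n8) ^ k * p i * ((O.n1 * O.n8) ^ k)⁻¹) * O.n8⁻¹) * O.n1⁻¹ := by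
            rw [pow_succ']; simp only [mul_inv_rev, mul_assoc]
        _ = _ := by rw [ih, f8, ← hj, f5]; congr 1; push_cast; ring
  exact all _ fun i => by rw [f1]; congr 1; exact add_eq_left.2 rfl

end OP

end CfsgLib.F42
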