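import Mathlib
import Cfsg.Agent.Lib.F42.Pin2

/-! # F42: the action of `w` on the root subgroups (package PIN3) -/

set_option autoImplicit false
set_option Elab.async false
set_option linter.unusedSectionVars false

namespace CfsgLib.F42

open Subgroup
open scoped commutatorElement

variable {K : Type*} [Field K] [Finite K] {G : Type*} [Group G] [Finite G] {σ : K →+* K} {sz : Sz K}

theorem OC.aut_eq_id (O : OC σ sz G) (f : K →+* K) (h : ∀ t, f (f t) = t) (t : K) : f t = t := by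
  by_contra ht
  have := O.charP
  let δ : K →+ K := AddMonoidHom.id K + f.toAddMonoidHom
  have hδ : ∀ x, δ x = x + f x := fun _ => rfl
  have d0 : δ t ≠ 0 := fun e => ht (O.add_eq_zero.1 e).symm
  have e : δ.range = δ.ker := le_antisymm (by
      rintro _ ⟨x, rfl⟩
      rw [AddMonoidHom.mem_ker, hδ, hδ, map_add, h]; grind) fun c hc => ⟨c * t / δ t, by
      have h1 : f c = c := (O.add_eq_zero.1 hc).symm
      have h2 : f (δ t) = δ t := by rw [hδ, map_add, h, add_comm]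
      rw [hδ (c * t / δ t), map_div₀, map_mul, h1, h2, ← add_div, ← mul_add, ← hδ, mul_div_cancel_right₀ _ d0]⟩
  have hc := δ.ker.card_mul_index
  rw [AddSubgroup.index_ker, e] at hc
  obtain ⟨n, hn⟩ := O.card_K
  have h3 : 3 ∣ Nat.card Kˣ := by
    rw [Nat.card_units, ← hc]
    generalize Nat.card δ.ker = m at hc
    have : m % 3 ≠ 0 := fun e => by
      have : 3 ∣ 2 ^ n := hn ▸ hc ▸ (Nat.dvd_of_mod_eq_zero e).mul_right m
      exact absurd (Nat.prime_three.dvd_of_dvd_pow this) (by decide)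
    have : m * m % 3 = 1 := by
      rw [Nat.mul_mod]
      rcases (by omega : m % 3 = 1 ∨ m % 3 = 2) with e | e <;> rw [e]
    omega
  have : Fact (Nat.Prime 3) := ⟨Nat.prime_three⟩
  obtain ⟨x, hx⟩ := exists_prime_orderOf_dvd_card' 3 h3
  have x3 : (x : K) ^ 3 = 1 := by rw [← Units.val_pow_eq_pow_val, ← hx, pow_orderOf_eq_one, Units.val_one]
  have x1 : (x : K) - 1 ≠ 0 := fun e => by
    rw [show x = 1 from Units.ext (sub_eq_zero.1 e), orderOf_one] at hx; omega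
  exact O.no_cube (t := x) (mul_left_cancel₀ x1 (by linear_combination x3))

theorem OT.H_le_P0 (T : OT σ sz G) : T.H ≤ T.P0 := le_inf (T.h_norm _) (le_inf (T.h_norm _) (T.h_norm _))

theorem pin_ww {w x y : G} (h2 : w * w = 1) (h : w * x * w⁻¹ = y) : w * y * w⁻¹ = x := by
  rw [← h, ← mul_assoc, ← mul_assoc, h2, one_mul, mul_assoc, ← mul_inv_rev, h2, inv_one, mul_one]

theorem pin_cj (w y x : G) : w * (y * x * y⁻¹) * w⁻¹ = (w * y * w⁻¹) * (w * x * w⁻¹) * (w * y * w⁻¹)⁻¹ := by group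


theorem OT.pin3a (T : OT σ sz G) (H : T.Hyp) (hq : Big K) {w : G} (hw : T.Sw w) (h2 : w * w = 1)
    (hn : w ∈ normalizer (T.H : Set G)) (α β : Kˣ) : w * T.h (α, β) * w⁻¹ = T.h (α⁻¹, α * β) := by
  have _ := H
  have _ := hq
  choose F hF using fun t => T.mem_Z6.1 (hw.z _ (T.g_mem (S := [5]) (j := 5) (by decide) t))
  have add : ∀ s t, F (s + t) = F s + F t := fun s t => T.g_inj 8 (by rw [← hF, ← T.a5, ← conj_mul, hF, hF, T.a8])
  have F1 : F 1 ≠ 0 := fun e => T.τ_ne (by have := hF 1; rw [e, T.g_zero] at this; simpa using this)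
  have F0 : F 0 = 0 := T.g_eq_one.1 (by rw [← hF, T.g_zero]; simp)
  have key : ∀ x y : Kˣ × Kˣ, w * T.h x * w⁻¹ = T.h y → ∀ t, F (chi σ 5 x.1 x.2 * t) = chi σ 8 y.1 y.2 * F t :=
    fun x y e t => T.g_inj 8 (by rw [← hF, ← T.h_g, pin_cj, ← T.h_g, hF, e])
  have ex : ∀ x, ∃ y, w * T.h x * w⁻¹ = T.h y := fun x => by
    obtain ⟨y, hy⟩ := OC.pin_nm hn ⟨x, rfl⟩; exact ⟨y, hy.symm⟩
  have mul : ∀ s t, F (s * t) = F s / F 1 * F t := fun s t => by
    by_cases hs : s = 0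
    · simp [hs, F0]
    obtain ⟨x, hx⟩ := T.chi_bij.2 (Units.mk0 s hs, 1)
    obtain rfl : chi σ 5 x.1 x.2 = s := congrArg (fun x : Kˣ × Kˣ => (x.1 : K)) hx
    obtain ⟨y, hy⟩ := ex x
    have := key x y hy 1
    rw [mul_one] at this
    rw [key x y hy, this, mul_div_cancel_right₀ _ F1]
  let f : K →+* K :=
    { toFun := fun s => F s / F 1
      map_one' := div_self F1
      map_mul' := fun s t => by rw [mul]; ring
      map_zero' := by rw [F0, zero_div]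
      map_add' := fun s t => by rw [add, add_div] }
  have hf : ∀ x y : Kˣ × Kˣ, w * T.h x * w⁻¹ = T.h y → chi σ 8 y.1 y.2 = f (chi σ 5 x.1 x.2) := fun x y e => by
    have := key x y e 1
    rw [mul_one] at this
    change _ = F _ / F 1
    rw [this, mul_div_cancel_right₀ _ F1]
  have h5 : ∀ x y : Kˣ × Kˣ, w * T.h x * w⁻¹ = T.h y → chi σ 6 x.1 x.2 = 1 → chi σ 6 y.1 y.2 = 1 := fun x y e h6 => by
    have m := OC.pin_nm (T.norm_E2 hw.norm) (T.g_mem (S := [5, 6, 8]) (j := 6) (by decide) 1)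
    obtain ⟨r, v, hv, e1⟩ := (T.mem_cons (k := 6) (S := [5, 8]) (by decide)).1 (T.pat_mono (by decide) m)
    have e2 := pin_cj w (T.h x) (T.g 6 r * v)
    rw [pin_ww h2 e1, e, T.h_g, ← conj_mul (a := T.g 6 r), T.h_g, h6, one_mul, mul_one,
      show T.g 6 r * (T.h (x.1, x.2) * v * (T.h (x.1, x.2))⁻¹) =
        T.g 6 r * v * (v⁻¹ * (T.h (x.1, x.2) * v * (T.h (x.1, x.2))⁻¹)) by group, ← conj_mul (a := T.g 6 r * v),
      pin_ww h2 e1] at e2
    exact (T.layer_inj (k := 6) (S := [5, 8]) (by decide) (by decide) (OC.pin_nm (T.norm_V hw.norm)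
      (mul_mem (inv_mem hv) (OC.pin_nm (T.h_norm _ ⟨_, rfl⟩) hv))) (one_mem _) (e2.trans (mul_one _).symm)).symm
  have c58 : ∀ α β : Kˣ, chi σ 6 α β = 1 → chi σ 5 α β = (β : K)⁻¹ ∧ chi σ 8 α β = β := fun α β h => by
    have e : (α : K) * β ^ 2 = 1 := T.n_eq_one (by rw [← h]; simp [chi, mon, chiT]; ring)
    have e' := congrArg σ e
    simp only [map_mul, map_pow, map_one] at e'
    constructor
    · refine eq_inv_of_mul_eq_one_left ?_
      simp [chi, mon, chiT]; linear_combination ((α : K) * β ^ 2 + 1) * (σ α * σ β ^ 2) * e + e'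
    · simp [chi, mon, chiT]; linear_combination β * (σ α * σ β ^ 2) * e + β * e'
  have ff : ∀ t, f (f t) = t := fun t => by
    by_cases ht : t = 0
    · simp [ht]
    obtain ⟨y, hy⟩ := ex ((Units.mk0 t ht ^ 2)⁻¹, Units.mk0 t ht)
    have h6 : chi σ 6 (Units.mk0 t ht ^ 2)⁻¹ (Units.mk0 t ht) = 1 := by simp [chi, mon, chiT]; field_simp; simp [ht]
    have e1 := hf _ _ hy
    have e2 := hf _ _ (pin_ww h2 hy)
    rw [(c58 _ _ h6).1, (c58 _ _ (h5 _ _ hy h6)).2] at e1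
    rw [(c58 _ _ h6).2, (c58 _ _ (h5 _ _ hy h6)).1, e1] at e2
    simpa only [map_inv₀, inv_inv, Units.val_mk0] using e2.symm
  obtain ⟨y, hy⟩ := ex (α, β)
  have e1 := hf _ _ hy
  have e2 := hf _ _ (pin_ww h2 hy)
  rw [T.aut_eq_id f ff] at e1 e2
  rw [hy, T.chi_bij.1 (a₁ := y) (a₂ := (α⁻¹, α * β)) (Prod.ext (Units.ext ?_) (Units.ext ?_))]
  · change chi σ 5 _ _ = chi σ 5 _ _
    rw [← e2]; simp [chi, mon, chiT]; field_simp
  · change chi σ 8 _ _ = chi σ 8 _ _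
    rw [e1]; simp [chi, mon, chiT]; field_simp

theorem OT.cent_h (T : OT σ sz G) {x : G} (hx : x ∈ T.R) {α : Kˣ} (hα : α ≠ 1)
    (h : T.h (α, 1) * x * (T.h (α, 1))⁻¹ = x) : x ∈ T.pat [10, 11] := by
  obtain ⟨p, hp, rfl⟩ := (T.mem_pat (by decide)).1 hx
  have e : (fun j => chi σ j α 1 * p j) = p := T.inj (Eq.trans (by simp only [OC.nf, nfg, ← T.h_g, conj_mul]) h)
  have h1 : (α : K) ≠ 1 := fun e => hα (Units.ext e)
  have h2 : σ α ≠ 1 := fun e => h1 (σ.injective (by rw [e, map_one]))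
  have h3 : α * σ α ≠ 1 := fun e => h1 (T.n_eq_one e)
  have h4 : (α : K) ^ 2 * σ α ≠ 1 := fun e => h2 (T.n_eq_one (by rw [T.ss, mul_comm, e]))
  have c : ∀ j, j ∉ ([10, 11] : List (Fin 12)) → chi σ j α 1 ≠ 1 := fun j hj => by
    fin_cases j <;> simp [chi, mon, chiT, h1, h2, h3, h4] at hj ⊢
  exact T.nf_mem_of fun j hj => by_contra fun h0 => c j hj (mul_right_cancel₀ h0 ((congrFun e j).trans (one_mul _).symm))

theorem OC.pin_suz (O : OC σ sz G) (hq : Big K) {w : G} {Y Z Y' Z' : K → G}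
    (hY : ∀ t u, Y t * Y u = Y (t + u) * Z (t * σ u)) (hY' : ∀ t u, Y' t * Y' u = Y' (t + u) * Z' (t * σ u))
    (hZ' : ∀ t u, Z' t * Z' u = Z' (t + u)) (hc : ∀ t u, Z' u * Y' t = Y' t * Z' u) (Y0 : Y 0 = 1) (Y0' : Y' 0 = 1)
    (Z0' : Z' 0 = 1) (inj : Function.Injective Z') {c d : K} (h1 : w * Y 1 * w⁻¹ = Y' c * Z' d)
    (h : ∀ t, t ≠ 0 → ∃ y : G, w * Y t * w⁻¹ = y * (w * Y 1 * w⁻¹) * y⁻¹ ∧ (∀ u, y * Y' u * y⁻¹ = Y' (t * u)) ∧
      ∀ u, y * Z' u * y⁻¹ = Z' (t * σ t * u)) :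
    (∀ t, w * Y t * w⁻¹ = Y' (t * c)) ∧ ∀ t, w * Z t * w⁻¹ = Z' (c * σ c * t) := by
  have := O.charP
  have e : ∀ t, w * Y t * w⁻¹ = Y' (t * c) * Z' (t * σ t * d) := fun t => by
    by_cases ht : t = 0
    · simp [ht, Y0, Y0', Z0']
    · obtain ⟨y, e1, e2, e3⟩ := h t ht
      rw [e1, h1, ← conj_mul, e2, e3]
  have m : ∀ t u, w * Y t * w⁻¹ * (w * Y u * w⁻¹) =
      Y' ((t + u) * c) * Z' (t * c * σ (u * c) + (t * σ t * d + u * σ u * d)) := fun t u => by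
    rw [e, e, mul_assoc, ← mul_assoc (Z' _), hc, mul_assoc, hZ', ← mul_assoc, hY', mul_assoc, hZ', add_mul]
  have ez : ∀ t, w * Z t * w⁻¹ = Z' (c * σ c * t) := fun t => by
    obtain ⟨u, rfl⟩ := O.n_surj t
    have := m u u
    rw [conj_mul, hY, O.add_self, O.add_self, Y0, one_mul, zero_mul, Y0', one_mul, map_mul] at this
    rw [this]; congr 1; ring
  obtain ⟨t, ht0, ht1⟩ := hq
  have e1 := m t 1
  rw [conj_mul, hY, ← conj_mul, e, ez, mul_assoc, hZ'] at e1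
  have e2 := inj (mul_left_cancel e1)
  simp only [map_add, map_one, one_mul, mul_one] at e2
  have e3 : (σ t + t) * d = 0 := by grind
  have d0 : d = 0 := (mul_eq_zero.1 e3).resolve_left fun e => by
    rcases O.fix_sig (O.add_eq_zero.1 e) with e | e <;> contradiction
  exact ⟨fun t => by rw [e, d0, mul_zero, Z0', mul_one], ez⟩

theorem OT.pin3b (T : OT σ sz G) (hq : Big K) {w : G} (hw : T.Sw w) (h2 : w * w = 1)
    (hh : ∀ α β, w * T.h (α, β) * w⁻¹ = T.h (α⁻¹, α * β)) (h8 : w * T.g 8 1 * w⁻¹ = T.g 5 1) (j : Fin 12) (hj : 0 < j)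
    (t : K) : w * T.g j t * w⁻¹ = T.g (p1 j) t := by
  have := T.charP
  obtain ⟨l, hl0, hl1⟩ := id hq
  have hl : Units.mk0 l hl0 ≠ 1 := fun e => hl1 (congrArg Units.val e)
  generalize Units.mk0 l hl0 = l at hl
  have mR : ∀ j t, j ≠ 0 → w * T.g j t * w⁻¹ ∈ T.R := fun j t hj =>
    OC.pin_nm hw.norm (T.g_mem (by revert j; decide) t)
  have A : ∃ c d, w * T.g 7 1 * w⁻¹ = T.g 4 c * T.g 5 d := by
    obtain ⟨c, z, hz, e⟩ := (T.mem_cons (k := 4) (S := [5]) (by decide)).1 (T.cent_h8 hl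
      (T.pat_le_U _ (mR 7 1 (by decide))) (by
        rw [← T.h_h8, ← pin_ww h2 (hh _ _)]
        refine Commute.map (Commute.symm ?_) (MulAut.conj w)
        rw [Commute, SemiconjBy, ← mul_inv_eq_iff_eq_mul, T.h_g]
        congr 1; simp [chi, mon, chiT]))
    obtain ⟨d, rfl⟩ := T.mem_Z.1 hz
    exact ⟨c, d, e⟩
  obtain ⟨c, d, A⟩ := A
  obtain ⟨e7, e8⟩ := T.pin_suz hq T.a7 T.a4 T.a5 T.r4_5 (T.g_zero _) (T.g_zero _) (T.g_zero _) (T.g_inj 5) A
    fun t ht => ⟨T.h ((Units.mk0 t ht)⁻¹, Units.mk0 t ht * 1), by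
      rw [← hh (Units.mk0 t ht) 1, ← pin_cj, T.h_g]; simp [chi, mon, chiT],
      fun u => by rw [T.h_g]; congr 1; simp [chi, mon, chiT, ht]; field_simp; simp [ht], fun u => by
        rw [T.h_g]; congr 1; simp [chi, mon, chiT]; field_simp; simp⟩
  obtain rfl : c = 1 := T.n_eq_one (by simpa using T.g_inj 5 ((e8 1).symm.trans h8))
  simp only [mul_one, map_one, one_mul] at e7 e8
  have B : ∃ c d, w * T.g 1 1 * w⁻¹ = T.g 10 c * T.g 11 d := by
    obtain ⟨c, z, hz, e⟩ := (T.mem_cons (k := 10) (S := [11]) (by decide)).1 (T.cent_h (mR 1 1 (by decide)) hl (by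
        rw [← pin_ww h2 (hh _ _), ← pin_cj, T.h_g]
        simp [chi, mon, chiT]))
    obtain ⟨d, z, hz', rfl⟩ := (T.mem_cons (k := 11) (S := []) (by decide)).1 hz
    rw [T.pat_nil, mem_bot] at hz'
    exact ⟨c, d, by rw [e, hz', mul_one]⟩
  obtain ⟨c, d, B⟩ := B
  obtain ⟨e1, e2⟩ := T.pin_suz hq T.a1 T.a10 T.a11 T.r10_11 (T.g_zero _) (T.g_zero _) (T.g_zero _) (T.g_inj 11) B
    fun t ht => ⟨T.h ((Units.mk0 t ht)⁻¹, Units.mk0 t ht * 1), by
      rw [← hh (Units.mk0 t ht) 1, ← pin_cj, T.h_g]; simp [chi, mon, chiT],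
      fun u => by rw [T.h_g]; simp [chi, mon, chiT], fun u => by rw [T.h_g]; simp [chi, mon, chiT]⟩
  have e4 : ∀ t, w * T.g 4 t * w⁻¹ = T.g 7 t := fun t => pin_ww h2 (e7 t)
  have e5 : ∀ t, w * T.g 5 t * w⁻¹ = T.g 8 t := fun t => pin_ww h2 (e8 t)
  have cj : ∀ {a b c : G}, b * a = a * (c * b) →
      w * c * w⁻¹ = (w * a * w⁻¹)⁻¹ * ((w * b * w⁻¹) * (w * a * w⁻¹) * (w * b * w⁻¹)⁻¹) := fun {a b c} h => by
    rw [show c = a⁻¹ * (b * a) * b⁻¹ by rw [h]; group]; group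
  have e6 : ∀ t, w * T.g 6 t * w⁻¹ = T.g 6 t := fun t => by
    have := cj (T.r4_7 t 1)
    rw [mul_one, e4, e7] at this
    rw [this]; simp only [T.col]
  obtain rfl : c = 1 := by
    have := cj (T.r1_6 1 1)
    rw [e1, e5, e6] at this
    simp only [T.col] at this
    exact (T.g_inj 8 this).symm
  simp only [mul_one, map_one, one_mul] at e1 e2
  have e3 : ∀ t, w * T.g 3 t * w⁻¹ = T.g 9 t := fun t => by
    have := cj (T.r1_4 t 1)
    rw [mul_one, e4, e1] at this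
    rw [this]; simp only [T.col]
  fin_cases j
  exacts [absurd hj (by decide), e1 t, e2 t, e3 t, e4 t, e5 t, e6 t, e7 t, e8 t, pin_ww h2 (e3 t), pin_ww h2 (e1 t),
    pin_ww h2 (e2 t)]


theorem OT.pin3 (T : OT σ sz G) (H : T.Hyp) (hq : Big K) (hs : T.Sym) {w : G} (hw : T.Sw w) (h2 : w * w = 1)
    (hn : w ∈ normalizer (T.H : Set G)) : ∃ O : OP σ sz G, O.toOT = T := by
  have hh := T.pin3a H hq hw h2 hn
  obtain ⟨c, hc⟩ := T.mem_Z.1 (hw.z6 _ (T.g_mem (S := [8]) (j := 8) (by decide) 1))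
  have c0 : c ≠ 0 := fun e => one_ne_zero (T.g_eq_one.1 (show T.g 8 1 = 1 by
    rw [e, T.g_zero] at hc; simpa using hc))
  obtain ⟨β, rfl⟩ : ∃ β : Kˣ, (β : K) = c := ⟨Units.mk0 c c0, rfl⟩
  obtain ⟨y, hy⟩ : ∃ y, y = T.h ((β ^ 2)⁻¹, β) := ⟨_, rfl⟩
  have w2 : y * w * (y * w) = 1 := by
    rw [show y * w * (y * w) = y * (w * y * w⁻¹) * (w * w) by group, h2, hy, hh, ← map_mul, mul_one, ← map_one T.h]
    congr 1; ext <;> simp [sq]
  have hh' : ∀ α β, y * w * T.h (α, β) * (y * w)⁻¹ = T.h (α⁻¹, α * β) := fun α β => by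
    rw [show y * w * T.h (α, β) * (y * w)⁻¹ = y * (w * T.h (α, β) * w⁻¹) * y⁻¹ by group, hh, hy, ← map_inv,
      ← map_mul, ← map_mul, mul_inv_cancel_comm]
  have hg := T.pin3b hq (hw.P0_mul (T.H_le_P0 ⟨_, hy.symm⟩)) w2 hh' (by
    rw [show y * w * T.g 8 1 * (y * w)⁻¹ = y * (w * T.g 8 1 * w⁻¹) * y⁻¹ by group, hc, hy, T.h_g]
    congr 1; simp [chi, mon, chiT]; field_simp)
  generalize y * w = w at w2 hh' hg
  refine ⟨{ toOT := T, n1 := w, n1_sq := w2, n1_g := hg, tri := ?_, n1_h := hh' }, rfl⟩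
  obtain ⟨s, t, e⟩ := T.mem_V.1 (H.cent_R (hs w hg))
  obtain ⟨l, hl0, hl1⟩ := hq
  obtain ⟨l, rfl⟩ : ∃ β : Kˣ, (β : K) = l := ⟨Units.mk0 l hl0, rfl⟩
  have e1 : T.h (1, l) * (T.g 0 1 * w) ^ 3 * (T.h (1, l))⁻¹ = (T.g 0 1 * w) ^ 3 := by
    have : T.h (1, l) * w * (T.h (1, l))⁻¹ = w := by
      have := hh' 1 l
      rw [inv_one, one_mul, mul_inv_eq_iff_eq_mul] at this
      rw [← this, mul_inv_cancel_right]
    rw [← conj_pow, ← conj_mul, this, T.h_g]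
    simp [chi, mon, chiT]
  rw [e, ← conj_mul, T.h_g, T.h_g] at e1
  have e2 := T.V_inj e1
  have h3 : (l : K) ^ 3 * σ l ^ 2 ≠ 1 := fun e => hl1 (T.n_eq_one (T.n_eq_one (by
    rw [map_mul, T.ss, ← e]; ring)))
  simp [chi, mon, chiT, h3, mul_left_eq_self₀] at e2
  rw [e, e2.1, e2.2, T.g_zero, T.g_zero, one_mul]

end CfsgLib.F42
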