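import Mathlib
import Cfsg.Agent.Lib.F42.Bit

/-! # F42: the finite checks for the uniqueness of the amalgam for `q = 2` (package QPIN) -/

set_option autoImplicit false
set_option Elab.async false

namespace CfsgLib.F42.QP

/-- multiply a collected word by a word on the left -/
def insl (W L : List (Fin 12)) : List (Fin 12) := W.foldr (ins 40) L

def srt (L : List (Fin 12)) : Bool := L.isSublist [0, 1, 2, 3, 4, 5, 6, 7, 8, 9, 10, 11]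

/-- the two words may have the same value -/
def maybe (A B : List (Fin 12)) : Bool := A == B || !(srt A && srt B)

/-- `u` or `u n8 v` -/
abbrev St : Type := List (Fin 12) × Option (List (Fin 12))

def stepN (q b : List (Fin 12)) : Option (List (Fin 12)) → Option St
  | none => some (col2 q, some b)
  | some v => if b = [] then some (insl q v, none)
    else if b = [10] then some (insl q [10], some (insl [11] v))
    else if b = [11] then some (insl q [10, 11], some (insl [10] v))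
    else if b = [10, 11] then some (insl q [11], some (insl [10, 11] v)) else none

def stepC : Option (Fin 12) → Option St → Option St
  | _, none => none
  | some a, some s => some (ins 40 a s.1, s.2)
  | none, some s => stepN ((s.1.takeWhile (· < 10)).map p8) (s.1.dropWhile (· < 10)) s.2

def evC (W : List (Option (Fin 12))) : Option St := W.foldr stepC (some ([], none))

def eqC (W W' : List (Option (Fin 12))) : Bool :=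
  match evC W with
  | none => false
  | some s => evC W' == some s

def evT (a b c : List (Fin 12)) (T : List (Fin 3)) : List (Fin 12) :=
  T.foldr (fun i => insl (if i = 0 then a else if i = 1 then b else c)) []

def yp (Y : List (Fin 12)) : List (Fin 12) := col2 (0 :: Y ++ [0])

def nstep (b g : Fin 12) (L : List (Fin 12)) : List (Fin 12) :=
  if b ∈ L then col2 (g :: L ++ inv2 [g]) else L

def nrm (L : List (Fin 12)) : List (Fin 12) := nstep 6 3 (nstep 3 2 (nstep 7 1 L))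

def tests : List (List (Fin 3)) :=
  [[0, 0, 0, 0], [2, 0, 2, 0, 2, 0, 2, 0], [2, 0, 2, 0, 1, 0, 0, 1, 0, 0], [1, 0, 2, 0, 2, 0, 0, 1, 0, 0]]

structure Cert where
  Y : List (Fin 12)
  X : List (Fin 12)
  LL : List (List (Fin 12))
  BB : List (List (Fin 12))
  TT : List (List (Fin 3))

namespace Cert

variable (c : Cert)

def L (j : Fin 12) : List (Fin 12) := c.LL.getD j []
def B (j : Fin 12) : List (Fin 12) := c.BB.getD j []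
def T (j : Fin 12) : List (Fin 3) := c.TT.getD j []
def f (W : List (Fin 12)) : List (Fin 12) := W.flatMap c.L
def n : List (Option (Fin 12)) := c.X.map some ++ [none]
def s (W : List (Fin 12)) : List (Option (Fin 12)) := (c.f W).map some

def Valid : Prop :=
  (∀ j, col2 (c.L j ++ c.L j) = col2 (c.f (cm j j))) ∧
  (∀ j k, j < k → col2 (c.L k ++ c.L j) = col2 (c.L j ++ (c.f (cm j k) ++ c.L k))) ∧
  eqC (c.n ++ c.n) [] ∧ (∀ j, j < 10 → eqC (c.n ++ c.s [j]) (c.s [p8 j] ++ c.n)) ∧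
  eqC (c.n ++ c.s [10] ++ c.n) (c.s [10] ++ c.n ++ c.s [11]) ∧
  eqC (c.n ++ c.s [11] ++ c.n) (c.s [10, 11] ++ c.n ++ c.s [10]) ∧
  eqC (c.n ++ c.s [10, 11] ++ c.n) (c.s [11] ++ c.n ++ c.s [10, 11]) ∧
  (∀ j, 0 < j → evT [1] c.Y (yp c.Y) (c.T j) = c.L j ∧ evT c.Y [1] (yp c.Y) (c.T j) = c.L (p1 j)) ∧
  (∀ j, col2 (c.f (c.B j)) = [j]) ∧ c.L 0 = [0] ∧ c.L 5 = [5]

instance : Decidable c.Valid := by unfold Valid; infer_instance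

end Cert

def certs : List Cert := [
  ⟨[10], [],
    [[0], [1], [2], [3], [4], [5], [6], [7], [8], [9], [10], [11]],
    [[0], [1], [2], [3], [4], [5], [6], [7], [8], [9], [10], [11]],
    [[], [0], [0, 0], [2, 1, 2, 2, 1, 2, 1, 1], [2, 0, 1, 0, 1, 1, 0], [2, 1, 2, 1, 2, 1, 2, 1], [0, 2, 0, 1, 2, 0, 1, 0, 0, 0], [2, 1, 0, 1, 0, 0, 1], [2, 0, 2, 0, 2, 0, 2, 0], [2, 0, 2, 2, 0, 2, 0, 0], [1], [1, 1]]⟩,
  ⟨[5, 10], [],
    [[0], [1], [2], [3], [4], [5], [6], [7], [8], [9], [5, 10], [11]],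
    [[0], [1], [2], [3], [4], [5], [6], [7], [8], [9], [5, 10], [11]],
    [[], [0], [0, 0], [2, 1, 2, 2, 1, 2, 1, 1], [2, 0, 1, 0, 1, 1, 0], [2, 1, 2, 1, 2, 1, 2, 1], [0, 2, 0, 1, 2, 0, 1, 0, 0, 0], [2, 1, 0, 1, 0, 0, 1], [2, 0, 2, 0, 2, 0, 2, 0], [2, 0, 2, 2, 0, 2, 0, 0], [1], [1, 1]]⟩,
  ⟨[8, 10], [],
    [[0], [1, 5], [2], [3], [4, 5], [5], [6], [5, 7], [8], [9], [10], [11]],
    [[0], [1, 5], [2], [3], [4, 5], [5], [6], [5, 7], [8], [9], [10], [11]],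
    [[], [1, 0, 2, 2, 0, 0, 1], [0, 0], [2, 1, 2, 2, 1, 2, 1, 1], [2, 0, 1, 0, 1, 1, 0], [2, 1, 2, 1, 2, 1, 2, 1], [0, 2, 0, 1, 2, 0, 1, 0, 0, 0], [2, 1, 0, 1, 0, 0, 1], [2, 0, 2, 0, 2, 0, 2, 0], [2, 0, 2, 2, 0, 2, 0, 0], [0, 1, 2, 2, 1, 1, 0], [1, 1]]⟩,
  ⟨[5, 8, 10], [],
    [[0], [1, 5], [2], [3], [4, 5], [5], [6], [5, 7], [8], [9], [5, 10], [11]],
    [[0], [1, 5], [2], [3], [4, 5], [5], [6], [5, 7], [8], [9], [5, 10], [11]],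
    [[], [1, 0, 2, 2, 0, 0, 1], [0, 0], [2, 1, 2, 2, 1, 2, 1, 1], [2, 0, 1, 0, 1, 1, 0], [2, 1, 2, 1, 2, 1, 2, 1], [0, 2, 0, 1, 2, 0, 1, 0, 0, 0], [2, 1, 0, 1, 0, 0, 1], [2, 0, 2, 0, 2, 0, 2, 0], [2, 0, 2, 2, 0, 2, 0, 0], [0, 1, 2, 2, 1, 1, 0], [1, 1]]⟩,
  ⟨[4, 9, 10, 11], [1, 5, 7, 8],
    [[0], [1, 2], [2], [3, 5], [4, 6], [5], [6], [7, 8], [8], [6, 8, 9], [4, 5, 8, 9, 10], [5, 8, 11]],
    [[0], [1, 2], [2], [3, 5], [4, 6], [5], [6], [7, 8], [8], [6, 8, 9], [4, 8, 9, 10], [5, 8, 11]],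
    [[], [0, 0, 0], [0, 0], [2, 2, 1, 2, 1, 1, 2, 1], [0, 1, 0, 0, 1, 2, 1], [2, 1, 2, 1, 2, 1, 2, 1], [0, 2, 0, 1, 2, 0, 1, 0, 0, 0], [1, 0, 1, 1, 0, 2, 0], [2, 0, 2, 0, 2, 0, 2, 0], [2, 2, 0, 2, 0, 0, 2, 0], [1, 1, 1], [1, 1]]⟩,
  ⟨[4, 5, 9, 10, 11], [1, 5, 7, 8],
    [[0], [1, 2], [2], [3, 5], [4, 6], [5], [6], [7, 8], [8], [6, 8, 9], [4, 8, 9, 10], [5, 8, 11]],
    [[0], [1, 2], [2], [3, 5], [4, 6], [5], [6], [7, 8], [8], [6, 8, 9], [4, 5, 8, 9, 10], [5, 8, 11]],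
    [[], [0, 0, 0], [0, 0], [2, 2, 1, 2, 1, 1, 2, 1], [0, 1, 0, 0, 1, 2, 1], [2, 1, 2, 1, 2, 1, 2, 1], [0, 2, 0, 1, 2, 0, 1, 0, 0, 0], [1, 0, 1, 1, 0, 2, 0], [2, 0, 2, 0, 2, 0, 2, 0], [2, 2, 0, 2, 0, 0, 2, 0], [1, 1, 1], [1, 1]]⟩,
  ⟨[4, 8, 9, 10, 11], [1, 3, 5, 6, 7, 8],
    [[0], [1, 2], [2], [3, 5], [4, 5, 6], [5], [6], [5, 7, 8], [8], [6, 8, 9], [4, 5, 9, 10], [5, 8, 11]],
    [[0], [1, 2], [2], [3, 5], [4, 5, 6], [5], [6], [5, 7, 8], [8], [6, 8, 9], [4, 5, 9, 10], [5, 8, 11]],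
    [[], [0, 0, 0], [0, 0], [2, 2, 1, 2, 1, 1, 2, 1], [0, 1, 0, 0, 1, 2, 1], [2, 1, 2, 1, 2, 1, 2, 1], [0, 2, 0, 1, 2, 0, 1, 0, 0, 0], [1, 0, 1, 1, 0, 2, 0], [2, 0, 2, 0, 2, 0, 2, 0], [2, 2, 0, 2, 0, 0, 2, 0], [1, 1, 1], [1, 1]]⟩,
  ⟨[4, 5, 8, 9, 10, 11], [1, 3, 5, 6, 7, 8],
    [[0], [1, 2], [2], [3, 5], [4, 5, 6], [5], [6], [5, 7, 8], [8], [6, 8, 9], [4, 9, 10], [5, 8, 11]],
    [[0], [1, 2], [2], [3, 5], [4, 5, 6], [5], [6], [5, 7, 8], [8], [6, 8, 9], [4, 9, 10], [5, 8, 11]],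
    [[], [0, 0, 0], [0, 0], [2, 2, 1, 2, 1, 1, 2, 1], [0, 1, 0, 0, 1, 2, 1], [2, 1, 2, 1, 2, 1, 2, 1], [0, 2, 0, 1, 2, 0, 1, 0, 0, 0], [1, 0, 1, 1, 0, 2, 0], [2, 0, 2, 0, 2, 0, 2, 0], [2, 2, 0, 2, 0, 0, 2, 0], [1, 1, 1], [1, 1]]⟩]

set_option maxRecDepth 100000 in
theorem chk1 : ∀ n < 2048, maybe (col2 (dec (2 * n) ++ [6])) (insl [8, 6] (dec (2 * n))) →
    (nrm (dec (2 * n))).isSublist [2, 4, 5, 8, 9, 10, 11] ∧ 10 ∈ nrm (dec (2 * n)) := by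
  decide +kernel

theorem chk2 : ∀ Y ∈ ([2, 4, 5, 8, 9, 10, 11] : List (Fin 12)).sublists, 10 ∈ Y →
    (∃ c ∈ certs, c.Y = Y) ∨
      ∃ T ∈ tests, evT [1] Y (yp Y) T = [] ∧ ¬ maybe (evT Y [1] (yp Y) T) [] := by
  decide +kernel

theorem chk3 : ∀ c ∈ certs, c.Valid := by decide +kernel

end CfsgLib.F42.QP
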