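import Mathlib
import Cfsg.Agent.Lib.F42.Pin2
import Cfsg.Agent.Lib.F42.QPinC

/-! # F42: uniqueness of the amalgam for `q = 2` (package QPIN, together with `Bit`) -/

set_option autoImplicit false
set_option Elab.async false
set_option linter.unusedSectionVars false

namespace CfsgLib.F42

open Subgroup
open scoped commutatorElement

variable {K : Type*} [Field K] [Finite K] {G : Type*} [Group G] [Finite G] {σ : K →+* K} {sz : Sz K}

namespace QP

/-- the relations of `C` for `q = 2` -/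
structure Rel2 (x : Fin 12 → G) (n : G) : Prop where
  add : ∀ j, x j * x j = ((cm j j).map x).prod
  rel : ∀ j k, j < k → x k * x j = x j * (((cm j k).map x).prod * x k)
  sq : n * n = 1
  ng : ∀ j, j < 10 → n * x j * n⁻¹ = x (p8 j)
  s1 : n * x 10 * n = x 10 * n * x 11
  s2 : n * x 11 * n = x 10 * x 11 * n * x 10
  s3 : n * (x 10 * x 11) * n = x 11 * n * (x 10 * x 11)

theorem rel2_self (O : OC σ (sz2 K) G) : Rel2 (fun j => O.g j 1) O.n8 where
  add := O.wd_sq
  rel j k h := by rw [O.rel j k h, O.wd_cw, cm, min_eq_left h.le, max_eq_right h.le]; rfl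
  sq := O.n8_sq
  ng j hj := O.n8_g j hj 1
  s1 := by simpa [sz2, nfg, O.g_zero] using O.suz 1 0 (by simp)
  s2 := by simpa [sz2, nfg, O.g_zero] using O.suz 0 1 (by simp)
  s3 := by simpa [sz2, nfg, O.g_zero, O.add_self] using O.suz 1 1 (by simp)

theorem prod_pair {G' : Type*} [Group G'] (x : Fin 12 → G) (y : Fin 12 → G') (L : List (Fin 12)) :
    (L.map fun j => (x j, y j)).prod = ((L.map x).prod, (L.map y).prod) := by
  induction L with
  | nil => rfl
  | cons a L ih => simp only [List.map_cons, List.prod_cons, ih, Prod.mk_mul_mk]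

theorem Rel2.prod {x y : Fin 12 → G} {n m : G} (h : Rel2 x n) (k : Rel2 y m) :
    Rel2 (fun j => (x j, y j)) (n, m) where
  add j := by rw [prod_pair]; exact Prod.ext (h.add j) (k.add j)
  rel j i e := by rw [prod_pair]; exact Prod.ext (h.rel j i e) (k.rel j i e)
  sq := Prod.ext h.sq k.sq
  ng j hj := Prod.ext (h.ng j hj) (k.ng j hj)
  s1 := Prod.ext h.s1 k.s1
  s2 := Prod.ext h.s2 k.s2
  s3 := Prod.ext h.s3 k.s3

open _root_.Classical in
/-- the generators with parameters -/
noncomputable def gg (K : Type*) [Field K] (x : Fin 12 → G) (j : Fin 12) (t : K) : G :=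
  if t = 0 then 1 else x j

theorem gg_zero (x : Fin 12 → G) (j : Fin 12) : gg K x j 0 = 1 := if_pos rfl

theorem gg_one (x : Fin 12 → G) (j : Fin 12) : gg K x j 1 = x j := if_neg one_ne_zero

theorem gg_mul (x : Fin 12 → G) (j : Fin 12) {a : K} (ha : a ≠ 0) (t : K) : gg K x j (a * t) = gg K x j t := by
  by_cases ht : t = 0
  · rw [ht, mul_zero]
  · rw [gg, gg, if_neg ht, if_neg (mul_ne_zero ha ht)]

theorem ev_one (x : Fin 12 → G) {j k : Fin 12} (h : j ≤ k) :
    ev (gg K x) (cw σ j k 1 1) = ((cm j k).map x).prod := by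
  simp [ev, cw, cm, mon, Function.comp_def, gg_one, min_eq_left h, max_eq_right h]

theorem ev_zero (x : Fin 12 → G) (j k : Fin 12) {t u : K} (h : t = 0 ∨ u = 0) :
    ev (gg K x) (cw σ j k t u) = 1 := by
  have e : ∀ j k, ∀ m ∈ cwT j k, (m.2.1 ≠ 0 ∨ m.2.2.1 ≠ 0) ∧ (m.2.2.2.1 ≠ 0 ∨ m.2.2.2.2 ≠ 0) := by
    decide +kernel
  refine List.prod_eq_one fun y hy => ?_
  simp only [cw, List.map_map, List.mem_map, Function.comp_apply] at hy
  obtain ⟨m, hm, rfl⟩ := hy
  obtain ⟨h1, h2⟩ := e j k m hm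
  have : mon σ t u m.2 = 0 := by
    rcases h with rfl | rfl
    · rcases h1 with h1 | h1 <;> simp [mon, h1]
    · rcases h2 with h2 | h2 <;> simp [mon, h2]
  rw [this, gg_zero]

/-- coordinates from the relations -/
noncomputable def Rel2.oc {x : Fin 12 → G} {n : G} (h : Rel2 x n) (h2 : Two K) (ss : ∀ t, σ (σ t) = t ^ 2)
    (two : (1 : K) + 1 = 0) (inj : Function.Injective (nfg (gg K x))) : OC σ (sz2 K) G where
  g := gg K x
  n8 := n
  h8 := 1
  ss := ss
  add j t u := by
    rcases h2 t with rfl | rfl <;> rcases h2 u with rfl | rfl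
    iterate 3 simp [ev_zero, gg_zero]
    rw [two, gg_zero, gg_one, ev_one x le_rfl, one_mul, h.add]
  rel j k e t u := by
    rcases h2 t with rfl | rfl <;> rcases h2 u with rfl | rfl
    iterate 3 simp [ev_zero, gg_zero]
    rw [gg_one, gg_one, ev_one x e.le, h.rel j k e]
  inj := inj
  n8_sq := h.sq
  n8_g j hj t := by
    rcases h2 t with rfl | rfl
    · simp [gg_zero]
    · rw [gg_one, gg_one, h.ng j hj]
  h8_g l j t := by simp [gg_mul x j (wt8_ne j l)]
  n8_h8 l := by simp
  suz s u e := by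
    rcases h2 s with rfl | rfl <;> rcases h2 u with rfl | rfl
    · simp at e
    · simpa [sz2, nfg, gg_zero, gg_one] using h.s2
    · simpa [sz2, nfg, gg_zero, gg_one] using h.s1
    · simpa [sz2, nfg, gg_zero, gg_one, two] using h.s3

variable (O : OC σ (sz2 K) G)

theorem gg_self (h2 : Two K) : gg K (fun j => O.g j 1) = O.g := by
  funext j t
  rcases h2 t with rfl | rfl
  exacts [(gg_zero _ j).trans (O.g_zero j).symm, gg_one _ j]

theorem wd_mem (L : List (Fin 12)) : O.wd L ∈ O.U :=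
  list_prod_mem fun _ h => by obtain ⟨j, -, rfl⟩ := List.mem_map.1 h; exact O.g_mem_U j 1

theorem gg_inj (h2 : Two K) {x : Fin 12 → G} {n : G} (h : Rel2 x n) (hx : ∀ j, x j ∈ O.U)
    (hB : ∀ j, ∃ B : List (Fin 12), O.g j 1 = (B.map x).prod) : Function.Injective (nfg (gg K x)) := by
  have e : ∀ p, nfg (gg K fun j => (x j, O.g j 1)) p = (nfg (gg K x) p, O.nf p) := fun p => by
    have : ∀ j t, gg K (fun j => (x j, O.g j 1)) j t = (gg K x j t, O.g j t) := fun j t => by
      rcases h2 t with rfl | rfl <;> simp [gg_zero, gg_one, O.g_zero, Prod.one_eq_mk]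
    simp only [nfg, this, Prod.mk_mul_mk]
  let O' := (h.prod (rel2_self O)).oc h2 O.ss (O.add_self 1) fun p p' k =>
    O.inj (congrArg Prod.snd ((e p).symm.trans (k.trans (e p'))))
  have hU : O.U ≤ O'.U.map (MonoidHom.fst G G) := O.pat_le.2 fun j _ t => by
    rcases h2 t with rfl | rfl
    · rw [O.g_zero]; exact one_mem _
    obtain ⟨B, k⟩ := hB j
    refine ⟨(B.map fun j => (x j, O.g j 1)).prod, list_prod_mem fun _ h => ?_, by rw [prod_pair, k]; rfl⟩
    obtain ⟨i, -, rfl⟩ := List.mem_map.1 h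
    exact gg_one (K := K) (fun j => (x j, O.g j 1)) i ▸ O'.g_mem_U i 1
  have hm : ∀ j t, gg K x j t ∈ O.U := fun j t => by
    unfold gg; split_ifs; exacts [one_mem _, hx j]
  let φ : (Fin 12 → K) → O.U := fun p => ⟨nfg (gg K x) p, by
    unfold nfg; repeat first | exact hm _ _ | apply mul_mem⟩
  have hφ : Function.Surjective φ := fun u => by
    obtain ⟨v, hv, k⟩ := hU u.2
    obtain ⟨p, rfl⟩ := O'.mem_U.1 hv
    exact ⟨p, Subtype.ext ((congrArg Prod.fst (e p)).symm.trans k)⟩
  exact fun p p' k => (hφ.bijective_of_nat_card_le (by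
    rw [O.card_pat (by decide) (by decide), Nat.card_fun]; simp)).1 (Subtype.ext k)

theorem wd_insl (W L : List (Fin 12)) : O.wd (insl W L) = O.wd W * O.wd L := O.wd_foldr (O.wd_ins 40) W L

theorem wd_maybe {A B : List (Fin 12)} (h : O.wd A = O.wd B) : maybe A B := by
  have s : ∀ {L}, srt L → L.Pairwise (· < ·) := fun h =>
    List.Pairwise.sublist (List.isSublist_iff_sublist.1 h) (by decide)
  by_cases k : (srt A && srt B) = true
  · rw [Bool.and_eq_true] at k
    simp [maybe, O.wd_inj (s k.1) (s k.2) h]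
  · simp [maybe, k]

/-- the value of a state -/
def val : St → G
  | (u, none) => O.wd u
  | (u, some v) => O.wd u * O.n8 * O.wd v

/-- the value of a word in the generators of `C` -/
def wdC (W : List (Option (Fin 12))) : G := (W.map fun a => a.elim O.n8 fun j => O.g j 1).prod

theorem wdC_append (W W' : List (Option (Fin 12))) : wdC O (W ++ W') = wdC O W * wdC O W' := by
  simp [wdC]

theorem wdC_some (L : List (Fin 12)) : wdC O (L.map some) = O.wd L := by
  simp [wdC, OC.wd, Function.comp_def]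

theorem stepN_sound {q b : List (Fin 12)} {v : Option (List (Fin 12))} {s : St} (h : stepN q b v = some s) :
    val O s = O.wd q * O.n8 * val O (b, v) := by
  have r := rel2_self O
  cases v with
  | none => obtain rfl := Option.some.inj h; simp [val, O.wd_col2]
  | some v =>
    simp only [stepN] at h
    split_ifs at h with h0 h1 h2 h3 <;> obtain rfl := Option.some.inj h <;> subst b <;>
      simp only [val, wd_insl, O.wd_cons, O.wd_nil, mul_one, one_mul, mul_assoc, mul_right_inj]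
    · rw [← mul_assoc, r.sq, one_mul]
    · simpa only [mul_assoc] using congrArg (· * O.wd v) r.s1.symm
    · simpa only [mul_assoc] using congrArg (· * O.wd v) r.s2.symm
    · simpa only [mul_assoc] using congrArg (· * O.wd v) r.s3.symm

theorem evC_sound {W : List (Option (Fin 12))} {s : St} (h : evC W = some s) : wdC O W = val O s := by
  induction W generalizing s with
  | nil => obtain rfl := Option.some.inj h; rfl
  | cons a W ih =>
    rw [evC, List.foldr_cons, ← evC] at h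
    rw [← List.singleton_append, wdC_append]
    cases e : evC W with
    | none => rw [e] at h; cases a <;> simp [stepC] at h
    | some t =>
      rw [e] at h
      rw [ih e]
      obtain ⟨u, v⟩ := t
      cases a with
      | some a =>
        obtain rfl := Option.some.inj h
        cases v <;> simp [val, wdC, O.wd_ins, mul_assoc]
      | none =>
        rw [stepN_sound O h, ← O.wd_n8 fun j hj => by simpa using List.mem_takeWhile_imp hj,
          inv_mul_cancel_right]
        conv_lhs => rw [← List.takeWhile_append_dropWhile (p := (· < 10)) (l := u)]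
        cases v <;> simp only [val, O.wd_append, mul_assoc] <;> simp [wdC]

theorem eqC_sound {W W' : List (Option (Fin 12))} (h : eqC W W') : wdC O W = wdC O W' := by
  unfold eqC at h
  split at h
  · simp at h
  · rename_i s e
    rw [evC_sound O e, evC_sound O (beq_iff_eq.1 h)]

theorem wd_f (c : Cert) (W : List (Fin 12)) : O.wd (c.f W) = (W.map fun j => O.wd (c.L j)).prod := by
  induction W with
  | nil => rfl
  | cons a W ih => rw [Cert.f, List.flatMap_cons, O.wd_append, ← Cert.f, ih]; rfl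

theorem evT_sound {w : G} {a b c a' b' c' : List (Fin 12)} (ha : w * O.wd a * w⁻¹ = O.wd a')
    (hb : w * O.wd b * w⁻¹ = O.wd b') (hc : w * O.wd c * w⁻¹ = O.wd c') (T : List (Fin 3)) :
    w * O.wd (evT a b c T) * w⁻¹ = O.wd (evT a' b' c' T) := by
  induction T with
  | nil => simp [evT, O.wd_nil]
  | cons i T ih =>
    rw [evT, evT, List.foldr_cons, List.foldr_cons, ← evT, ← evT, wd_insl, wd_insl, ← conj_mul, ih]
    split_ifs <;> simp only [ha, hb, hc]

/-- `Y` is the image of `y2` under a suitable involution -/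
def HY (w : G) (Y : List (Fin 12)) : Prop :=
  O.Sw w ∧ w * w = 1 ∧ (O.g 0 1 * w) ^ 3 = 1 ∧ w * O.g 1 1 * w⁻¹ = O.wd Y

variable {O} {w : G} {Y : List (Fin 12)}

theorem HY.evT (h : HY O w Y) (T : List (Fin 3)) :
    w * O.wd (evT [1] Y (yp Y) T) * w⁻¹ = O.wd (evT Y [1] (yp Y) T) := by
  obtain ⟨-, h2, h3, h4⟩ := h
  have wi : w⁻¹ = w := inv_eq_of_mul_eq_one_left h2
  have e1 : O.wd [1] = O.g 1 1 := mul_one _
  refine evT_sound O (e1 ▸ h4) ?_ ?_ T
  · rw [← h4, e1, wi, ← mul_assoc, ← mul_assoc, h2, one_mul, mul_assoc, h2, mul_one]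
  · have e2 : w * O.g 0 1 * w = O.g 0 1 * w * O.g 0 1 := by
      have : O.g 0 1 * w * O.g 0 1 * (w * O.g 0 1 * w) = 1 := by rw [← h3]; simp [pow_succ, mul_assoc]
      rw [← inv_eq_of_mul_eq_one_right this]
      simp only [mul_inv_rev, O.i0, wi, mul_assoc]
    have e3 : O.g 0 1 * O.g 1 1 * O.g 0 1 = O.g 1 1 := by simp only [O.col]
    rw [yp, O.wd_col2, List.cons_append, O.wd_cons, O.wd_append, O.wd_cons, O.wd_nil, mul_one, ← h4, wi]
    calc _ = w * O.g 0 1 * w * O.g 1 1 * (w * O.g 0 1 * w) := by group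
      _ = O.g 0 1 * (w * (O.g 0 1 * O.g 1 1 * O.g 0 1) * w * O.g 0 1) := by rw [e2]; group
      _ = _ := by rw [e3]

theorem HY.nstep (h : HY O w Y) (b : Fin 12) {g : Fin 12} (hg : g ∈ [1, 2, 3]) :
    ∃ w', HY O w' (nstep b g Y) := by
  unfold QP.nstep
  split_ifs
  swap
  · exact ⟨w, h⟩
  obtain ⟨h1, h2, h3, h4⟩ := h
  have hR := O.R_le_P0 (O.pat_mono (by decide) (O.g_mem hg 1))
  have c0 : Commute (O.g g 1) (O.g 0 1) :=
    O.commute_pat (B := [0]) (by decide) (O.g_mem hg 1) (O.g_mem (by decide) 1)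
  have c1 : Commute (O.g g 1) (O.g 1 1) := by
    simp only [List.mem_cons, List.not_mem_nil, or_false] at hg
    rcases hg with rfl | rfl | rfl
    exacts [Commute.refl _, O.r1_2 1 1, O.r1_3 1 1]
  refine ⟨O.g g 1 * w * (O.g g 1)⁻¹, (h1.P0_mul hR).mul_P0 (inv_mem hR), by rw [conj_mul, h2]; simp, ?_, ?_⟩
  · rw [show O.g 0 1 * (O.g g 1 * w * (O.g g 1)⁻¹) = O.g g 1 * (O.g 0 1 * w) * (O.g g 1)⁻¹ by
      rw [← mul_assoc, ← mul_assoc, ← c0.eq, mul_assoc (O.g g 1)], conj_pow, h3]; simp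
  · rw [O.wd_col2, List.cons_append, O.wd_cons, O.wd_append, O.wd_inv2, O.wd_cons, O.wd_nil, mul_one, ← h4]
    calc _ = O.g g 1 * (w * ((O.g g 1)⁻¹ * (O.g 1 1 * O.g g 1)) * w⁻¹ * (O.g g 1)⁻¹) := by group
      _ = _ := by rw [← c1.eq, inv_mul_cancel_left]

theorem HY.pre (h2 : Two K) (h : HY O w Y) : O.wd (col2 (Y ++ [6])) = O.wd (insl [8, 6] Y) := by
  obtain ⟨h1, -, -, h4⟩ := h
  have a6 : O.g 6 1 ∈ O.E2 := O.g_mem (by decide) 1
  have hE := O.norm_E2 h1.norm
  have c := h1.z _ (O.comm_mem (A := [1]) (by decide) (by decide) (by decide)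
    (O.g_mem (j := 1) (by decide) 1) (OC.pin_nm' hE a6))
  rw [show w * ⁅O.g 1 1, w⁻¹ * O.g 6 1 * w⁆ * w⁻¹ = ⁅w * O.g 1 1 * w⁻¹, O.g 6 1⁆ by
    simp only [commutatorElement_def]; group] at c
  obtain ⟨t, e⟩ := O.mem_Z6.1 c
  rcases h2 t with rfl | rfl
  · exfalso
    rw [O.g_zero, commutatorElement_eq_one_iff_commute] at e
    have hR := OC.pin_nm h1.norm (O.g_mem (by decide) 1 : O.g 1 1 ∈ O.R)
    have k : O.E2 ≤ centralizer {w * O.g 1 1 * w⁻¹} := O.pat_le.2 fun j hj t => by
      rw [mem_centralizer_singleton_iff]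
      simp only [List.mem_cons, List.not_mem_nil, or_false] at hj
      rcases hj with rfl | rfl | rfl
      · exact (O.R_cent_V hR (O.g_mem (by decide) t)).symm
      · rcases h2 t with rfl | rfl
        exacts [by simp [O.g_zero], e.symm]
      · exact (O.R_cent_V hR (O.g_mem (by decide) t)).symm
    have k2 := mem_centralizer_singleton_iff.1 (k (OC.pin_nm hE a6))
    rw [conj_mul, conj_mul, mul_left_inj, mul_right_inj, O.r1_6, mul_right_inj, mul_eq_right] at k2
    simpa using O.g_eq_one.1 k2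
  · rw [O.wd_col2, wd_insl, O.wd_append, ← h4, O.wd_cons, O.wd_cons, O.wd_cons, O.wd_nil, ← e,
      commutatorElement_def]
    group

theorem HY.op (H : O.Hyp) (h2 : Two K) {c : Cert} (hc : c.Valid) (h : HY O w c.Y) :
    ∃ O' : OP σ (sz2 K) G, O'.C = O.C ∧ O'.τ = O.τ ∧ O'.Hyp := by
  obtain ⟨v1, v2, v3, v4, v5, v6, v7, v8, v9, v10, v11⟩ := hc
  have en : wdC O c.n = O.wd c.X * O.n8 := by rw [Cert.n, wdC_append, wdC_some]; simp [wdC]
  have es : ∀ W, wdC O (c.s W) = (W.map fun j => O.wd (c.L j)).prod := fun W => by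
    rw [Cert.s, wdC_some, wd_f]
  have r : Rel2 (fun j => O.wd (c.L j)) (wdC O c.n) :=
    { add := fun j => by simpa only [O.wd_col2, O.wd_append, wd_f] using congrArg O.wd (v1 j)
      rel := fun j k e => by simpa only [O.wd_col2, O.wd_append, wd_f] using congrArg O.wd (v2 j k e)
      sq := (wdC_append O _ _).symm.trans (eqC_sound O v3)
      ng := fun j hj => by
        rw [mul_inv_eq_iff_eq_mul]; simpa [wdC_append, es] using eqC_sound O (v4 j hj)
      s1 := by simpa [wdC_append, es, mul_assoc] using eqC_sound O v5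
      s2 := by simpa [wdC_append, es, mul_assoc] using eqC_sound O v6
      s3 := by simpa [wdC_append, es, mul_assoc] using eqC_sound O v7 }
  have hB : ∀ j, O.g j 1 = ((c.B j).map fun j => O.wd (c.L j)).prod := fun j => by
    rw [← wd_f, ← O.wd_col2, v9, O.wd_cons, O.wd_nil, mul_one]
  let O' : OP σ (sz2 K) G :=
    { r.oc h2 O.ss (O.add_self 1) (gg_inj O h2 r (fun j => wd_mem O _) fun j => ⟨_, hB j⟩) with
      h := 1
      h_g := fun α β j t => by
        rw [MonoidHom.one_apply, one_mul, inv_one, mul_one]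
        exact (gg_mul (fun j => O.wd (c.L j)) j (chi_ne j α β) t).symm
      h_h8 := fun _ => rfl
      n8_h := fun _ _ => by simp
      n1 := w
      n1_sq := h.2.1
      n1_g := fun j hj t => by
        change w * gg K (fun j => O.wd (c.L j)) j t * w⁻¹ = gg K (fun j => O.wd (c.L j)) _ t
        rcases h2 t with rfl | rfl
        · simp [gg_zero]
        · rw [gg_one, gg_one, ← (v8 j hj).1, h.evT, (v8 j hj).2]
      tri := by
        change (gg K (fun j => O.wd (c.L j)) 0 1 * w) ^ 3 = 1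
        rw [gg_one, v10, O.wd_cons, O.wd_nil, mul_one, h.2.2.1]
      n1_h := fun _ _ => by simp }
  have g1 : ∀ j, O'.g j 1 = O.wd (c.L j) := fun j => gg_one (fun j => O.wd (c.L j)) j
  have hU : O'.U = O.U := le_antisymm (O'.pat_le.2 fun j _ t => by
    rcases h2 t with rfl | rfl
    exacts [O'.g_zero j ▸ one_mem _, g1 j ▸ wd_mem O _]) (O.pat_le.2 fun j _ t => by
      rcases h2 t with rfl | rfl
      · exact O.g_zero j ▸ one_mem _
      · refine hB j ▸ list_prod_mem fun _ k => ?_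
        obtain ⟨i, -, rfl⟩ := List.mem_map.1 k
        exact g1 i ▸ O'.g_mem_U i 1)
  have hτ : O'.τ = O.τ := (g1 5).trans (by rw [v11, O.wd_cons, O.wd_nil, mul_one])
  have e8 : O'.n8 = O.wd c.X * O.n8 := en
  have hC : O'.C = O.C := le_antisymm (sup_le (sup_le (hU ▸ O.U_le_C) fun _ ⟨_, e⟩ => e ▸ one_mem _)
    (zpowers_le.2 (e8 ▸ mul_mem (O.U_le_C (wd_mem O _)) O.n8_mem_C)))
    (sup_le (sup_le (hU ▸ O'.U_le_C) fun _ ⟨l, e⟩ => by
      rw [← e, show l = 1 from Units.ext ((h2 l).resolve_left l.ne_zero), map_one]; exact one_mem _)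
      (zpowers_le.2 ((mul_mem_cancel_left (O'.U_le_C (hU ▸ wd_mem O c.X))).1 (e8 ▸ O'.n8_mem_C))))
  exact ⟨O', hC, hτ, H.congr hτ hC hU⟩

end QP

open QP in
theorem OC.Hyp.pin_two {O : OC σ (sz2 K) G} (H : O.Hyp) (h2 : Two K) (hB : O.CaseB) :
    ∃ O' : OP σ (sz2 K) G, O'.C = O.C ∧ O'.τ = O.τ ∧ O'.Hyp := by
  obtain ⟨w, h1, w2, w3⟩ := H.pin1_two h2 hB
  have hx := OC.pin_nm h1.norm (O.g_mem (by decide) 1 : O.g 1 1 ∈ O.R)
  obtain ⟨n, hn, e⟩ := O.mem_two h2 (O.pat_le_U _ hx)
  have h0 : (0 : Fin 12) ∉ dec n := fun k => by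
    rw [e, O.wd_nf (dec_sorted n), O.nf_mem (by decide)] at hx
    simpa [k] using hx 0 (by decide)
  obtain ⟨m, rfl⟩ : 2 ∣ n := by simpa [dec, Nat.dvd_iff_mod_eq_zero] using h0
  have h : HY O w (dec (2 * m)) := ⟨h1, w2, w3, e⟩
  obtain ⟨k1, k2⟩ := chk1 m (by omega) (wd_maybe O (h.pre h2))
  obtain ⟨w₁, h⟩ := h.nstep 7 (g := 1) (by decide)
  obtain ⟨w₂, h⟩ := h.nstep 3 (g := 2) (by decide)
  obtain ⟨w₃, h⟩ := h.nstep 6 (g := 3) (by decide)
  change HY O w₃ (nrm _) at h
  rcases chk2 _ (List.mem_sublists.2 (List.isSublist_iff_sublist.1 k1)) k2 with ⟨c, hc, e⟩ | ⟨T, -, e1, e2⟩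
  · exact HY.op H h2 (chk3 c hc) (e ▸ h)
  · refine absurd (wd_maybe O ?_) e2
    rw [← h.evT, e1, O.wd_nil, mul_one, mul_inv_cancel]

end CfsgLib.F42
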