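import Mathlib
import Cfsg.Agent.Lib.F42.Model
import Cfsg.Agent.Lib.F42.Fin
import Cfsg.Agent.Lib.F42.Braid
import Cfsg.Agent.Lib.F42.Pin3
import Cfsg.Agent.Lib.AltSec.Small

/-!
# F42: from the hypotheses of the theorem to coordinates; the case `q > 2`
-/

set_option autoImplicit false
set_option Elab.async false

namespace CfsgLib.F42

open Subgroup Cfsg.Lie CfsgLib.Core CfsgLib.Twist

theorem top_two {Γ : Type*} [Group Γ] {C : Subgroup Γ} [C.Normal] (h : Odd C.index) {x : Γ} {k : ℕ}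
    (hx : x ^ 2 ^ k = 1) : x ∈ C := by
  obtain ⟨m, hm⟩ := exists_pow_eq_self_of_coprime (x := x) (n := C.index)
    ((Nat.coprime_two_right.2 h).pow_right k |>.coprime_dvd_right (orderOf_dvd_of_pow_eq_one hx))
  exact hm ▸ pow_mem (C.pow_index_mem x) m

theorem top_cent {Γ : Type*} [Group Γ] [Finite Γ] {C : Subgroup Γ} [C.Normal] (h : Odd C.index)
    (hO : Cfsg.oddCore Γ = ⊥) {x : Γ} (hx : Odd (orderOf x)) (hc : x ∈ centralizer (C : Set Γ)) : x = 1 := by
  set D := centralizer (C : Set Γ)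
  let f := MonoidHom.transferCenterPow D
  let N : Subgroup Γ :=
    { carrier := {d | d ∈ D ∧ (d ^ (center D).index) ^ orderOf x = 1}
      one_mem' := ⟨one_mem _, by simp⟩
      inv_mem' := fun h => ⟨inv_mem h.1, by simp [h.2]⟩
      mul_mem' := fun {a b} ha hb => ⟨mul_mem ha.1 hb.1, by
        have h1 : (a * b) ^ _ = a ^ _ * b ^ _ := congrArg (fun c : center D => (c : Γ)) (map_mul f ⟨a, ha.1⟩ ⟨b, hb.1⟩)
        have h2 : Commute (a ^ _) (b ^ _) := congrArg Subtype.val (mem_center_iff.1 (f ⟨b, hb.1⟩).2 (f ⟨a, ha.1⟩))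
        rw [h1, h2.mul_pow, ha.2, hb.2, one_mul]⟩ }
  have h1 : Odd ((center D).index * orderOf x) := Odd.mul (Odd.of_dvd_nat h ((index_dvd_of_le (H := C.subgroupOf D)
    fun c hc => mem_center_iff.2 fun d => Subtype.ext (d.2 c hc).symm).trans (relIndex_dvd_index_of_normal C D))) hx
  have h2 : N.Normal := ⟨fun d hd g => ⟨(inferInstance : D.Normal).conj_mem _ hd.1 g, by
    simp only [conj_pow, hd.2, mul_one, mul_inv_cancel]⟩⟩
  refine mem_bot.1 (hO ▸ le_pPrimeCore (N := N) ?_ ⟨hc, by rw [← pow_mul, mul_comm, pow_mul, pow_orderOf_eq_one, one_pow]⟩)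
  refine (Nat.Prime.coprime_iff_not_dvd Nat.prime_two).2 (fun h3 => ?_) |>.symm
  obtain ⟨⟨d, hd⟩, h4⟩ := exists_prime_orderOf_dvd_card' 2 h3
  rw [orderOf_mk] at h4
  exact (Nat.not_even_iff_odd.2 h1) (even_iff_two_dvd.2 (h4 ▸ orderOf_dvd_of_pow_eq_one ((pow_mul ..).trans hd.2)))

variable {K : Type*} [Field K] [Finite K] {G : Type*} [Group G] [Finite G] {σ : K →+* K} {sz : Sz K}

theorem OC.hyp_of (O : OC σ sz G) (S : Sylow 2 G) (hS : ∀ s ∈ (S : Subgroup G), s * O.τ = O.τ * s)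
    (hn : (O.C.subgroupOf (centralizer ({O.τ} : Set G))).Normal) (hρ : Odd (O.C.relIndex (centralizer ({O.τ} : Set G))))
    (hO : Cfsg.oddCore (centralizer ({O.τ} : Set G)) = ⊥) : O.Hyp := by
  have two : ∀ x ∈ centralizer ({O.τ} : Set G), (∃ k, x ^ 2 ^ k = 1) → x ∈ O.C := fun x hx ⟨k, hk⟩ =>
    top_two (C := O.C.subgroupOf _) hρ (x := ⟨x, hx⟩) (Subtype.ext hk)
  have hle : O.C ≤ centralizer ({O.τ} : Set G) := fun x hx =>
    mem_centralizer_singleton_iff.2 (O.C_cent_Z hx O.τ_mem)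
  refine ⟨two, (normal_subgroupOf_iff_le_normalizer hle).1 hn, fun P hP hU => ?_, fun x hx ho hc => ?_⟩
  · obtain ⟨c, -, hc⟩ := O.exists_conj_U S.2 fun s hs => two s (mem_centralizer_singleton_iff.2 (hS s hs))
      ((S.2 ⟨s, hs⟩).imp fun _ h => congrArg Subtype.val h)
    have h1 : ((c • S : Sylow 2 G) : Subgroup G) ≤ O.U := by
      rintro _ ⟨s, hs, rfl⟩; exact hc s hs
    exact le_antisymm (((c • S).3 hP (h1.trans hU)).le.trans h1) hU
  · exact congrArg Subtype.val (top_cent (C := O.C.subgroupOf _) hρ hO (x := ⟨x, hx⟩) (by rwa [orderOf_mk])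
      fun c hc' => Subtype.ext (hc c hc'))

omit [Finite G] in
theorem exists_phi {X : Type*} [Group X] [Finite X] (O : OP σ sz X) (hb : O.Braid) (hG : O.G0 = ⊤) (U : Sylow 2 X)
    {z : X} (hz : orderOf z = 2) (hzU : z ∈ (U : Subgroup X)) (hzc : ∀ u ∈ (U : Subgroup X), u * z = z * u)
    {C : Subgroup G} (e : C ≃* centralizer ({z} : Set X)) {τ : G} (hτ : τ ≠ 1) (hC : τ ∈ C)
    (hle : C ≤ centralizer ({τ} : Set G)) :
    ∃ (φ : O.C →* G) (hφ : Function.Injective φ), φ.range = C ∧ (O.map φ hφ).τ = τ := by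
  obtain ⟨x, rfl⟩ := O.two_central hb hG U hz hzU hzc
  have h1 : ∀ c, c ∈ O.C ↔ x * c * x⁻¹ ∈ centralizer ({x * O.τ * x⁻¹} : Set X) := fun c => by
    rw [← O.cent_τ hb, hG, top_inf_eq]
    simp only [mem_centralizer_singleton_iff, conj_mul, mul_left_inj, mul_right_inj]
  have h2 : ∀ c : centralizer ({x * O.τ * x⁻¹} : Set X), x⁻¹ * c * x ∈ O.C := fun c => (h1 _).2 (by
    convert c.2 using 1; group)
  obtain ⟨y, ⟨p, rfl⟩, hy⟩ := O.ti_conj_Z (O.cent_Q (h2 (e ⟨τ, hC⟩)) fun q hq => by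
    have := congrArg (fun c => x⁻¹ * (e c : X) * x) (show (⟨τ, hC⟩ : C) * e.symm ⟨_, (h1 q).1 (O.pat_le_C _ hq)⟩ =
      e.symm ⟨_, (h1 q).1 (O.pat_le_C _ hq)⟩ * ⟨τ, hC⟩ from Subtype.ext (hle (e.symm _).2 τ rfl))
    simpa [Commute, SemiconjBy, mul_assoc] using this) (by simpa [mul_assoc, inv_mul_eq_one, Subtype.ext_iff] using hτ)
  have h3 : ∀ c, c ∈ O.C ↔ x * O.h p * c * (x * O.h p)⁻¹ ∈ centralizer ({x * O.τ * x⁻¹} : Set X) := fun c => by
    rw [mem_normalizer_iff.1 (O.h_norm_C p), h1]; simp only [mul_assoc, mul_inv_rev]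
  let f : O.C ≃* centralizer ({x * O.τ * x⁻¹} : Set X) :=
    ((MulAut.conj (x * O.h p)).subgroupMap O.C).trans (MulEquiv.subgroupCongr (by
      ext c
      exact ⟨fun ⟨d, hd, e⟩ => e ▸ (h3 d).1 hd, fun h => ⟨_, (h3 _).2 (by
        convert h using 1; exact (MulAut.conj _).apply_symm_apply c), (MulAut.conj _).apply_symm_apply c⟩⟩))
  refine ⟨C.subtype.comp (f.trans e.symm).toMonoidHom, C.subtype_injective.comp (f.trans e.symm).injective, ?_, ?_⟩
  · rw [MonoidHom.range_comp, MonoidHom.range_eq_top.2 (f.trans e.symm).surjective, ← MonoidHom.range_eq_map,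
      range_subtype]
  · refine congrArg Subtype.val (e.symm_apply_eq.2 (Subtype.ext ?_) : e.symm (f ⟨_, O.g_mem_C 5 1⟩) = ⟨τ, hC⟩)
    change x * O.h p * O.τ * (x * O.h p)⁻¹ = _
    rw [mul_inv_rev, ← mul_assoc, mul_assoc x, mul_assoc x, hy]
    group

theorem big_of {K : Type*} [Field K] [Fintype K] {m : ℕ} (hK : Fintype.card K = 2 ^ (2 * m + 1)) (hm : 1 ≤ m) :
    Big K ∧ 4 ≤ Fintype.card K := by
  have h : 4 ≤ Fintype.card K := hK ▸ Nat.pow_le_pow_right two_pos (show 2 ≤ 2 * m + 1 by omega)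
  obtain ⟨c, h0, h1⟩ := exists_sq_ne_one h
  exact ⟨⟨c, h0, fun e => h1 (by simp [e])⟩, h⟩

theorem two_of {K : Type*} [Field K] [Fintype K] (hK : Fintype.card K = 2) : Two K := fun t => by
  have := FiniteField.pow_card t
  rw [hK] at this
  exact (mul_eq_zero.1 (show t * (t - 1) = 0 by linear_combination this)).imp id sub_eq_zero.1

theorem top_big {K : Type*} [Field K] [Fintype K] {m : ℕ} (hK : Fintype.card K = 2 ^ (2 * m + 1)) (hm : 1 ≤ m)
    {σ : K →+* K} {sz : Sz K} (O : OP σ sz (twistedF4 K (2 ^ m))) (hb : O.Braid) (hG : O.G0 = ⊤) (φ : O.C →* G)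
    (hφ : Function.Injective φ) (H : (O.map φ hφ).Hyp) (hB : (O.map φ hφ).CaseB) (hO : Cfsg.oddCore G = ⊥) :
    ∃ N : Subgroup G, N.Normal ∧ N.index = φ.range.relIndex (centralizer ({(O.map φ hφ).τ} : Set G)) ∧
      Nonempty (N ≃* twistedF4 K (2 ^ m)) := by
  obtain ⟨hq, h4⟩ := big_of hK hm
  obtain ⟨_, θ, he, hθ⟩ := exists_theta hK
  obtain ⟨T, w, h1, h2, H', h3, h5, h6, h7⟩ := pin2 O φ hφ H hq hB
  obtain ⟨O', rfl⟩ := T.pin3 H' hq h3 h5 h6 h7
  have hb' := O'.braid_big H' hq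
  obtain ⟨f⟩ := O'.equiv O hb' hb
  replace f := f.trans ((MulEquiv.subgroupCongr hG).trans topEquiv)
  obtain ⟨hs, hna⟩ := simpleF4 he hθ h4
  have := O'.fin_big H' hb' hO f.isSimpleGroup (fun h => hna ⟨⟨fun a b => f.symm.injective (by
      rw [map_mul, map_mul, h.1.1])⟩⟩) fun n ⟨g⟩ => by
    have h8 := AltSec.bound_twF4 hK (AltSec.Sec.of_hom (MonoidHom.id _) Function.injective_id
      (f.symm.trans g).toMonoidHom (f.symm.trans g).surjective)
    have h9 := (card_le_card_group O.U).trans (((Nat.card_congr (f.symm.trans g).toEquiv).le.trans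
      (card_le_card_group _)).trans_eq Nat.card_perm)
    rw [O.card_pat (by decide) (by decide), Nat.card_fin, Nat.card_eq_fintype_card] at h9
    exact absurd ((Nat.pow_le_pow_left h4 _).trans (h9.trans (Nat.factorial_le h8))) (by decide)
  exact ⟨_, this.1, by rw [this.2, h1, h2], ⟨f⟩⟩

end CfsgLib.F42
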